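import Cfsg.Agent.Suz.Partition
import Cfsg.Agent.Suz.Multiplier
import Cfsg.Agent.Suz.Aut

/-!
Relations between the standard elements of a Suzuki group, and the element of order five.
-/

set_option autoImplicit false
set_option linter.unusedSectionVars false
set_option linter.unusedSimpArgs false
set_option linter.style.haveILetI false

open Matrix

namespace Cfsg.Lib.CNStructure

open Cfsg.Lib.Suz

variable {F : Type*} [Field F] [Fintype F] {m : ℕ} (Q : Par F m)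
include Q

/-- The Weyl element. -/
def ww : Cfsg.Sz F m := ⟨W F, W_mem Q⟩

theorem ww_sq : ww Q * ww Q = 1 := Subtype.ext (W_sq Q)

theorem ww_inv : (ww Q)⁻¹ = ww Q := inv_eq_of_mul_eq_one_left (ww_sq Q)

theorem ww_hI (k : Fˣ) : ww Q * hI Q k * ww Q = hI Q k⁻¹ := by
  refine Subtype.ext (Subtype.ext ?_)
  show (W F).1 * (H m k).1 * (W F).1 = (H m k⁻¹).1
  simp only [W, H]
  ext i j
  fin_cases i <;> fin_cases j <;>
    simp [Matrix.mul_apply, Fin.sum_univ_four, Matrix.diagonal, Matrix.vecHead, Matrix.vecTail]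

theorem hI_ww (k : Fˣ) : hI Q k * ww Q = ww Q * hI Q k⁻¹ := by
  conv_rhs => rw [← ww_hI Q k, ← mul_assoc, ← mul_assoc, ww_sq, one_mul]

theorem uu_hI (k : Fˣ) (a b : F) :
    hI Q k * uu Q a b = uu Q ((k : F) * a) ((k : F) ^ (2 ^ (m + 1) + 1) * b) * hI Q k :=
  mul_inv_eq_iff_eq_mul.1 (hI_conj_uu Q k a b)

theorem elt_cases' (g : Cfsg.Sz F m) :
    (∃ a b k, g = uu Q a b * hI Q k) ∨ ∃ a b c d k, g = uu Q a b * ww Q * (uu Q c d * hI Q k) := by
  rcases elt_cases Q g.2 with ⟨a, b, k, e⟩ | ⟨a, b, c, d, k, e⟩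
  · exact Or.inl ⟨a, b, k, Subtype.ext e⟩
  · exact Or.inr ⟨a, b, c, d, k, Subtype.ext e⟩

/-- The rewriting of a nontrivial opposite unipotent element. -/
theorem bruhat {a b : F} (h : ¬(a = 0 ∧ b = 0)) :
    ∃ a' b' k c d, ww Q * uu Q a b * ww Q = uu Q a' b' * hI Q k * ww Q * uu Q c d := by
  rcases elt_cases' Q (ww Q * uu Q a b * ww Q) with ⟨a', b', k, e⟩ | ⟨a', b', c, d, k, e⟩
  · exfalso
    have e' : W F * T m a b * W F = T m a' b' * H m k := congrArg Subtype.val e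
    have h1 := congrArg (fun g : SL4 F => g • Cfsg.suzukiPointInfinity F) e'
    simp only [mul_smul, W_inf m, H_inf, T_inf, T_pt Q] at h1
    rw [smul_eq_iff_eq_inv_smul, inv_eq_of_mul_eq_one_left (W_sq Q), W_inf m] at h1
    obtain ⟨ha, hb⟩ := pt_inj h1
    simp [zero_pow (pow_ne_zero (m + 1) two_ne_zero)] at ha hb
    exact h ⟨ha, hb⟩
  · refine ⟨a', b', k⁻¹, ((k⁻¹ : Fˣ) : F) * c, ((k⁻¹ : Fˣ) : F) ^ (2 ^ (m + 1) + 1) * d, ?_⟩
    rw [e]
    have h1 : uu Q c d * hI Q k = hI Q k * uu Q (((k⁻¹ : Fˣ) : F) * c)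
        (((k⁻¹ : Fˣ) : F) ^ (2 ^ (m + 1) + 1) * d) := by
      rw [uu_hI]
      congr 2
      · rw [← mul_assoc, ← Units.val_mul, mul_inv_cancel, Units.val_one, one_mul]
      · rw [← mul_assoc, ← mul_pow, ← Units.val_mul, mul_inv_cancel, Units.val_one, one_pow, one_mul]
    rw [h1]
    simp only [mul_assoc]
    rw [← mul_assoc (ww Q) (hI Q k), show ww Q * hI Q k = hI Q k⁻¹ * ww Q by rw [hI_ww, inv_inv]]
    simp only [mul_assoc]

theorem closure_gens {K : Subgroup (Cfsg.Sz F m)} (hU : ∀ a b, uu Q a b ∈ K) (hH : ∀ k, hI Q k ∈ K)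
    (hW : ww Q ∈ K) : K = ⊤ := by
  refine eq_top_iff.2 fun g _ => ?_
  rcases elt_cases' Q g with ⟨a, b, k, rfl⟩ | ⟨a, b, c, d, k, rfl⟩
  · exact mul_mem (hU _ _) (hH _)
  · exact mul_mem (mul_mem (hU _ _) hW) (mul_mem (hU _ _) (hH _))

theorem odd_pred : Odd (2 ^ (2 * m + 1) - 1) := by
  rw [pow_succ]
  have := Nat.one_le_two_pow (n := 2 * m)
  exact ⟨2 ^ (2 * m) - 1, by omega⟩

theorem orderOf_hI_odd (k : Fˣ) : Odd (orderOf (hI Q k)) := by
  classical
  have h1 : orderOf (hI Q k) ∣ 2 ^ (2 * m + 1) - 1 := by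
    refine (orderOf_map_dvd (hHom Q) k).trans ?_
    rw [← Q.hF, ← Fintype.card_units]
    exact orderOf_dvd_card
  exact (odd_pred Q).of_dvd_nat h1

theorem hI_ne {k : Fˣ} (hk : k ≠ 1) : hI Q k ≠ 1 := fun h =>
  hk (H_injective Q (congrArg Subtype.val (h.trans (map_one (hHom Q)).symm)))

/-- The element of order five. -/
def five : Cfsg.Sz F m := uu Q 0 1 * ww Q

omit [Fintype F] Q in
/-- Its matrix over the prime field. -/
def fiveMat : Matrix (Fin 4) (Fin 4) (ZMod 2) := !![1, 1, 0, 1; 1, 0, 1, 0; 0, 1, 0, 0; 1, 0, 0, 0]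

theorem five_val [CharP F 2] : (five Q).1.1 = fiveMat.map (ZMod.castHom (dvd_refl 2) F) := by
  show Tmat m (0 : F) 1 * (W F).1 = _
  simp only [Tmat, W, fn, fiveMat]
  ext i j
  fin_cases i <;> fin_cases j <;>
    simp [Matrix.mul_apply, Fin.sum_univ_four, zero_pow (pow_ne_zero (m + 1) two_ne_zero)]

theorem five_pow_val [CharP F 2] (n : ℕ) :
    (five Q ^ n).1.1 = (fiveMat ^ n).map (ZMod.castHom (dvd_refl 2) F) := by
  induction n with
  | zero =>
    rw [pow_zero, pow_zero, Matrix.map_one _ (map_zero _) (map_one _)]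
    rfl
  | succ n ih =>
    rw [pow_succ, pow_succ, Matrix.map_mul, ← ih, ← five_val Q]
    rfl

omit [Fintype F] Q in
theorem fiveMat_pow : fiveMat ^ 5 = 1 := by decide

theorem orderOf_five [CharP F 2] : orderOf (five Q) = 5 := by
  haveI : Fact (Nat.Prime 5) := ⟨by norm_num⟩
  refine orderOf_eq_prime (Subtype.ext (Subtype.ext ?_)) fun h => ?_
  · rw [five_pow_val Q, fiveMat_pow, Matrix.map_one _ (map_zero _) (map_one _)]
    rfl
  · have h1 : (five Q).1.1 1 0 = (1 : Matrix (Fin 4) (Fin 4) F) 1 0 := by rw [h]; rfl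
    rw [five_val Q] at h1
    simp [fiveMat] at h1

end Cfsg.Lib.CNStructure
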