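import Cfsg.Agent.CNStructure.Classify
import Cfsg.Agent.Classical.Misc.PSLFourGroups
import Cfsg.Agent.Classical.Misc.PSLFourGroupsMain

/-!
Facts about linear groups: classes of elements of order three and the absence of fixed-point-free modules.
-/

set_option autoImplicit false
set_option linter.unusedSectionVars false
set_option linter.unusedSimpArgs false
set_option linter.style.haveILetI false

namespace Cfsg.Lib.CNStructure.Linear

open Matrix
open scoped MatrixGroups
open Cfsg.Lib.CNStructure (Norm0)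
open Cfsg.Lib.Classical.PSLFour (π π_eq_iff)

section General

variable {T W : Type*} [Group T] [AddCommGroup W] (ρ : Representation ℤ T W)

theorem app_mul (g h : T) (w : W) : ρ (g * h) w = ρ g (ρ h w) := by rw [map_mul, Module.End.mul_apply]

theorem three_sum (hN : Norm0 ρ) {g : T} (h3 : g ^ 3 = 1) (h1 : g ≠ 1) (w : W) :
    w + ρ g w + ρ (g * g) w = 0 := by
  haveI : Fact (Nat.Prime 3) := ⟨Nat.prime_three⟩
  have ho := orderOf_eq_prime h3 h1
  have h := hN g (by rw [ho]; decide) h1 w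
  rw [ho, Finset.sum_range_succ, Finset.sum_range_succ, Finset.sum_range_succ, Finset.sum_range_zero, zero_add,
    pow_zero, map_one, Module.End.one_apply, pow_one, sq] at h
  exact h

theorem eq_zero_of_odd_smul (h2 : ∀ w : W, w + w = 0) {n : ℕ} (hn : Odd n) {w : W} (h : n • w = 0) : w = 0 := by
  obtain ⟨k, rfl⟩ := hn
  rwa [add_smul, one_smul, mul_smul, two_smul, h2, zero_add] at h

/-- Two commuting elements of order three generating distinct groups leave no module. -/
theorem no_nine (hN : Norm0 ρ) (h2 : ∀ w : W, w + w = 0) {b c : T} (hb : b ^ 3 = 1) (hc : c ^ 3 = 1)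
    (hcomm : Commute b c) (hb1 : b ≠ 1) (hc1 : c ≠ 1) (hbc : b * c ≠ 1) (hbc2 : b * (c * c) ≠ 1) (w : W) : w = 0 := by
  have hcc : c * c * (c * c) = c := by rw [show c * c * (c * c) = c ^ 3 * c by simp only [pow_succ, pow_zero, one_mul, mul_assoc], hc, one_mul]
  have e1 := three_sum ρ hN hb hb1 w
  have e2 := three_sum ρ hN hc hc1 w
  have e3 := three_sum ρ hN (show (b * c) ^ 3 = 1 by rw [hcomm.mul_pow, hb, hc, one_mul]) hbc w
  have e4 := three_sum ρ hN (show (b * (c * c)) ^ 3 = 1 by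
    rw [(hcomm.mul_right hcomm).mul_pow, hb, one_mul, ← sq, ← pow_mul, mul_comm, pow_mul, hc, one_pow]) hbc2 w
  have f1 := three_sum ρ hN hb hb1 (ρ c w)
  have f2 := three_sum ρ hN hb hb1 (ρ (c * c) w)
  rw [show b * c * (b * c) = b * b * (c * c) by rw [hcomm.symm.mul_mul_mul_comm], app_mul ρ (b * b) (c * c),
    app_mul ρ b c] at e3
  rw [show b * (c * c) * (b * (c * c)) = b * b * c by rw [(hcomm.mul_right hcomm).symm.mul_mul_mul_comm, hcc],
    app_mul ρ (b * b) c, app_mul ρ b (c * c)] at e4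
  refine eq_zero_of_odd_smul h2 (n := 3) (by decide) ?_
  have key : (3 : ℕ) • w = (w + ρ b w + ρ (b * b) w) + (w + ρ c w + ρ (c * c) w) +
      (w + ρ b (ρ c w) + ρ (b * b) (ρ (c * c) w)) + (w + ρ b (ρ (c * c) w) + ρ (b * b) (ρ c w)) -
      ((w + ρ b w + ρ (b * b) w) + (ρ c w + ρ b (ρ c w) + ρ (b * b) (ρ c w)) +
        (ρ (c * c) w + ρ b (ρ (c * c) w) + ρ (b * b) (ρ (c * c) w))) := by abel
  rw [key, e1, e2, e3, e4, f1, f2]
  simp

end General

variable {F : Type*} [Field F]

local notation "P₂" => Matrix.ProjectiveSpecialLinearGroup (Fin 2) F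

theorem map_isConj {A B : Type*} [Group A] [Group B] (f : A →* B) {a b : A} (h : IsConj a b) :
    IsConj (f a) (f b) := by
  obtain ⟨c, hc⟩ := isConj_iff.1 h
  exact isConj_iff.2 ⟨f c, by rw [← hc, map_mul, map_mul, map_inv]⟩

theorem π_eq_one {x : SL(2, F)} (h : π x = 1) : x = 1 ∨ x = -1 :=
  π_eq_iff.1 ((map_one (π (F := F))).trans h.symm)

/-- The quadratic form attached to a matrix. -/
def qf (A : Matrix (Fin 2) (Fin 2) F) (v : Fin 2 → F) : F := v 0 * (A *ᵥ v) 1 - v 1 * (A *ᵥ v) 0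

theorem qf_smul (A : Matrix (Fin 2) (Fin 2) F) (μ : F) (v : Fin 2 → F) : qf A (μ • v) = μ ^ 2 * qf A v := by
  simp only [qf, Matrix.mulVec_smul, Pi.smul_apply, smul_eq_mul]
  ring

theorem ch (A : Matrix (Fin 2) (Fin 2) F) (hd : A.det = 1) : A * A = A.trace • A - 1 := by
  rw [Matrix.det_fin_two] at hd
  ext i j
  fin_cases i <;> fin_cases j <;> simp [Matrix.mul_apply, Fin.sum_univ_two, Matrix.trace_fin_two]
  · linear_combination -hd
  · ring
  · ring
  · linear_combination -hd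

theorem lift_three {y : P₂} (hy : orderOf y = 3) :
    ∃ g : SL(2, F), π g = y ∧ g.1.trace = -1 ∧ ∃ v, qf g.1 v ≠ 0 := by
  obtain ⟨g₀, rfl⟩ := QuotientGroup.mk'_surjective _ y
  have hne : π g₀ ≠ 1 := fun e => by rw [e, orderOf_one] at hy; norm_num at hy
  obtain ⟨g, hg, hg3⟩ : ∃ g, π g = π g₀ ∧ g ^ 3 = 1 := by
    have h : π (g₀ ^ 3) = 1 := by rw [map_pow, ← hy, pow_orderOf_eq_one]
    rcases π_eq_one h with e | e
    · exact ⟨g₀, rfl, e⟩
    · refine ⟨-g₀, π_eq_iff.2 (Or.inr (neg_neg g₀).symm), ?_⟩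
      rw [Odd.neg_pow (by decide), e, neg_neg]
  have hns : ¬ ∃ c : F, g.1 = c • 1 := by
    rintro ⟨c, hc⟩
    refine hne (hg ▸ ?_)
    have hd := g.2
    rw [hc, Matrix.det_smul, Matrix.det_one, mul_one, Fintype.card_fin, sq, mul_self_eq_one_iff] at hd
    rcases hd with rfl | rfl
    · rw [show g = 1 from Subtype.ext (by rw [hc, one_smul]; rfl), map_one]
    · rw [← map_one (π (F := F))]
      exact π_eq_iff.2 (Or.inr (by rw [show g = -1 from Subtype.ext (by rw [hc]; simp), neg_neg]))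
  refine ⟨g, hg, ?_, ?_⟩
  · set t := g.1.trace
    have hA3 : (t ^ 2 - 1) • g.1 = (1 + t) • (1 : Matrix (Fin 2) (Fin 2) F) := by
      have h : g.1 * g.1 * g.1 = 1 := by
        have h := congrArg Subtype.val hg3
        rw [Matrix.SpecialLinearGroup.coe_pow, pow_succ, pow_two, Matrix.SpecialLinearGroup.coe_one] at h
        exact h
      rw [ch g.1 g.2, sub_mul, smul_mul_assoc, ch g.1 g.2, one_mul, smul_sub, smul_smul] at h
      calc (t ^ 2 - 1) • g.1 = (t * t) • g.1 - t • (1 : Matrix (Fin 2) (Fin 2) F) - g.1 + t • 1 := by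
            rw [sub_smul, one_smul, sq]; abel
        _ = _ := by rw [h, add_smul, one_smul]
    by_cases ht : t ^ 2 - 1 = 0
    · rw [ht, zero_smul] at hA3
      have := congrFun (congrFun hA3 0) 0
      simp at this
      linear_combination -this
    · exact absurd ⟨(t ^ 2 - 1)⁻¹ * (1 + t), by
        rw [← smul_smul, ← hA3, smul_smul, inv_mul_cancel₀ ht, one_smul]⟩ hns
  · by_contra hall
    push Not at hall
    have a := hall ![1, 0]
    have b := hall ![0, 1]
    have c := hall ![1, 1]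
    simp [qf, Matrix.mulVec, dotProduct, Fin.sum_univ_two] at a b c
    refine hns ⟨g.1 0 0, ?_⟩
    ext i j
    fin_cases i <;> fin_cases j <;> simp [a, b]
    rw [a, b] at c
    linear_combination c

theorem isConj_of_qf {x y : SL(2, F)} (tx : x.1.trace = -1) (ty : y.1.trace = -1) {v w : Fin 2 → F}
    (h : qf x.1 v = qf y.1 w) (h0 : qf x.1 v ≠ 0) : IsConj x y := by
  let Pm : Matrix (Fin 2) (Fin 2) F → (Fin 2 → F) → Matrix (Fin 2) (Fin 2) F := fun A v =>
    !![v 0, (A *ᵥ v) 0; v 1, (A *ᵥ v) 1]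
  have hdet : ∀ A v, (Pm A v).det = qf A v := fun A v => by
    simp [Pm, Matrix.det_fin_two, qf]; ring
  have hC : ∀ g : SL(2, F), g.1.trace = -1 → ∀ v, g.1 * Pm g.1 v = Pm g.1 v * !![0, -1; 1, -1] := by
    intro g hg v
    have hd := g.2
    rw [Matrix.det_fin_two] at hd
    rw [Matrix.trace_fin_two] at hg
    ext i j
    fin_cases i <;> fin_cases j <;> simp [Pm, Matrix.mul_apply, Matrix.mulVec, dotProduct, Fin.sum_univ_two]
    · linear_combination (g.1 0 0 * v 0 + g.1 0 1 * v 1) * hg - v 0 * hd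
    · linear_combination (g.1 1 0 * v 0 + g.1 1 1 * v 1) * hg - v 1 * hd
  set C : Matrix (Fin 2) (Fin 2) F := !![0, -1; 1, -1]
  set d := qf x.1 v
  set S := d⁻¹ • (Pm y.1 w * (Pm x.1 v).adjugate) with hS
  have hSd : S.det = 1 := by
    rw [hS, Matrix.det_smul, Matrix.det_mul, Matrix.det_adjugate, hdet, hdet, Fintype.card_fin, ← h,
      show (2 : ℕ) - 1 = 1 from rfl, pow_one]
    field_simp
    rfl
  have hadj : (Pm x.1 v).adjugate * x.1 = C * (Pm x.1 v).adjugate := by
    refine (smul_right_injective _ h0).eq_iff.1 ?_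
    show d • _ = d • _
    calc d • ((Pm x.1 v).adjugate * x.1) = (Pm x.1 v).adjugate * (x.1 * Pm x.1 v) * (Pm x.1 v).adjugate := by
          rw [mul_assoc, mul_assoc, Matrix.mul_adjugate, hdet, mul_smul_comm, mul_smul_comm, mul_one]
      _ = _ := by
          rw [hC x tx, ← mul_assoc, Matrix.adjugate_mul, hdet, smul_mul_assoc, one_mul, smul_mul_assoc]
  let S' : SL(2, F) := ⟨S, hSd⟩
  refine isConj_iff.2 ⟨S', ?_⟩
  rw [mul_inv_eq_iff_eq_mul]
  refine Subtype.ext ?_
  show S * x.1 = y.1 * S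
  rw [hS, smul_mul_assoc, mul_smul_comm, mul_assoc, hadj, ← mul_assoc, ← hC y ty, mul_assoc]

/-- The form of a square root of unity of order three represents everything. -/
theorem qf_comb {g : SL(2, F)} (hg : g.1.trace = -1) (v : Fin 2 → F) (α β : F) :
    qf g.1 (α • v + β • (g.1 *ᵥ v)) = (α ^ 2 - α * β + β ^ 2) * qf g.1 v := by
  have hd := g.2
  rw [Matrix.det_fin_two] at hd
  rw [Matrix.trace_fin_two] at hg
  simp only [qf, Matrix.mulVec, dotProduct, Fin.sum_univ_two, Pi.add_apply, Pi.smul_apply, smul_eq_mul]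
  linear_combination (α * β * (v 0 * (g.1 1 0 * v 0 + g.1 1 1 * v 1) - v 1 * (g.1 0 0 * v 0 + g.1 0 1 * v 1))) * hg
    + (β ^ 2 * (v 0 * (g.1 1 0 * v 0 + g.1 1 1 * v 1) - v 1 * (g.1 0 0 * v 0 + g.1 0 1 * v 1))) * hd

variable [Fintype F]

theorem exists_norm (h3 : (3 : F) ≠ 0) (c : F) : ∃ α β : F, α ^ 2 - α * β + β ^ 2 = c := by
  by_cases h2 : ringChar F = 2
  · haveI : CharP F 2 := h2 ▸ ringChar.charP F
    haveI : Fact (Nat.Prime 2) := ⟨Nat.prime_two⟩
    haveI : ExpChar F 2 := ExpChar.prime Nat.prime_two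
    obtain ⟨α, hα⟩ := (Finite.injective_iff_surjective.1 (frobenius_inj F 2)) c
    refine ⟨α, 0, ?_⟩
    rw [frobenius_def] at hα
    rw [mul_zero, sub_zero, zero_pow two_ne_zero, add_zero, hα]
  · have h2' : (2 : F) ≠ 0 := Ring.two_ne_zero h2
    have hodd := FiniteField.odd_card_of_char_ne_two h2
    obtain ⟨x, y, hxy⟩ := FiniteField.exists_root_sum_quadratic (R := F)
      (f := Polynomial.X ^ 2) (g := Polynomial.C ((3 : F) / 4) * Polynomial.X ^ 2 - Polynomial.C c)
      (Polynomial.degree_X_pow 2) (by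
        have h34 : (3 : F) / 4 ≠ 0 := div_ne_zero h3 (by
          rw [show (4 : F) = 2 * 2 by norm_num]; exact mul_ne_zero h2' h2')
        rw [Polynomial.degree_sub_eq_left_of_degree_lt] <;> rw [Polynomial.degree_C_mul_X_pow 2 h34]
        · rfl
        · exact lt_of_le_of_lt Polynomial.degree_C_le (by decide)) hodd
    simp only [Polynomial.eval_pow, Polynomial.eval_X, Polynomial.eval_sub, Polynomial.eval_mul,
      Polynomial.eval_C] at hxy
    refine ⟨x + y / 2, y, ?_⟩
    have h4 : (4 : F) = 2 * 2 := by norm_num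
    rw [h4] at hxy
    field_simp at hxy ⊢
    linear_combination hxy

/-- **One class** of elements of order three outside characteristic three. -/
theorem isConj_three (h3 : (3 : F) ≠ 0) {x y : P₂} (hx : orderOf x = 3) (hy : orderOf y = 3) : IsConj x y := by
  have key : ∀ z : P₂, orderOf z = 3 → ∃ g : SL(2, F), π g = z ∧ g.1.trace = -1 ∧ ∃ v, qf g.1 v = 1 := by
    intro z hz
    obtain ⟨g, hg, ht, v, hv⟩ := lift_three hz
    obtain ⟨α, β, he⟩ := exists_norm h3 (qf g.1 v)⁻¹
    exact ⟨g, hg, ht, α • v + β • (g.1 *ᵥ v), by rw [qf_comb ht, he, inv_mul_cancel₀ hv]⟩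
  obtain ⟨a, rfl, ta, v, hv⟩ := key x hx
  obtain ⟨b, rfl, tb, w, hw⟩ := key y hy
  exact map_isConj _ (isConj_of_qf ta tb (v := v) (w := w) (hv.trans hw.symm) (by rw [hv]; exact one_ne_zero))

theorem two_classes_nine (hF : Fintype.card F = 9) :
    (∀ x : P₂, orderOf x = 3 → IsConj x x⁻¹) ∧
      ∀ x y z : P₂, orderOf x = 3 → orderOf y = 3 → orderOf z = 3 → IsConj x y ∨ IsConj x z ∨ IsConj y z := by
  have h2 : ringChar F ≠ 2 := fun h => by
    haveI : CharP F 2 := h ▸ ringChar.charP F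
    obtain ⟨n, -, hn⟩ := FiniteField.card F 2
    rw [hF] at hn
    have : 2 ∣ 9 := hn ▸ dvd_pow_self 2 n.ne_zero
    norm_num at this
  have same : ∀ (a b : SL(2, F)) v w, a.1.trace = -1 → b.1.trace = -1 → qf a.1 v ≠ 0 → qf b.1 w ≠ 0 →
      qf a.1 v ^ 4 = qf b.1 w ^ 4 → IsConj (π a) (π b) := by
    intro a b v w ta tb hv hw h
    obtain ⟨μ, hμ⟩ : IsSquare (qf b.1 w / qf a.1 v) := by
      rw [FiniteField.isSquare_iff h2 (div_ne_zero hw hv), hF, show 9 / 2 = 4 from rfl, div_pow, h,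
        div_self (pow_ne_zero _ hw)]
    have e : qf a.1 (μ • v) = qf b.1 w := by
      rw [qf_smul, sq, ← hμ, div_mul_cancel₀ _ hv]
    exact map_isConj _ (isConj_of_qf ta tb e (by rw [e]; exact hw))
  refine ⟨fun x hx => ?_, fun x y z hx hy hz => ?_⟩
  · obtain ⟨a, rfl, ta, v, hv⟩ := lift_three hx
    have hinv : a⁻¹.1 = -a.1 - 1 := by
      rw [Matrix.SpecialLinearGroup.coe_inv, Matrix.adjugate_fin_two]
      rw [Matrix.trace_fin_two] at ta
      ext i j
      fin_cases i <;> fin_cases j <;> simp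
      · linear_combination ta
      · linear_combination ta
    rw [← map_inv]
    have e : qf a⁻¹.1 v = -qf a.1 v := by
      rw [hinv]
      simp only [qf, Matrix.sub_mulVec, Matrix.neg_mulVec, Matrix.one_mulVec, Pi.sub_apply, Pi.neg_apply]
      ring
    refine same a a⁻¹ v v ta ?_ hv (by rw [e]; exact neg_ne_zero.2 hv) (by rw [e, Even.neg_pow (by decide)])
    rw [hinv, Matrix.trace_sub, Matrix.trace_neg, Matrix.trace_one, ta]
    simp only [Fintype.card_fin]
    ring
  · obtain ⟨a, rfl, ta, u, hu⟩ := lift_three hx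
    obtain ⟨b, rfl, tb, v, hv⟩ := lift_three hy
    obtain ⟨c, rfl, tc, w, hw⟩ := lift_three hz
    have hd : ∀ {d : F}, d ≠ 0 → d ^ 4 = 1 ∨ d ^ 4 = -1 := fun {d} hd => by
      have := FiniteField.pow_dichotomy h2 hd
      rwa [hF] at this
    rcases hd hu with e1 | e1 <;> rcases hd hv with e2 | e2 <;> rcases hd hw with e3 | e3
    all_goals first
      | exact Or.inl (same a b u v ta tb hu hv (e1.trans e2.symm))
      | exact Or.inr (Or.inl (same a c u w ta tc hu hw (e1.trans e3.symm)))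
      | exact Or.inr (Or.inr (same b c v w tb tc hv hw (e2.trans e3.symm)))

end Cfsg.Lib.CNStructure.Linear
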