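import Cfsg.Agent.CNStructure.Fitting
import Cfsg.Agent.CNStructure.Elems
import Cfsg.Agent.CNStructure.PSLTwo
import Cfsg.Agent.CITGroups.Main
import Cfsg.Agent.CITGroups.CNFrame
import Cfsg.Agent.CITGroups.NonSolvable
import Cfsg.Agent.CITExt.Socle
import Cfsg.Agent.SuzukiUnique.Zassenhaus
import Cfsg.Agent.Suz.Lie
import Cfsg.Agent.Suz.Aut
import Cfsg.Agent.S2739

/-!
Nonsolvable groups with nilpotent centralisers and no solvable normal subgroup.
-/

set_option autoImplicit false
set_option linter.unusedSectionVars false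
set_option linter.style.haveILetI false

namespace Cfsg.Lib.CNStructure

open Subgroup

universe u

/-- The groups of the list, apart from the degenerate parameters. -/
inductive Listed (G : Type u) [Group G] : Prop
  | even (F : Type) [Field F] [Fintype F] (n : ℕ) (hn : 2 ≤ n) (hF : Fintype.card F = 2 ^ n)
      (e : Nonempty (G ≃* Matrix.ProjectiveSpecialLinearGroup (Fin 2) F))
  | nine (F : Type) [Field F] [Fintype F] (hF : Fintype.card F = 9)
      (e : Nonempty (G ≃* Matrix.ProjectiveSpecialLinearGroup (Fin 2) F))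
  | prime (F : Type) [Field F] [Fintype F] (k : ℕ) (hp : (Fintype.card F).Prime) (h5 : 5 ≤ Fintype.card F)
      (hk : Fintype.card F = 2 ^ k + 1 ∨ Fintype.card F + 1 = 2 ^ k)
      (e : Nonempty (G ≃* Matrix.ProjectiveSpecialLinearGroup (Fin 2) F))
  | plane (F : Type) [Field F] [Fintype F] (hF : Fintype.card F = 4)
      (e : Nonempty (G ≃* Matrix.ProjectiveSpecialLinearGroup (Fin 3) F))
  | suzuki (h : Cfsg.Lie.IsoSuzuki G)

theorem listed_of_simple {M : Type u} [Group M] [Finite M] [IsSimpleGroup M] (hna : ¬ IsMulCommutative M)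
    (hCN : Cfsg.IsCNGroup M) : Listed M := by
  rcases Cfsg.Lib.CITGroups.classification_of (G := M) (Cfsg.Lie.IsoSuzuki M)
    (fun N hZ => Cfsg.Lib.SuzukiUnique.zassenhaus_iso hZ) (Cfsg.Lib.CITGroups.cit_of_cn hna hCN) hna with
    ⟨F, _, _, hF, ⟨e⟩⟩ | ⟨F, _, _, hF, he⟩ | h
  · have hcard : ∀ a b : ℕ, Nat.card (Matrix.ProjectiveSpecialLinearGroup (Fin 2) F) ≠ 2 ^ a * 3 ^ b := fun a b => by
      rw [← Nat.card_congr e.toEquiv]
      exact Cfsg.Lib.CITExt.card_ne_small hna
    have h2 : Fintype.card F ≠ 2 := fun h => hcard 1 1 (by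
      have := Cfsg.Lib.Classical.SmallPSL.card_psl h
      norm_num at this ⊢
      exact this)
    have h3 : Fintype.card F ≠ 3 := fun h => hcard 2 1 (by
      have := Cfsg.Lib.Classical.SmallPSL.card_psl h
      norm_num at this ⊢
      omega)
    rcases hF with h | ⟨n, hn⟩ | ⟨hp, k, hk⟩
    · exact .nine F h ⟨e⟩
    · refine .even F n ?_ hn ⟨e⟩
      have h1 := Fintype.one_lt_card (α := F)
      rcases n with _ | _ | n
      · rw [hn, pow_zero] at h1; omega
      · rw [zero_add, pow_one] at hn; omega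
      · omega
    · refine .prime F k hp ?_ hk ⟨e⟩
      have h1 := hp.two_le
      have h4 : Fintype.card F ≠ 4 := fun h => by rw [h] at hp; norm_num at hp
      omega
  · exact .plane F hF he
  · exact .suzuki h

/-- **The almost simple case.** -/
theorem almost_simple {T : Type u} [Group T] [Finite T] (hCN : Cfsg.IsCNGroup T) (hns : ¬ Group.IsSolvable T)
    (hsol : ∀ N : Subgroup T, N.Normal → Group.IsSolvable N → N = ⊥) :
    (IsSimpleGroup T ∧ ¬ IsMulCommutative T ∧ Listed T) ∨
      ∃ M : Subgroup T, M.Normal ∧ M.index = 2 ∧ ∃ (F : Type) (_ : Field F) (_ : Fintype F), Fintype.card F = 9 ∧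
        Nonempty (M ≃* Matrix.ProjectiveSpecialLinearGroup (Fin 2) F) := by
  classical
  haveI : Fact (Nat.Prime 3) := ⟨Nat.prime_three⟩
  obtain ⟨M, hMn, hMs, hMna⟩ := exists_socle hCN hns hsol
  haveI := hMn
  haveI := hMs
  have hL := listed_of_simple hMna (Cfsg.Lib.CN.isCN_subgroup hCN M)
  have fin : M = ⊤ → IsSimpleGroup T ∧ ¬ IsMulCommutative T ∧ Listed T := fun hM => by
    let e : M ≃* T := (MulEquiv.subgroupCongr hM).trans Subgroup.topEquiv
    haveI : Nontrivial T := e.symm.toEquiv.nontrivial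
    refine ⟨IsSimpleGroup.isSimpleGroup_of_surjective (H := T) e.toMonoidHom e.surjective,
      fun hc => hMna ⟨⟨fun a b => Subtype.ext (hc.is_comm.comm (a : T) b)⟩⟩, ?_⟩
    cases hL with
    | even F n hn hF he => exact .even F n hn hF (he.map e.symm.trans)
    | nine F hF he => exact .nine F hF (he.map e.symm.trans)
    | prime F k hp h5 hk he => exact .prime F k hp h5 hk (he.map e.symm.trans)
    | plane F hF he => exact .plane F hF (he.map e.symm.trans)
    | suzuki h =>
      obtain ⟨F, _, _, m, hm, hF, he⟩ := h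
      exact .suzuki ⟨F, _, _, m, hm, hF, he.map e.symm.trans⟩
  have three : ∀ {X : Type} [Group X], (M ≃* X) → 3 ∣ Nat.card X → ∃ a : T, a ∈ M ∧ orderOf a = 3 := by
    intro X _ e h
    haveI : Finite X := Finite.of_equiv _ e.toEquiv
    obtain ⟨x, hx⟩ := exists_prime_orderOf_dvd_card' 3 h
    exact ⟨e.symm x, (e.symm x).2, by rw [orderOf_coe, MulEquiv.orderOf_eq, hx]⟩
  have back : ∀ {X : Type} [Group X] (e : M ≃* X) {x y : M}, IsConj (e x) (e y) → IsConj x y := by
    intro X _ e x y h
    have := Linear.map_isConj e.symm.toMonoidHom h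
    simpa using this
  have viaPSL : ∀ (F : Type) [Field F] [Fintype F], (3 : F) ≠ 0 →
      Nonempty (M ≃* Matrix.ProjectiveSpecialLinearGroup (Fin 2) F) → M = ⊤ := by
    intro F _ _ h3 ⟨e⟩
    obtain ⟨a, ha, hao⟩ := three e Cfsg.Lib.CITGroups.three_dvd_card_psl
    exact eq_top_of_one_class hCN M (by decide : Odd 3) (by norm_num) ha hao fun x y hx hy =>
      back e (Linear.isConj_three h3 (by rw [MulEquiv.orderOf_eq, hx]) (by rw [MulEquiv.orderOf_eq, hy]))
  cases hL with
  | even F n hn hF he =>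
    refine Or.inl (fin (viaPSL F (fun h => ?_) he))
    haveI : Fact (Nat.Prime 2) := ⟨Nat.prime_two⟩
    haveI : CharP F 2 := charP_of_card_eq_prime_pow hF
    have h2 : (2 : F) = 0 := CharTwo.two_eq_zero
    exact one_ne_zero (by linear_combination h - h2 : (1 : F) = 0)
  | prime F k hp h5 hk he =>
    refine Or.inl (fin (viaPSL F (fun h => ?_) he))
    haveI := Fact.mk hp
    haveI : CharP F (Fintype.card F) := charP_of_card_eq_prime_pow (f := 1) (by rw [pow_one])
    have := Nat.le_of_dvd three_pos ((CharP.cast_eq_zero_iff F (Fintype.card F) 3).1 (by exact_mod_cast h))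
    omega
  | plane F hF he =>
    refine Or.inl (fin ?_)
    obtain ⟨e⟩ := he
    obtain ⟨a, ha, hao⟩ := three e (by rw [Cfsg.Lib.LThreeFourPar.card_psl_four hF]; norm_num)
    exact eq_top_of_one_class hCN M (by decide : Odd 3) (by norm_num) ha hao fun x y hx hy =>
      back e (Cfsg.Agent.S2739.isConj_of_order_three hF _ _ (by rw [MulEquiv.orderOf_eq, hx])
        (by rw [MulEquiv.orderOf_eq, hy]))
  | nine F hF he =>
    obtain ⟨e⟩ := he
    obtain ⟨a, ha, hao⟩ := three e Cfsg.Lib.CITGroups.three_dvd_card_psl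
    obtain ⟨hreal, htwo⟩ := Linear.two_classes_nine hF
    have ho : ∀ x : M, orderOf x = 3 → orderOf (e x) = 3 := fun x hx => by rw [MulEquiv.orderOf_eq, hx]
    rcases index_le_two_of_two_classes hCN M (by decide : Odd 3) (by norm_num) ha hao
      (fun x hx => back e (by rw [map_inv]; exact hreal _ (ho x hx)))
      (fun x y z hx hy hz => (htwo _ _ _ (ho x hx) (ho y hy) (ho z hz)).imp (back e)
        (fun h => h.imp (back e) (back e))) with h | h
    · exact Or.inl (fin (index_eq_one.1 h))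
    · exact Or.inr ⟨M, hMn, h, F, _, _, hF, ⟨e⟩⟩
  | suzuki h =>
    refine Or.inl (fin (eq_top_iff.2 fun g _ => ?_))
    obtain ⟨F, _, _, m, hm, hF, ⟨e₀⟩⟩ := h
    have Q : Cfsg.Lib.Suz.Par F m := ⟨hm, hF⟩
    haveI : Fact (Nat.Prime 2) := ⟨Nat.prime_two⟩
    haveI : CharP F 2 := charP_of_card_eq_prime_pow hF
    let e : M ≃* Cfsg.Sz F m := e₀.trans (Cfsg.Lib.Suz.lieEquiv Q).symm
    obtain ⟨c, σ, hcσ⟩ := Cfsg.Lib.Suz.exists_inner_mul_field Q
      (MulEquiv.trans (MulEquiv.trans e.symm (MulAut.conjNormal g : MulAut M)) e)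
    set a : M := e.symm (five Q)
    have hfix : Cfsg.Lib.Suz.fld Q σ (five Q) = five Q := by
      rw [five, map_mul, Cfsg.Lib.Suz.fld_uu, map_zero, map_one, show ww Q = Cfsg.Lib.Suz.wS Q from rfl,
        Cfsg.Lib.Suz.fld_wS]
    have hga : MulAut.conjNormal g a = e.symm (c * five Q * c⁻¹) := by
      have := DFunLike.congr_fun hcσ (five Q)
      simp only [MulEquiv.trans_apply, MulAut.mul_apply, MulAut.conj_apply, hfix] at this
      exact e.injective (by rw [e.apply_symm_apply]; exact this)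
    have hga' : g * (a : T) * g⁻¹ = ((e.symm c : M) : T) * (a : T) * ((e.symm c : M) : T)⁻¹ := by
      rw [← MulAut.conjNormal_apply, hga, map_mul, map_mul, map_inv]
      rfl
    have h5 : orderOf (a : T) = 5 := by rw [orderOf_coe, MulEquiv.orderOf_eq, orderOf_five]
    have hinv : ((e.symm (ww Q) : M) : T) * (a : T) * ((e.symm (ww Q) : M) : T)⁻¹ = (a : T)⁻¹ := by
      have : ww Q * five Q * (ww Q)⁻¹ = (five Q)⁻¹ := by
        refine eq_inv_of_mul_eq_one_left ?_
        have hu : Cfsg.Lib.Suz.uu Q (0 : F) 1 * Cfsg.Lib.Suz.uu Q 0 1 = 1 := by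
          rw [Cfsg.Lib.Suz.uu_mul, add_zero, CharTwo.add_self_eq_zero, zero_pow (pow_ne_zero _ two_ne_zero),
            zero_mul, add_zero, Cfsg.Lib.Suz.uu_zero]
        rw [five, ww_inv]
        simp only [mul_assoc]
        rw [← mul_assoc (ww Q) (ww Q), ww_sq, one_mul, ← mul_assoc (Cfsg.Lib.Suz.uu Q (0 : F) 1), hu, one_mul, ww_sq]
      have h' := congrArg (fun x => ((e.symm x : M) : T)) this
      simpa [a] using h'
    have hle := centralizer_le_of_inverted hCN M (a := (a : T)) (by rw [h5]; decide)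
      (fun h => by rw [h, orderOf_one] at h5; norm_num at h5) (e.symm (ww Q)).2 hinv
    have hm' : ((e.symm c : M) : T)⁻¹ * g ∈ M := hle (mem_centralizer_singleton_iff.2 (by
      calc ((e.symm c : M) : T)⁻¹ * g * a = ((e.symm c : M) : T)⁻¹ * (g * a * g⁻¹) * g := by group
        _ = _ := by rw [hga']; group))
    simpa using mul_mem (e.symm c).2 hm'

end Cfsg.Lib.CNStructure
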