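import Cfsg.Agent.CNStructure.Tensor
import Cfsg.Agent.Modular.Hecke

/-!
The irreducible modules in characteristic two of a Suzuki group on which elements of odd order act without
fixed points are the Galois twists of the natural module.
-/

set_option autoImplicit false
set_option linter.unusedSectionVars false
set_option linter.unusedSimpArgs false
set_option linter.style.haveILetI false

open Matrix

namespace Cfsg.Lib.CNStructure

open Cfsg.Lib.Suz
open Cfsg.Lib.Modular (Irred subRep orbitSpan orbitSpan_invariant exists_fixed)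

/-- The sum of the powers of every nontrivial element of odd order vanishes. -/
def Norm0 {R G V : Type*} [CommRing R] [Group G] [AddCommGroup V] [Module R V] (ρ : Representation R G V) : Prop :=
  ∀ g : G, Odd (orderOf g) → g ≠ 1 → ∀ v : V, ∑ n ∈ Finset.range (orderOf g), ρ (g ^ n) v = 0

theorem Norm0.fixed {R G V : Type*} [CommRing R] [Group G] [AddCommGroup V] [Module R V]
    {ρ : Representation R G V} (h : Norm0 ρ) {g : G} (ho : Odd (orderOf g)) (hg : g ≠ 1) {v : V}
    (hv : ρ g v = v) : (orderOf g) • v = 0 := by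
  refine Eq.trans ?_ (h g ho hg v)
  rw [← Finset.card_range (orderOf g), ← Finset.sum_const, Finset.card_range]
  refine Finset.sum_congr rfl fun n hn => ?_
  clear hn
  induction n with
  | zero => simp
  | succ n ih => rw [pow_succ, map_mul, Module.End.mul_apply, hv, ← ih]

theorem Norm0.eq_zero {R G V : Type*} [CommRing R] [Group G] [AddCommGroup V] [Module R V]
    {ρ : Representation R G V} (h : Norm0 ρ) (h2 : ∀ v : V, v + v = 0) {g : G} (ho : Odd (orderOf g)) (hg : g ≠ 1)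
    {v : V} (hv : ρ g v = v) : v = 0 := by
  obtain ⟨k, hk⟩ := ho
  have h1 := h.fixed ⟨k, hk⟩ hg hv
  rwa [hk, add_smul, one_smul, mul_smul, two_smul, h2, zero_add] at h1

/-- An invariant functional normalised on a vector. -/
theorem exists_functional {F G V : Type*} [Field F] [CharP F 2] [Group G] [Finite G] [AddCommGroup V] [Module F V]
    (ρ : Representation F G V) (U : Subgroup G) (hU : IsPGroup 2 ↥U) {v : V} (hv : v ≠ 0) :
    ∃ f : V →ₗ[F] F, ∀ u ∈ U, f (ρ u v) = 1 := by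
  classical
  haveI : Fintype (↥U) := Fintype.ofFinite _
  let ρU : Representation F ↥U V := ρ.comp U.subtype
  let X := orbitSpan ρU v
  let σ := (subRep ρU X (orbitSpan_invariant ρU v)).dual
  have hvX : v ∈ X := Submodule.subset_span ⟨1, by simp⟩
  obtain ⟨f₀, hf₀⟩ := Module.Projective.exists_dual_ne_zero F (x := (⟨v, hvX⟩ : X))
    (fun e => hv (congrArg Subtype.val e))
  obtain ⟨f, hf, hfix⟩ := exists_fixed (k := F) (p := 2) (U := (⊤ : Subgroup ↥U)) (hU.to_subgroup ⊤) σ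
    (v := f₀) (fun e => hf₀ (by rw [e]; rfl))
  have hinv : ∀ (u : ↥U) (x : X), f (subRep ρU X (orbitSpan_invariant ρU v) u x) = f x := by
    intro u x
    have h := LinearMap.congr_fun (hfix u⁻¹ (Subgroup.mem_top _)) x
    simpa [σ, Representation.dual_apply, Module.Dual.transpose_apply] using h
  have hfv : f ⟨v, hvX⟩ ≠ 0 := by
    intro h0
    apply hf
    ext ⟨x, hx⟩
    show f ⟨x, hx⟩ = 0
    induction hx using Submodule.span_induction with
    | mem y hy =>
      obtain ⟨u, rfl⟩ := hy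
      exact (hinv u ⟨v, hvX⟩).trans h0
    | zero => exact map_zero f
    | add a b ha hb h1 h2 =>
      exact (map_add f ⟨a, ha⟩ ⟨b, hb⟩).trans (by rw [h1, h2, add_zero])
    | smul c a ha h1 => exact (map_smul f c ⟨a, ha⟩).trans (by rw [h1, smul_zero])
  obtain ⟨g, hg⟩ := LinearMap.exists_extend ((f ⟨v, hvX⟩)⁻¹ • f)
  refine ⟨g, fun u hu => ?_⟩
  have hmem : ρ u v ∈ X := Submodule.subset_span ⟨⟨u, hu⟩, rfl⟩
  have h := LinearMap.congr_fun hg ⟨ρ u v, hmem⟩
  simp only [LinearMap.coe_comp, Function.comp_apply, Submodule.subtype_apply, LinearMap.smul_apply,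
    smul_eq_mul] at h
  rw [h, show f ⟨ρ u v, hmem⟩ = f ⟨v, hvX⟩ from hinv ⟨u, hu⟩ ⟨v, hvX⟩, inv_mul_cancel₀ hfv]

variable {F : Type*} [Field F] [Fintype F] [CharP F 2] {m : ℕ} (Q : Par F m)
variable {V : Type*} [AddCommGroup V] [Module F V] {W : Type*} [AddCommGroup W] [Module F W]

/-- Fixed by the unipotent group. -/
def UFix (ρ : Representation F (Cfsg.Sz F m) V) (v : V) : Prop := ∀ a b, ρ (uu Q a b) v = v

/-- An eigenvector of the torus. -/
def Wt (ρ : Representation F (Cfsg.Sz F m) V) (χ : Fˣ →* Fˣ) (v : V) : Prop :=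
  ∀ k, ρ (hI Q k) v = (χ k : F) • v

open Classical in
/-- The double coset operator of the Weyl element. -/
noncomputable def hec (ρ : Representation F (Cfsg.Sz F m) V) (v : V) : V :=
  ∑ p : F × F, ρ (uu Q p.1 p.2) (ρ (ww Q) v)

theorem uu_reindex {M : Type*} [AddCommMonoid M] (f : Cfsg.Sz F m → M) (a b : F) :
    (∑ p : F × F, f (uu Q a b * uu Q p.1 p.2) = ∑ p : F × F, f (uu Q p.1 p.2)) ∧
      (∑ p : F × F, f (uu Q p.1 p.2 * uu Q a b) = ∑ p : F × F, f (uu Q p.1 p.2)) := by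
  classical
  constructor
  · simp only [uu_mul]
    exact (Finite.injective_iff_bijective.1 (show Function.Injective (fun p : F × F =>
      (a + p.1, b + p.2 + a ^ 2 ^ (m + 1) * p.1)) from fun p r h => by
        obtain ⟨h1, h2⟩ := Prod.mk.injEq _ _ _ _ ▸ h
        have e := add_left_cancel h1
        rw [e] at h2
        exact Prod.ext e (add_left_cancel (add_right_cancel h2)))).sum_comp (fun p : F × F => f (uu Q p.1 p.2))
  · simp only [uu_mul]
    exact (Finite.injective_iff_bijective.1 (show Function.Injective (fun p : F × F =>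
      (p.1 + a, p.2 + b + p.1 ^ 2 ^ (m + 1) * a)) from fun p r h => by
        obtain ⟨h1, h2⟩ := Prod.mk.injEq _ _ _ _ ▸ h
        have e := add_right_cancel h1
        rw [e] at h2
        exact Prod.ext e (add_right_cancel (add_right_cancel h2)))).sum_comp (fun p : F × F => f (uu Q p.1 p.2))

theorem uu_reindex_hI {M : Type*} [AddCommMonoid M] (f : Cfsg.Sz F m → M) (k : Fˣ) :
    ∑ p : F × F, f (uu Q ((k : F) * p.1) ((k : F) ^ (2 ^ (m + 1) + 1) * p.2)) =
      ∑ p : F × F, f (uu Q p.1 p.2) := by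
  classical
  exact (Finite.injective_iff_bijective.1 (show Function.Injective (fun p : F × F =>
    ((k : F) * p.1, (k : F) ^ (2 ^ (m + 1) + 1) * p.2)) from fun p r h => by
      obtain ⟨h1, h2⟩ := Prod.mk.injEq _ _ _ _ ▸ h
      exact Prod.ext (mul_left_cancel₀ k.ne_zero h1)
        (mul_left_cancel₀ (pow_ne_zero _ k.ne_zero) h2))).sum_comp (fun p : F × F => f (uu Q p.1 p.2))

theorem hec_fix (ρ : Representation F (Cfsg.Sz F m) V) (v : V) : UFix Q ρ (hec Q ρ v) := fun a b => by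
  simp only [hec, map_sum]
  simp only [← Module.End.mul_apply (ρ (uu Q a b)), ← map_mul]
  exact (uu_reindex Q (fun g => ρ g (ρ (ww Q) v)) a b).1

theorem hec_wt {ρ : Representation F (Cfsg.Sz F m) V} {χ : Fˣ →* Fˣ} {v : V} (hv : Wt Q ρ χ v) :
    Wt Q ρ χ⁻¹ (hec Q ρ v) := fun k => by
  simp only [hec, map_sum, Finset.smul_sum]
  rw [← uu_reindex_hI Q (fun g => ((χ⁻¹ k : Fˣ) : F) • ρ g (ρ (ww Q) v)) k]
  refine Finset.sum_congr rfl fun p _ => ?_
  rw [← Module.End.mul_apply, ← map_mul, uu_hI, map_mul, Module.End.mul_apply, ← Module.End.mul_apply (ρ (hI Q k)),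
    ← map_mul, hI_ww, map_mul, Module.End.mul_apply, hv, map_smul, map_smul, MonoidHom.inv_apply, map_inv]

theorem hec_smul (ρ : Representation F (Cfsg.Sz F m) V) (c : F) (v : V) :
    hec Q ρ (c • v) = c • hec Q ρ v := by
  simp only [hec, map_smul, Finset.smul_sum]

theorem units_odd (x : Fˣ) (h : x * x = 1) (hQ : Par F m) : x = 1 := by
  refine Units.ext ?_
  have h1 : (x : F) * x = 1 := by rw [← Units.val_mul, h, Units.val_one]
  have h2 : ((x : F) + 1) * ((x : F) + 1) = 0 := by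
    rw [show ((x : F) + 1) * ((x : F) + 1) = (x : F) * x + 1 + ((x : F) + x) by ring, h1,
      Suz.add_self hQ, Suz.add_self hQ, add_zero]
  rw [mul_self_eq_zero, CharTwo.add_eq_zero] at h2
  simpa using h2

theorem hec_hec {ρ : Representation F (Cfsg.Sz F m) V} {χ : Fˣ →* Fˣ} {v : V} (hf : UFix Q ρ v)
    (hv : Wt Q ρ χ v) (hχ : χ ≠ 1) : hec Q ρ (hec Q ρ v) = 0 := by
  classical
  obtain ⟨c, hc⟩ : ∃ c : F, hec Q ρ (hec Q ρ v) = c • hec Q ρ v := by
    have e : hec Q ρ (hec Q ρ v) = ∑ p : F × F, ∑ r : F × F,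
        ρ (uu Q r.1 r.2) (ρ (ww Q * uu Q p.1 p.2 * ww Q) v) := by
      rw [Finset.sum_comm]
      simp only [hec, map_sum, map_mul, Module.End.mul_apply]
    have h0 : ∀ p : F × F, ∃ c : F,
        ∑ r : F × F, ρ (uu Q r.1 r.2) (ρ (ww Q * uu Q p.1 p.2 * ww Q) v) = c • hec Q ρ v := by
      intro p
      by_cases hp : p.1 = 0 ∧ p.2 = 0
      · refine ⟨0, ?_⟩
        rw [hp.1, hp.2, uu_zero, mul_one, ww_sq, map_one, Module.End.one_apply, zero_smul,
          Finset.sum_congr rfl fun r _ => hf r.1 r.2, Finset.sum_const, Finset.card_univ, Fintype.card_prod, Q.hF,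
          mul_smul, ← Nat.cast_smul_eq_nsmul F, Nat.cast_pow, Nat.cast_ofNat, CharTwo.two_eq_zero,
          zero_pow (Nat.succ_ne_zero _), zero_smul]
      · obtain ⟨a', b', k, c', d', e⟩ := bruhat Q hp
        refine ⟨(χ k⁻¹ : F), ?_⟩
        rw [e]
        have e2 : ρ (uu Q a' b' * hI Q k * ww Q * uu Q c' d') v =
            (χ k⁻¹ : F) • ρ (uu Q a' b') (ρ (ww Q) v) := by
          rw [show uu Q a' b' * hI Q k * ww Q * uu Q c' d' = uu Q a' b' * (ww Q * hI Q k⁻¹) * uu Q c' d' by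
            rw [← hI_ww, ← mul_assoc]]
          simp only [map_mul, Module.End.mul_apply]
          rw [hf c' d', hv k⁻¹, map_smul, map_smul]
        rw [e2]
        simp only [map_smul, ← Finset.smul_sum]
        congr 1
        refine Eq.trans ?_ (uu_reindex Q (fun g => ρ g (ρ (ww Q) v)) a' b').2
        exact Finset.sum_congr rfl fun r _ => by rw [map_mul, Module.End.mul_apply]
    choose c hc using h0
    refine ⟨∑ p, c p, ?_⟩
    rw [e, Finset.sum_congr rfl fun p _ => hc p, Finset.sum_smul]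
  obtain ⟨k, hk⟩ : ∃ k, χ k ≠ 1 := by
    by_contra hcon
    push Not at hcon
    exact hχ (MonoidHom.ext hcon)
  have h1 := hec_wt Q (hec_wt Q hv) k
  rw [show (χ⁻¹)⁻¹ = χ from MonoidHom.ext fun x => inv_inv (χ x), hc, map_smul, hec_wt Q hv k, smul_smul, smul_smul, ← sub_eq_zero, ← sub_smul,
    mul_comm (χ k : F), ← mul_sub, mul_smul, smul_comm, smul_eq_zero] at h1
  rw [hc]
  refine h1.resolve_left fun h => hk ?_
  rw [sub_eq_zero, MonoidHom.inv_apply] at h
  have h' := Units.ext h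
  exact units_odd _ (by nth_rewrite 1 [← h']; exact inv_mul_cancel _) Q

/-- The span of the opposite unipotent translates. -/
def gen (ρ : Representation F (Cfsg.Sz F m) V) (v : V) : Submodule F V :=
  Submodule.span F (Set.range fun p : F × F => ρ (ww Q * uu Q p.1 p.2 * ww Q) v)

theorem mem_gen (ρ : Representation F (Cfsg.Sz F m) V) (v : V) : v ∈ gen Q ρ v :=
  Submodule.subset_span ⟨(0, 0), by simp [uu_zero, ww_sq]⟩

theorem gen_invariant {ρ : Representation F (Cfsg.Sz F m) V} {χ : Fˣ →* Fˣ} {v : V} (hf : UFix Q ρ v)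
    (hv : Wt Q ρ χ v) (h0 : hec Q ρ v = 0) : ∀ g, ∀ x ∈ gen Q ρ v, ρ g x ∈ gen Q ρ v := by
  classical
  let S : Submonoid (Cfsg.Sz F m) :=
    { carrier := {g | ∀ x ∈ gen Q ρ v, ρ g x ∈ gen Q ρ v}
      one_mem' := fun x hx => by simpa using hx
      mul_mem' := fun {a b} ha hb x hx => by rw [map_mul, Module.End.mul_apply]; exact ha _ (hb _ hx) }
  let K : Subgroup (Cfsg.Sz F m) :=
    { S with
      inv_mem' := fun {g} hg => by
        have : g⁻¹ ∈ Submonoid.powers g := by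
          refine ⟨orderOf g - 1, eq_inv_of_mul_eq_one_left ?_⟩
          show g ^ (orderOf g - 1) * g = 1
          rw [← pow_succ, Nat.sub_add_cancel (orderOf_pos g), pow_orderOf_eq_one]
        exact Submonoid.powers_le.2 hg this }
  have memK : ∀ g, g ∈ K ↔ ∀ x ∈ gen Q ρ v, ρ g x ∈ gen Q ρ v := fun g => Iff.rfl
  have of_gen : ∀ g, (∀ p : F × F, ρ g (ρ (ww Q * uu Q p.1 p.2 * ww Q) v) ∈ gen Q ρ v) → g ∈ K := by
    intro g hg x hx
    induction hx using Submodule.span_induction with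
    | mem y hy => obtain ⟨p, rfl⟩ := hy; exact hg p
    | zero => simp
    | add a b _ _ ha hb => rw [map_add]; exact add_mem ha hb
    | smul c a _ ha => rw [map_smul]; exact Submodule.smul_mem _ _ ha
  have hH : ∀ k, hI Q k ∈ K := fun k => of_gen _ fun p => by
    rw [← Module.End.mul_apply, ← map_mul,
      show hI Q k * (ww Q * uu Q p.1 p.2 * ww Q) =
        (ww Q * uu Q (((k⁻¹ : Fˣ) : F) * p.1) (((k⁻¹ : Fˣ) : F) ^ (2 ^ (m + 1) + 1) * p.2) * ww Q) * hI Q k by
        rw [← mul_assoc, ← mul_assoc, hI_ww, mul_assoc _ (ww Q) (hI Q k)]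
        rw [show ww Q * hI Q k = hI Q k⁻¹ * ww Q by rw [hI_ww, inv_inv]]
        simp only [mul_assoc]
        rw [← mul_assoc (hI Q k⁻¹) (uu Q p.1 p.2), uu_hI, mul_assoc],
      map_mul, Module.End.mul_apply, hv, map_smul]
    exact Submodule.smul_mem _ _ (Submodule.subset_span ⟨(_, _), rfl⟩)
  have hV : ∀ a b, ww Q * uu Q a b * ww Q ∈ K := fun a b => of_gen _ fun p => by
    rw [← Module.End.mul_apply, ← map_mul,
      show ww Q * uu Q a b * ww Q * (ww Q * uu Q p.1 p.2 * ww Q) = ww Q * (uu Q a b * uu Q p.1 p.2) * ww Q by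
        simp only [mul_assoc, ← mul_assoc (ww Q) (ww Q), ww_sq, one_mul], uu_mul]
    exact Submodule.subset_span ⟨(_, _), rfl⟩
  have hne : ∀ p : F × F, ¬(p.1 = 0 ∧ p.2 = 0) → ρ (uu Q p.1 p.2) (ρ (ww Q) v) ∈ gen Q ρ v := by
    intro p hp
    obtain ⟨a', b', k, c', d', e⟩ := bruhat Q hp
    have e2 : uu Q p.1 p.2 * ww Q = (ww Q * uu Q a' b' * ww Q) * (hI Q k⁻¹ * uu Q c' d') := by
      calc uu Q p.1 p.2 * ww Q = ww Q * (ww Q * uu Q p.1 p.2 * ww Q) := by
            rw [← mul_assoc, ← mul_assoc, ww_sq, one_mul]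
        _ = ww Q * (uu Q a' b' * hI Q k * ww Q * uu Q c' d') := by rw [e]
        _ = _ := by rw [mul_assoc (uu Q a' b'), hI_ww]; simp only [mul_assoc]
    rw [← Module.End.mul_apply, ← map_mul, e2, map_mul, map_mul (ρ) (hI Q k⁻¹), Module.End.mul_apply,
      Module.End.mul_apply, hf, hv, map_smul]
    exact Submodule.smul_mem _ _ (Submodule.subset_span ⟨(_, _), rfl⟩)
  have hwv : ρ (ww Q) v ∈ gen Q ρ v := by
    have h := h0
    rw [hec, ← Finset.add_sum_erase _ _ (Finset.mem_univ ((0, 0) : F × F)), uu_zero, map_one,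
      Module.End.one_apply, add_eq_zero_iff_eq_neg] at h
    rw [h]
    refine neg_mem (sum_mem fun p hp => hne p fun he => Finset.ne_of_mem_erase hp (Prod.ext he.1 he.2))
  have hW : ww Q ∈ K := of_gen _ fun p => by
    rw [← Module.End.mul_apply, ← map_mul, ← mul_assoc, ← mul_assoc, ww_sq, one_mul, map_mul,
      Module.End.mul_apply]
    by_cases hp : p.1 = 0 ∧ p.2 = 0
    · rw [hp.1, hp.2, uu_zero, map_one, Module.End.one_apply]
      exact hwv
    · exact hne p hp
  have htop : K = ⊤ := by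
    refine closure_gens Q (fun a b => ?_) hH hW
    have h := mul_mem (mul_mem hW (hV a b)) hW
    rwa [← mul_assoc, ← mul_assoc, ww_sq, one_mul, mul_assoc, ww_sq, mul_one] at h
  exact fun g => (memK g).1 (htop ▸ Subgroup.mem_top g)

/-- The key comparison. -/
theorem pair_injective {ρ : Representation F (Cfsg.Sz F m) V} {σ : Representation F (Cfsg.Sz F m) W}
    {χ : Fˣ →* Fˣ} {v : V} {v' : W} (hf : UFix Q ρ v) (hv : Wt Q ρ χ v) (h0 : hec Q ρ v = 0) (hne : v ≠ 0)
    (hf' : UFix Q σ v') (hv' : Wt Q σ χ v') (h0' : hec Q σ v' = 0) (hne' : v' ≠ 0)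
    (hline : ∀ w, UFix Q σ w → ∃ c : F, w = c • v') :
    (∀ g, ∀ x ∈ gen Q (ρ.prod σ) (v, v'), (ρ.prod σ) g x ∈ gen Q (ρ.prod σ) (v, v')) ∧
      ∀ x ∈ gen Q (ρ.prod σ) (v, v'), x.1 = 0 → x.2 = 0 := by
  classical
  set X := gen Q (ρ.prod σ) (v, v')
  have hinv : ∀ g, ∀ x ∈ X, (ρ.prod σ) g x ∈ X := by
    refine gen_invariant Q (fun a b => Prod.ext (hf a b) (hf' a b)) (χ := χ)
      (fun k => Prod.ext (hv k) (hv' k)) ?_
    refine Prod.ext ?_ ?_
    · rw [hec, Prod.fst_sum]; exact h0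
    · rw [hec, Prod.snd_sum]; exact h0'
  refine ⟨hinv, fun x hx hx1 => ?_⟩
  by_contra hx2
  let Y : Submodule F W := X.comap (LinearMap.inr F V W)
  have hY : ∀ g, ∀ w ∈ Y, σ g w ∈ Y := fun g w hw => by
    have := hinv g _ hw
    show ((0 : V), σ g w) ∈ X
    simpa using this
  have hxY : x.2 ∈ Y := by
    show ((0 : V), x.2) ∈ X
    rw [← hx1]
    exact hx
  obtain ⟨w, hw, hwfix⟩ := exists_fixed (k := F) (p := 2) (U := uSub Q) (isPGroup_uSub Q) (subRep σ Y hY)
    (v := ⟨x.2, hxY⟩) (fun e => hx2 (congrArg Subtype.val e))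
  obtain ⟨c, hc⟩ := hline (w : W) fun a b => congrArg Subtype.val (hwfix _ (uu_mem Q a b))
  have hv'Y : v' ∈ Y := by
    have hc0 : c ≠ 0 := fun e => hw (Subtype.ext (by rw [hc, e, zero_smul]; rfl))
    have := Y.smul_mem c⁻¹ w.2
    rwa [hc, smul_smul, inv_mul_cancel₀ hc0, one_smul] at this
  let U' : Subgroup (Cfsg.Sz F m) := (uSub Q).map (MulAut.conj (ww Q)).toMonoidHom
  have hU' : IsPGroup 2 ↥U' := (isPGroup_uSub Q).map _
  obtain ⟨f, hfv⟩ := exists_functional ρ U' hU' hne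
  obtain ⟨f', hf'v⟩ := exists_functional σ U' hU' hne'
  have hUmem : ∀ a b, ww Q * uu Q a b * ww Q ∈ U' := fun a b =>
    ⟨uu Q a b, uu_mem Q a b, by simp [ww_inv]⟩
  have hagree : ∀ y ∈ X, f y.1 = f' y.2 := by
    intro y hy
    induction hy using Submodule.span_induction with
    | mem z hz =>
      obtain ⟨p, rfl⟩ := hz
      show f (ρ _ v) = f' (σ _ v')
      rw [hfv _ (hUmem _ _), hf'v _ (hUmem _ _)]
    | zero => simp
    | add a b _ _ ha hb => simp [ha, hb]
    | smul c a _ ha => simp [ha]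
  have h1 := hagree _ hv'Y
  have h2 := hf'v 1 (one_mem _)
  simp only [LinearMap.inr_apply, map_zero] at h1
  rw [map_one, Module.End.one_apply, ← h1] at h2
  exact zero_ne_one h2

/-- A twist of the natural module. -/
noncomputable def nat (_ : Par F m) (i : ℕ) : Representation F (Cfsg.Sz F m) (Fin 4 → F) where
  toFun g := (g.1.1.map (tw i)).mulVecLin
  map_one' := by
    rw [show (1 : Cfsg.Sz F m).1.1 = (1 : Matrix (Fin 4) (Fin 4) F) from rfl,
      Matrix.map_one _ (map_zero _) (map_one _), Matrix.mulVecLin_one]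
    rfl
  map_mul' g h := by
    rw [show (g * h).1.1 = g.1.1 * h.1.1 from rfl, Matrix.map_mul, Matrix.mulVecLin_mul]
    rfl

theorem nat_apply (i : ℕ) (g : Cfsg.Sz F m) (w : Fin 4 → F) :
    nat Q i g w = (g.1.1.map (tw i)).mulVec w := rfl

/-- Basis vectors. -/
def e4 (l : Fin 4) : Fin 4 → F := Pi.single l 1

theorem nat_e4 (i : ℕ) (g : Cfsg.Sz F m) (l r : Fin 4) : nat Q i g (e4 l) r = tw i (g.1.1 r l) := by
  rw [nat_apply, e4, Matrix.mulVec_single_one]
  rfl

theorem nat_fix_e0 (i : ℕ) (a b : F) : nat Q i (uu Q a b) (e4 0) = e4 0 := by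
  funext r
  rw [nat_e4]
  show tw i (Tmat m a b r 0) = _
  fin_cases r <;> simp [Tmat, e4]

theorem nat_line (i : ℕ) {w : Fin 4 → F} (h : UFix Q (nat Q i) w) : w = w 0 • e4 0 := by
  have h3 := congrFun (h 0 1) 1
  have h2 := congrFun (h 0 1) 0
  have h1 := congrFun (h 1 0) 0
  simp [nat_apply, uu, T, Tmat, fn, Matrix.mulVec, dotProduct, Fin.sum_univ_four,
    zero_pow (pow_ne_zero (m + 1) two_ne_zero)] at h1 h2 h3
  funext r
  fin_cases r <;> simp [e4, h3]
  · simp [h3] at h2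
    simp [h3, h2] at h1
    exact h1
  · simpa [h3] using h2

theorem nat_weight (i : ℕ) (k : Fˣ) :
    nat Q i (hI Q k) (e4 0) = (((k ^ ((2 ^ m + 1) * 2 ^ i)) : Fˣ) : F) • e4 0 := by
  funext r
  rw [nat_e4]
  show tw i ((H m k).1 r 0) = _
  fin_cases r <;> simp [H, hh, e4, tw_apply, ← pow_mul]

theorem nat_last (i : ℕ) (x : Fin 4 → F) :
    ∃ c : F × F → F, ∑ p, c p • nat Q i (uu Q p.1 p.2) (e4 3) = x := by
  classical
  suffices h : Submodule.span F (Set.range fun p : F × F => nat Q i (uu Q p.1 p.2) (e4 3)) = ⊤ by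
    exact (Submodule.mem_span_range_iff_exists_fun F).1 (h ▸ Submodule.mem_top)
  set X := Submodule.span F (Set.range fun p : F × F => nat Q i (uu Q p.1 p.2) (e4 3))
  have hmem : ∀ a b, nat Q i (uu Q a b) (e4 3) ∈ X := fun a b => Submodule.subset_span ⟨(a, b), rfl⟩
  have hcol : ∀ a b, nat Q i (uu Q a b) (e4 3) = ![tw i (fn m a b), tw i b, tw i a, 1] := fun a b => by
    funext r
    rw [nat_e4]
    show tw i (Tmat m a b r 3) = _
    fin_cases r <;> simp [Tmat]
  have hz := zero_pow (pow_ne_zero (m + 1) two_ne_zero) (M₀ := F)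
  have h3 : e4 3 ∈ X := by
    simpa [uu_zero] using hmem 0 0
  have h01 : e4 0 + e4 1 ∈ X := by
    have := sub_mem (hmem 0 1) h3
    rw [hcol] at this
    convert this using 1
    funext r
    fin_cases r <;> simp [e4, fn, hz]
  have hb : ∀ b : F, (tw i b ^ 2 ^ (m + 1)) • e4 0 + tw i b • e4 1 ∈ X := fun b => by
    have := sub_mem (hmem 0 b) h3
    rw [hcol] at this
    convert this using 1
    funext r
    fin_cases r <;> simp [e4, fn, hz, ← map_pow]
  obtain ⟨b, hb'⟩ := exists_s_ne Q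
  have h0 : e4 0 ∈ X := by
    have h := sub_mem (hb b) (X.smul_mem (tw i b) h01)
    rw [smul_add, add_sub_add_right_eq_sub, ← sub_smul] at h
    refine (X.smul_mem_iff ?_).1 h
    rw [sub_ne_zero, ← map_pow]
    exact fun e => hb' (RingHom.injective _ e)
  have h1 : e4 1 ∈ X := by
    have := sub_mem h01 h0
    rwa [add_sub_cancel_left] at this
  have h2 : e4 2 ∈ X := by
    have h := sub_mem (sub_mem (sub_mem (hmem 1 0) h3) h0) (X.smul_mem (tw i (0 : F)) h1)
    rw [hcol] at h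
    convert h using 1
    funext r
    fin_cases r <;> simp [e4, fn, hz, Matrix.vecHead, Matrix.vecTail]
  rw [eq_top_iff]
  intro y _
  have e : y = y 0 • e4 0 + y 1 • e4 1 + y 2 • e4 2 + y 3 • e4 3 := by
    funext r
    fin_cases r <;> simp [e4]
  rw [e]
  exact add_mem (add_mem (add_mem (X.smul_mem _ h0) (X.smul_mem _ h1)) (X.smul_mem _ h2)) (X.smul_mem _ h3)

theorem exists_bits : ∀ n K : ℕ, K < 2 ^ n → ∃ S : Finset (Fin n), ∑ i ∈ S, 2 ^ (i : ℕ) = K := by
  intro n
  induction n with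
  | zero =>
    intro K hK
    exact ⟨∅, by simp at hK; simp [hK]⟩
  | succ n ih =>
    intro K hK
    by_cases h : K < 2 ^ n
    · obtain ⟨S, hS⟩ := ih K h
      exact ⟨S.map Fin.castSuccEmb, by simpa using hS⟩
    · obtain ⟨S, hS⟩ := ih (K - 2 ^ n) (by rw [pow_succ] at hK; omega)
      refine ⟨insert (Fin.last n) (S.map Fin.castSuccEmb), ?_⟩
      rw [Finset.sum_insert (by simp), Fin.val_last]
      simp only [Finset.sum_map, Fin.coe_castSuccEmb, Fin.val_castSucc, hS]
      omega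

theorem alpha_injective (hQ : Par F m) {k : Fˣ} (h : k ^ (2 ^ m + 1) = 1) : k = 1 := by
  have h1 : (k ^ 2 ^ m) ^ 2 ^ m = k := by
    have e : k ^ 2 ^ m = k⁻¹ := eq_inv_of_mul_eq_one_left (by rw [← pow_succ, h])
    rw [e, inv_pow, e, inv_inv]
  have h2 : k ^ 2 ^ (2 * m + 1) = k := Units.ext (by rw [Units.val_pow_eq_pow_val]; exact pow_q hQ _)
  rw [show 2 ^ (2 * m + 1) = 2 ^ m * 2 ^ m * 2 by ring, pow_mul, pow_mul, h1, pow_two] at h2
  exact mul_eq_left.1 h2

theorem exists_weight_exp (hQ : Par F m) (χ : Fˣ →* Fˣ) :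
    ∃ S : Finset (Fin (2 * m + 1)), ∀ k, χ k = k ^ topExp S := by
  classical
  obtain ⟨g, hg⟩ := IsCyclic.exists_generator (α := Fˣ)
  have hbij : Function.Bijective fun k : Fˣ => k ^ (2 ^ m + 1) := by
    refine Finite.injective_iff_bijective.1 fun a b h => ?_
    have : (a * b⁻¹) ^ (2 ^ m + 1) = 1 := by rw [mul_pow, inv_pow]; exact mul_inv_eq_one.2 h
    exact mul_inv_eq_one.1 (alpha_injective hQ this)
  obtain ⟨r, hr⟩ := hbij.2 (χ g)
  obtain ⟨K, hK⟩ := (mem_powers_iff_mem_zpowers).2 (hg r)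
  obtain ⟨K', hK', hKlt⟩ : ∃ K', g ^ K' = r ∧ K' < 2 ^ (2 * m + 1) := by
    refine ⟨K % orderOf g, by rw [pow_mod_orderOf]; exact hK, ?_⟩
    refine lt_of_lt_of_le (Nat.mod_lt _ (orderOf_pos g)) ?_
    refine (orderOf_le_card_univ).trans ?_
    rw [Fintype.card_units, hQ.hF]
    exact Nat.sub_le _ _
  obtain ⟨S, hS⟩ := exists_bits (2 * m + 1) K' hKlt
  refine ⟨S, fun k => ?_⟩
  obtain ⟨j, rfl⟩ := (mem_powers_iff_mem_zpowers).2 (hg k)
  simp only [map_pow, topExp, hS]
  rw [← hr, ← hK']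
  simp only [← pow_mul]
  congr 1
  ring

open Classical in
/-- **Classification.** -/
theorem classify [FiniteDimensional F V] {ρ : Representation F (Cfsg.Sz F m) V} (hirr : Irred ρ)
    (hN : Norm0 ρ) :
    ∃ (i : Fin (2 * m + 1)) (φ : V ≃ₗ[F] (Fin 4 → F)), ∀ g v, φ (ρ g v) = nat Q i g (φ v) := by
  haveI := hirr.nontrivial
  have h2 : ∀ x : V, x + x = 0 := fun x => by
    rw [← two_smul F x, CharTwo.two_eq_zero, zero_smul]
  obtain ⟨x₀, hx₀⟩ := exists_ne (0 : V)
  obtain ⟨w₀, hw₀, hfix₀⟩ := exists_fixed (k := F) (p := 2) (U := uSub Q) (isPGroup_uSub Q) ρ hx₀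
  -- an eigenvector
  let P : ℕ → V := fun s => ∑ k : Fˣ, (((k ^ s)⁻¹ : Fˣ) : F) • ρ (hI Q k) w₀
  have hPw : ∑ s ∈ Finset.range (Fintype.card Fˣ), P s = w₀ := by
    have hone : ((Fintype.card Fˣ : ℕ) : F) = 1 := by
      rw [Fintype.card_units, Nat.cast_sub Fintype.card_pos, FiniteField.cast_card_eq_zero, zero_sub, Nat.cast_one,
        CharTwo.neg_eq]
    simp only [P]
    rw [Finset.sum_comm, Finset.sum_eq_single (1 : Fˣ)]
    · simp [hI_one_apply Q ρ, ← Nat.cast_smul_eq_nsmul F, hone]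
    · intro k _ hk
      rw [← Finset.sum_smul]
      suffices h : ∑ s ∈ Finset.range (Fintype.card Fˣ), (((k ^ s)⁻¹ : Fˣ) : F) = 0 by rw [h, zero_smul]
      have hk' : ((k⁻¹ : Fˣ) : F) ≠ 1 := fun e => hk (inv_eq_one.1 (Units.ext e))
      have hpow : ((k⁻¹ : Fˣ) : F) ^ Fintype.card Fˣ = 1 := by
        rw [← Units.val_pow_eq_pow_val, pow_card_eq_one, Units.val_one]
      rw [Finset.sum_congr rfl fun s _ => show (((k ^ s)⁻¹ : Fˣ) : F) = ((k⁻¹ : Fˣ) : F) ^ s by
        rw [← inv_pow, Units.val_pow_eq_pow_val]]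
      rw [geom_sum_eq hk', hpow, sub_self, zero_div]
    · simp
  obtain ⟨s, -, hs⟩ := Finset.exists_ne_zero_of_sum_ne_zero (by rw [hPw]; exact hw₀)
  set χ₀ : Fˣ →* Fˣ := powMonoidHom s
  have hPf : UFix Q ρ (P s) := fun a b => by
    simp only [P, map_sum, map_smul]
    refine Finset.sum_congr rfl fun k _ => ?_
    congr 1
    rw [← Module.End.mul_apply, ← map_mul, show uu Q a b * hI Q k =
      hI Q k * uu Q (((k⁻¹ : Fˣ) : F) * a) (((k⁻¹ : Fˣ) : F) ^ (2 ^ (m + 1) + 1) * b) by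
        rw [uu_hI]
        congr 2 <;> simp [← mul_assoc, ← mul_pow], map_mul, Module.End.mul_apply, hfix₀ _ (uu_mem Q _ _)]
  have hPv : Wt Q ρ χ₀ (P s) := fun l => by
    simp only [P, map_sum, map_smul, Finset.smul_sum]
    rw [← Equiv.sum_comp (Equiv.mulLeft l) (fun k : Fˣ => (χ₀ l : F) • ((((k ^ s)⁻¹ : Fˣ) : F) • ρ (hI Q k) w₀))]
    refine Finset.sum_congr rfl fun k _ => ?_
    rw [← Module.End.mul_apply, ← map_mul, show hI Q l * hI Q k = hI Q (l * k) from ((hHom Q).map_mul l k).symm,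
      smul_smul, Equiv.coe_mulLeft, ← Units.val_mul]
    congr 2
    simp [χ₀, mul_pow]
  -- the weight is not trivial
  have hne1 : ∀ {χ : Fˣ →* Fˣ} {v : V}, Wt Q ρ χ v → v ≠ 0 → χ ≠ 1 := by
    intro χ v hv hv0 e
    subst e
    obtain ⟨k, hk⟩ : ∃ k : Fˣ, k ≠ 1 := by
      haveI : Nontrivial Fˣ := Fintype.one_lt_card_iff_nontrivial.1 (by
        rw [Fintype.card_units, Q.hF]
        have : 2 ^ (1 + 1) ≤ 2 ^ (2 * m + 1) := Nat.pow_le_pow_right two_pos (by have := Q.hm; omega)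
        omega)
      exact exists_ne 1
    refine hv0 (hN.eq_zero h2 (orderOf_hI_odd Q k) (hI_ne Q hk) ?_)
    rw [hv k]
    simp
  obtain ⟨v, χ, hv0, hf, hv, hh0⟩ : ∃ (v : V) (χ : Fˣ →* Fˣ), v ≠ 0 ∧ UFix Q ρ v ∧ Wt Q ρ χ v ∧ hec Q ρ v = 0 := by
    by_cases h : hec Q ρ (P s) = 0
    · exact ⟨P s, χ₀, hs, hPf, hPv, h⟩
    · exact ⟨_, _, h, hec_fix Q ρ _, hec_wt Q hPv, hec_hec Q hPf hPv (hne1 hPv hs)⟩
  have hχ := hne1 hv hv0
  obtain ⟨S, hS⟩ := exists_weight_exp Q χ
  have hkill : ∀ {W' : Type _} [AddCommGroup W'] [Module F W'] {σ : Representation F (Cfsg.Sz F m) W'} {v' : W'},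
      Wt Q σ χ v' → v' ≠ 0 → (∀ w, UFix Q σ w → ∃ c : F, w = c • v') → hec Q σ v' = 0 := by
    intro W' _ _ σ v' hv' hne' hline
    obtain ⟨c, hc⟩ := hline _ (hec_fix Q σ v')
    obtain ⟨k, hk⟩ : ∃ k, χ k ≠ 1 := by
      by_contra hcon
      push Not at hcon
      exact hχ (MonoidHom.ext hcon)
    have h := hec_wt Q hv' k
    rw [hc, map_smul, hv' k, smul_smul, smul_smul, ← sub_eq_zero, ← sub_smul, mul_comm c, ← sub_mul,
      smul_eq_zero, mul_eq_zero] at h
    rcases h with (h | h) | h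
    · refine absurd ?_ hk
      rw [sub_eq_zero, MonoidHom.inv_apply] at h
      have h' := Units.ext h
      exact units_odd _ (by nth_rewrite 2 [h']; exact mul_inv_cancel _) Q
    · rw [hc, h, zero_smul]
    · exact absurd h hne'
  rcases Nat.lt_or_ge 1 S.card with hcard | hcard
  · -- two or more twists
    exfalso
    have hv' : Wt Q (tensor Q S) χ (top S) := fun k => by rw [hS]; exact top_weight Q S k
    have hline : ∀ w, UFix Q (tensor Q S) w → ∃ c : F, w = c • top S := fun w hw => ⟨_, fixed_line Q S hw⟩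
    obtain ⟨hinv, hinj⟩ := pair_injective Q hf hv hh0 hv0 (top_fixed Q S) hv' (hkill hv' (top_ne S) hline)
      (top_ne S) hline
    set y := ∑ n ∈ Finset.range 5, (ρ.prod (tensor Q S)) (five Q ^ n) (v, top S)
    have hy : y ∈ gen Q (ρ.prod (tensor Q S)) (v, top S) :=
      sum_mem fun n _ => hinv _ _ (mem_gen Q _ _)
    have ho := orderOf_five Q
    refine norm_five_ne Q S hcard ?_
    have h1 : y.1 = 0 := by
      rw [Prod.fst_sum]
      have := hN (five Q) (by rw [ho]; decide) (fun e => by rw [e, orderOf_one] at ho; norm_num at ho) v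
      rw [ho] at this
      exact this
    have h2' := hinj y hy h1
    rw [Prod.snd_sum] at h2'
    exact h2'
  · -- one twist
    obtain ⟨i, rfl⟩ : ∃ i, S = {i} := by
      refine Finset.card_eq_one.1 (le_antisymm hcard (Finset.card_pos.2 (Finset.nonempty_iff_ne_empty.2 fun e => ?_)))
      refine hχ (MonoidHom.ext fun k => ?_)
      rw [hS, e]
      simp [topExp]
    refine ⟨i, ?_⟩
    have hv' : Wt Q (nat Q i) χ (e4 0) := fun k => by rw [hS, nat_weight]; simp [topExp]
    have hne' : (e4 0 : Fin 4 → F) ≠ 0 := fun e => by simpa [e4] using congrFun e 0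
    have hline : ∀ w, UFix Q (nat Q i) w → ∃ c : F, w = c • e4 0 := fun w hw => ⟨_, nat_line Q i hw⟩
    obtain ⟨hinv, hinj⟩ := pair_injective Q hf hv hh0 hv0 (nat_fix_e0 Q i) hv' (hkill hv' hne' hline) hne' hline
    set X := gen Q (ρ.prod (nat Q i)) (v, e4 0) with hX
    let p1 : X →ₗ[F] V := (LinearMap.fst F V _).comp X.subtype
    let p2 : X →ₗ[F] (Fin 4 → F) := (LinearMap.snd F V _).comp X.subtype
    have hp1 : Function.Bijective p1 := by
      constructor
      · refine (injective_iff_map_eq_zero p1).2 fun x hx => Subtype.ext ?_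
        exact Prod.ext hx (hinj _ x.2 hx)
      · rw [← LinearMap.range_eq_top]
        refine (hirr.eq_bot_or_top _ ?_).resolve_left fun e => hv0 ?_
        · rintro g _ ⟨x, rfl⟩
          exact ⟨⟨_, hinv g _ x.2⟩, rfl⟩
        · exact (Submodule.mem_bot F).1 (e ▸ ⟨⟨_, mem_gen Q _ _⟩, rfl⟩)
    let e := LinearEquiv.ofBijective p1 hp1
    let φ := p2.comp e.symm.toLinearMap
    have hφ : ∀ x : X, φ (x : V × (Fin 4 → F)).1 = (x : V × (Fin 4 → F)).2 := fun x => by
      show p2 (e.symm (e x)) = _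
      rw [e.symm_apply_apply]
      rfl
    have heq : ∀ g w, φ (ρ g w) = nat Q i g (φ w) := fun g w => by
      obtain ⟨x, rfl⟩ := hp1.2 w
      have := hφ ⟨_, hinv g _ x.2⟩
      exact this.trans (by rw [show φ (p1 x) = _ from hφ x]; rfl)
    have hφv : φ v = e4 0 := hφ ⟨_, mem_gen Q _ _⟩
    have hinjφ : Function.Injective φ := by
      refine LinearMap.ker_eq_bot.1 ((hirr.eq_bot_or_top _ fun g w hw => ?_).resolve_right fun e' => hne' ?_)
      · rw [LinearMap.mem_ker] at hw ⊢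
        rw [heq, hw, map_zero]
      · rw [← hφv]
        exact LinearMap.mem_ker.1 (e' ▸ Submodule.mem_top)
    have hsurj : Function.Surjective φ := by
      intro x
      obtain ⟨c, hc⟩ := nat_last Q i x
      refine ⟨∑ p, c p • ρ (uu Q p.1 p.2) (ρ (ww Q) v), ?_⟩
      rw [map_sum, ← hc]
      refine Finset.sum_congr rfl fun p _ => ?_
      rw [map_smul, heq, heq, hφv]
      congr 2
      funext r
      rw [nat_e4]
      show tw (i : ℕ) ((W F).1 r 0) = _
      fin_cases r <;> simp [W, e4]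
    exact ⟨LinearEquiv.ofBijective φ ⟨hinjφ, hsurj⟩, heq⟩
where
  hI_one_apply (Q : Par F m) (ρ : Representation F (Cfsg.Sz F m) V) : ρ (hI Q 1) = 1 := by
    rw [show hI Q 1 = 1 from map_one (hHom Q), map_one]

end Cfsg.Lib.CNStructure
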