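import Mathlib

/-!
An extension of `ZMod 4` reducing to a given finite field of characteristic two, with multiplicative lifts.
-/

set_option autoImplicit false
set_option linter.unusedSectionVars false

open Polynomial

namespace Cfsg.Lib.CNStructure

theorem even_of_red : ∀ a : ZMod 4, ZMod.castHom (by norm_num : 2 ∣ 4) (ZMod 2) a = 0 → ∃ z, a = 2 * z := by
  decide

variable {F : Type*} [Field F] [Fintype F] [CharP F 2]

theorem exists_galoisRing :
    ∃ (R : Type) (_ : CommRing R) (_ : Algebra (ZMod 4) R) (_ : Module.Finite (ZMod 4) R) (π : R →+* F)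
      (φ : R →ₗ[ZMod 4] ZMod 4), φ 1 = 1 ∧ Function.Surjective π ∧ (∀ r, π r = 0 → ∃ s, r = 2 * s) ∧
        (4 : R) = 0 := by
  classical
  letI : Algebra (ZMod 2) F := ZMod.algebra F 2
  haveI : Fact (Nat.Prime 2) := ⟨Nat.prime_two⟩
  haveI : Nontrivial (ZMod 4) := ⟨⟨0, 1, by decide⟩⟩
  obtain ⟨g, hg⟩ := IsCyclic.exists_generator (α := Fˣ)
  have hint : IsIntegral (ZMod 2) (g : F) := Algebra.IsIntegral.isIntegral _
  let red : ZMod 4 →+* ZMod 2 := ZMod.castHom (by norm_num : 2 ∣ 4) (ZMod 2)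
  have hred : Function.Surjective red := ZMod.ringHom_surjective red
  obtain ⟨f, hf, hdeg, hmon⟩ := lifts_and_degree_eq_and_monic
    ((mem_lifts _).2 (map_surjective red hred (minpoly (ZMod 2) (g : F)))) (minpoly.monic hint)
  let i : ZMod 4 →+* F := (algebraMap (ZMod 2) F).comp red
  have heval : ∀ P : (ZMod 4)[X], P.eval₂ i (g : F) = aeval (g : F) (P.map red) := fun P => by
    rw [aeval_def, eval₂_map]
  have h0 : f.eval₂ i (g : F) = 0 := by rw [heval, hf, minpoly.aeval]
  let π : AdjoinRoot f →+* F := AdjoinRoot.lift i (g : F) h0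
  have hd : 0 < f.natDegree := by
    rw [natDegree_eq_of_degree_eq hdeg]
    exact minpoly.natDegree_pos hint
  have hf1 : f ≠ 1 := fun e => by rw [e, natDegree_one] at hd; exact lt_irrefl _ hd
  refine ⟨AdjoinRoot f, inferInstance, inferInstance, hmon.finite_adjoinRoot, π,
    (lcoeff (ZMod 4) 0).comp (AdjoinRoot.modByMonicHom hmon), ?_, ?_, ?_, ?_⟩
  · show (AdjoinRoot.modByMonicHom hmon 1).coeff 0 = 1
    rw [← map_one (AdjoinRoot.mk f), AdjoinRoot.modByMonicHom_mk,
      (modByMonic_eq_self_iff hmon).2 (by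
        rw [degree_one, degree_eq_natDegree hmon.ne_zero]
        exact_mod_cast hd), coeff_one_zero]
  · intro x
    by_cases hx : x = 0
    · exact ⟨0, by rw [map_zero, hx]⟩
    · obtain ⟨n, hn⟩ := mem_powers_iff_mem_zpowers.2 (hg (Units.mk0 x hx))
      refine ⟨AdjoinRoot.root f ^ n, ?_⟩
      rw [map_pow, AdjoinRoot.lift_root]
      simpa using congrArg Units.val hn
  · intro r hr
    obtain ⟨P, rfl⟩ := AdjoinRoot.mk_surjective r
    have e : AdjoinRoot.mk f P = AdjoinRoot.mk f (P %ₘ f) := by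
      conv_lhs => rw [← modByMonic_add_div P f, map_add, map_mul, AdjoinRoot.mk_self, zero_mul, add_zero]
    rw [e] at hr ⊢
    rw [AdjoinRoot.lift_mk, heval] at hr
    have hzero : (P %ₘ f).map red = 0 := by
      by_contra hne
      have h1 := minpoly.degree_le_of_ne_zero (ZMod 2) (g : F) hne hr
      have h2 : ((P %ₘ f).map red).degree < f.degree :=
        lt_of_le_of_lt degree_map_le (degree_modByMonic_lt P hmon)
      rw [hdeg] at h2
      exact absurd h1 (not_le.2 h2)
    have hcoef : ∀ n, ∃ z, (P %ₘ f).coeff n = 2 * z := fun n => by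
      have h := congrArg (fun q : (ZMod 2)[X] => q.coeff n) hzero
      simp only [coeff_map, coeff_zero] at h
      exact even_of_red _ h
    choose z hz using hcoef
    refine ⟨AdjoinRoot.mk f (∑ n ∈ (P %ₘ f).support, monomial n (z n)), ?_⟩
    rw [← map_ofNat (AdjoinRoot.mk f) 2, ← map_mul]
    congr 1
    conv_lhs => rw [(P %ₘ f).as_sum_support]
    rw [Finset.mul_sum]
    refine Finset.sum_congr rfl fun n _ => ?_
    rw [hz n, ← C_mul_monomial, map_ofNat]
  · have : ((4 : ℕ) : AdjoinRoot f) = 0 := by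
      rw [← map_natCast (algebraMap (ZMod 4) (AdjoinRoot f)), ZMod.natCast_self, map_zero]
    simpa using this

/-- Multiplicative lifts. -/
theorem exists_teich {R : Type*} [CommRing R] (π : R →+* F) (hπ : Function.Surjective π)
    (hker : ∀ r, π r = 0 → ∃ s, r = 2 * s) (h4 : (4 : R) = 0) :
    ∃ τ : F →* R, (∀ x, π (τ x) = x) ∧ τ 0 = 0 ∧ (∀ r x, π r = x → 2 * r = 2 * τ x) ∧
      ∀ A B : F, τ ((A + B) ^ 2) = τ (A ^ 2) + τ (B ^ 2) + 2 * τ (A * B) := by
  classical
  haveI : Fact (Nat.Prime 2) := ⟨Nat.prime_two⟩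
  haveI : ExpChar F 2 := ExpChar.prime Nat.prime_two
  have hsq : Function.Surjective fun x : F => x ^ 2 :=
    (Finite.injective_iff_surjective).1 (frobenius_inj F 2)
  choose s hs using hsq
  choose l hl using hπ
  have htwo : ∀ a b : R, π a = π b → 2 * a = 2 * b := fun a b h => by
    obtain ⟨c, hc⟩ := hker (a - b) (by rw [map_sub, h, sub_self])
    linear_combination 2 * hc + c * h4
  have hwell : ∀ a b : R, π a = π b → a ^ 2 = b ^ 2 := fun a b h => by
    obtain ⟨c, hc⟩ := hker (a - b) (by rw [map_sub, h, sub_self])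
    linear_combination (a + b + 2 * c) * hc + (b * c + c ^ 2) * h4
  have hval : ∀ (r : R) (x : F), π r ^ 2 = x → r ^ 2 = l (s x) ^ 2 := fun r x h => by
    refine hwell _ _ (frobenius_inj F 2 ?_)
    show π r ^ 2 = π (l (s x)) ^ 2
    rw [hl, h]
    exact (hs x).symm
  let τ : F →* R :=
    { toFun := fun x => l (s x) ^ 2
      map_one' := by
        rw [← hval 1 1 (by rw [map_one, one_pow]), one_pow]
      map_mul' := fun x y => by
        rw [← mul_pow]
        refine (hval _ _ ?_).symm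
        rw [map_mul, hl, hl, mul_pow]
        exact congrArg₂ (· * ·) (hs x) (hs y) }
  have hπτ : ∀ x, π (τ x) = x := fun x => by
    show π (l (s x) ^ 2) = x
    rw [map_pow, hl]
    exact hs x
  refine ⟨τ, hπτ, ?_, fun r x h => htwo _ _ (by rw [h, hπτ]), fun A B => ?_⟩
  · show l (s 0) ^ 2 = 0
    rw [← hval 0 0 (by rw [map_zero, zero_pow two_ne_zero]), zero_pow two_ne_zero]
  · have e : ∀ X : F, τ (X ^ 2) = l X ^ 2 := fun X => (hval _ _ (by rw [hl])).symm
    rw [e A, e B]
    have e2 : τ ((A + B) ^ 2) = (l A + l B) ^ 2 := (hval _ _ (by rw [map_add, hl, hl])).symm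
    rw [e2, ← htwo (l A * l B) (τ (A * B)) (by rw [map_mul, hl, hl, hπτ])]
    ring

end Cfsg.Lib.CNStructure
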