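import Cfsg.Agent.CNStructure.Classify
import Cfsg.Agent.CNStructure.Galois
import Mathlib.LinearAlgebra.TensorProduct.Tower

/-!
An abelian group of exponent four on which a Suzuki group acts with vanishing norms has exponent two.
-/

set_option autoImplicit false
set_option linter.unusedSectionVars false
set_option linter.unusedSimpArgs false
set_option linter.style.haveILetI false

open Matrix
open scoped TensorProduct

namespace Cfsg.Lib.CNStructure

open Cfsg.Lib.Suz
open Cfsg.Lib.Modular (Irred subRep)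

variable {F : Type*} [Field F] [Fintype F] [CharP F 2] {m : ℕ} (Q : Par F m)
include Q

theorem pow_theta_half (i : ℕ) (x : F) :
    (x ^ (2 ^ (m + 1) + 1)) ^ 2 ^ (m + i) = x ^ ((2 ^ m + 1) * 2 ^ i) := by
  rw [← pow_mul, show (2 ^ (m + 1) + 1) * 2 ^ (m + i) = 2 ^ (2 * m + 1) * 2 ^ i + 2 ^ m * 2 ^ i by ring,
    pow_add, pow_mul, pow_q Q, ← pow_add]
  congr 1
  ring

theorem theta_succ_surjective : Function.Surjective fun k : Fˣ => k ^ (2 ^ (m + 1) + 1) := by
  refine Finite.injective_iff_surjective.1 fun k l h => ?_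
  have h1 : (k * l⁻¹) ^ (2 ^ (m + 1) + 1) = 1 := by rw [mul_pow, inv_pow]; exact mul_inv_eq_one.2 h
  refine mul_inv_eq_one.1 (alpha_injective Q (Units.ext ?_))
  have h2 := pow_theta_half Q 0 ((k * l⁻¹ : Fˣ) : F)
  rw [← Units.val_pow_eq_pow_val, h1, Units.val_one, one_pow, pow_zero, mul_one] at h2
  rw [Units.val_pow_eq_pow_val, Units.val_one]
  exact h2.symm

open Classical in
theorem card_units_cast {R : Type*} [CommRing R] (h4 : (4 : R) = 0) : ((Fintype.card Fˣ : ℕ) : R) = -1 := by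
  classical
  obtain ⟨j, hj⟩ : ∃ j, 2 * m + 1 = j + 2 := ⟨2 * m - 1, by have := Q.hm; omega⟩
  rw [Fintype.card_units, Q.hF, Nat.cast_sub Nat.one_le_two_pow, hj, pow_add]
  push_cast
  rw [h4, mul_zero, zero_sub]

open Classical in
/-- Sums over the torus vanish. -/
theorem torus_sum {S M : Type*} [CommRing S] [AddCommGroup M] [Module S M]
    {ρ : Representation S (Cfsg.Sz F m) M} (hN : Norm0 ρ) (z : M) : ∑ k : Fˣ, ρ (hI Q k) z = 0 := by
  classical
  obtain ⟨g, hg⟩ := IsCyclic.exists_generator (α := Fˣ)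
  have ho : orderOf (hI Q g) = orderOf g :=
    orderOf_injective (hHom Q) (fun a b h => H_injective Q (congrArg Subtype.val h)) g
  have hg1 : g ≠ 1 := fun e => by
    haveI : Nontrivial Fˣ := Fintype.one_lt_card_iff_nontrivial.1 (by
      rw [Fintype.card_units, Q.hF]
      have : 2 ^ (1 + 1) ≤ 2 ^ (2 * m + 1) := Nat.pow_le_pow_right two_pos (by have := Q.hm; omega)
      omega)
    obtain ⟨k, hk⟩ := exists_ne (1 : Fˣ)
    obtain ⟨n, hn⟩ := mem_powers_iff_mem_zpowers.2 (hg k)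
    rw [e] at hn
    exact hk (hn.symm.trans (one_pow n))
  rw [← hN (hI Q g) (orderOf_hI_odd Q g) (hI_ne Q hg1) z, ho]
  refine (Finset.sum_nbij (fun n => g ^ n) (fun _ _ => Finset.mem_univ _)
    (fun a ha b hb h => pow_injOn_Iio_orderOf (Finset.mem_range.1 ha) (Finset.mem_range.1 hb) h) (fun k _ => ?_)
    (fun n _ => ?_)).symm
  · obtain ⟨n, hn⟩ := mem_powers_iff_mem_zpowers.2 (hg k)
    exact ⟨n % orderOf g, by simpa using Nat.mod_lt _ (orderOf_pos g), (pow_mod_orderOf g n).trans hn⟩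
  · rw [show hI Q (g ^ n) = hI Q g ^ n from map_pow (hHom Q) g n]

/-- **Exponent two.** -/
theorem two_smul_zero {A : Type*} [AddCommGroup A] [Finite A] (h4A : ∀ x : A, 4 • x = 0)
    (ρ₀ : Representation ℤ (Cfsg.Sz F m) A) (hN₀ : Norm0 ρ₀) : ∀ x : A, 2 • x = 0 := by
  classical
  letI : Module (ZMod 4) A := AddCommGroup.zmodModule h4A
  let ρ : Representation (ZMod 4) (Cfsg.Sz F m) A :=
    { toFun := fun g => (ρ₀ g).toAddMonoidHom.toZModLinearMap 4
      map_one' := LinearMap.ext fun x => by simp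
      map_mul' := fun g h => LinearMap.ext fun x => by simp }
  obtain ⟨R, _, _, _, π, φ, hφ, hπ, hker, h4⟩ := exists_galoisRing (F := F)
  obtain ⟨τ, hπτ, hτ0, h2τ, hsq⟩ := exists_teich π hπ hker h4
  let ρR : Representation R (Cfsg.Sz F m) (R ⊗[ZMod 4] A) :=
    { toFun := fun g => (ρ g).baseChange R
      map_one' := by rw [map_one]; ext x; simp
      map_mul' := fun g h => by rw [map_mul]; ext x; simp }
  have hNR : Norm0 ρR := fun g ho hg z => by
    induction z using TensorProduct.induction_on with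
    | zero => simp
    | tmul r a =>
      have h : ∑ n ∈ Finset.range (orderOf g), ρ (g ^ n) a = 0 := hN₀ g ho hg a
      show ∑ n ∈ Finset.range (orderOf g), r ⊗ₜ[ZMod 4] ρ (g ^ n) a = 0
      rw [← TensorProduct.tmul_sum, h, TensorProduct.tmul_zero]
    | add a b ha hb => simp only [map_add, Finset.sum_add_distrib, ha, hb, add_zero]
  haveI : Finite (R ⊗[ZMod 4] A) := Module.finite_of_finite (ZMod 4)
  let W : Submodule R (R ⊗[ZMod 4] A) := LinearMap.range (LinearMap.lsmul R (R ⊗[ZMod 4] A) 2)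
  by_cases hW : W = ⊥
  · intro x
    have h : (2 : R) • ((1 : R) ⊗ₜ[ZMod 4] x) = 0 := (Submodule.mem_bot R).1 (by rw [← hW]; exact ⟨(1 : R) ⊗ₜ[ZMod 4] x, rfl⟩)
    rw [TensorProduct.smul_tmul', smul_eq_mul, mul_one] at h
    have h' := congrArg (fun z => TensorProduct.lid (ZMod 4) A (LinearMap.rTensor A φ z)) h
    simp only [LinearMap.rTensor_tmul, TensorProduct.lid_tmul, map_zero] at h'
    rw [show (2 : R) = (2 : ℕ) • (1 : R) by norm_num, map_nsmul, hφ, nsmul_one] at h'
    rw [← Nat.cast_smul_eq_nsmul (ZMod 4)]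
    exact h'
  exfalso
  have key : ∀ {r r' : R} (w : W), π r = π r' → r • w = r' • w := by
    intro r r' w h
    obtain ⟨s, hs⟩ := hker (r - r') (by rw [map_sub, h, sub_self])
    obtain ⟨z, hz⟩ := w.2
    refine sub_eq_zero.1 (Subtype.ext ?_)
    show r • (w : R ⊗[ZMod 4] A) - r' • (w : R ⊗[ZMod 4] A) = 0
    rw [sub_eq_zero, sub_eq_iff_eq_add.1 hs, add_smul, add_eq_right, ← hz, LinearMap.lsmul_apply, smul_smul,
      show 2 * s * 2 = s * (4 : R) by ring, h4, mul_zero, zero_smul]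
  letI : SMul F W := ⟨fun x w => τ x • w⟩
  letI : @Module F W _ (Submodule.addCommGroup W).toAddCommMonoid :=
    { one_smul := fun w => by show τ 1 • w = w; rw [map_one, one_smul]
      mul_smul := fun x y w => by show τ (x * y) • w = τ x • τ y • w; rw [map_mul, mul_smul]
      smul_zero := fun x => smul_zero (τ x)
      smul_add := fun x a b => smul_add (τ x) a b
      add_smul := fun x y w => by
        show τ (x + y) • w = τ x • w + τ y • w
        rw [← add_smul]
        exact key w (by rw [hπτ, map_add, hπτ, hπτ])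
      zero_smul := fun w => by show τ 0 • w = 0; rw [hτ0, zero_smul] }
  have hinv : ∀ g, ∀ z ∈ W, ρR g z ∈ W := by
    rintro g _ ⟨z, rfl⟩
    exact ⟨ρR g z, (map_smul (ρR g) 2 z).symm⟩
  let ρW : Representation F (Cfsg.Sz F m) W :=
    { toFun := fun g =>
        { toFun := fun w => ⟨ρR g w, hinv g _ w.2⟩
          map_add' := fun a b => Subtype.ext (map_add _ _ _)
          map_smul' := fun x w => Subtype.ext (map_smul (ρR g) (τ x) (w : R ⊗[ZMod 4] A)) }
      map_one' := LinearMap.ext fun w => Subtype.ext (by simp)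
      map_mul' := fun g h => LinearMap.ext fun w => Subtype.ext (by simp) }
  have hNW : Norm0 ρW := fun g ho hg w => Subtype.ext (by
    rw [Submodule.coe_sum]
    exact hNR g ho hg (w : R ⊗[ZMod 4] A))
  haveI : Finite W := Subtype.finite
  haveI : FiniteDimensional F W := Module.Finite.of_finite
  obtain ⟨w₀, hw₀⟩ : ∃ w : W, w ≠ 0 := by
    obtain ⟨z, hz, hz0⟩ := (Submodule.ne_bot_iff W).1 hW
    exact ⟨⟨z, hz⟩, fun e => hz0 (congrArg Subtype.val e)⟩
  let S : Set (Submodule F W) := {M | (∀ g, ∀ v ∈ M, ρW g v ∈ M) ∧ M ≠ ⊥}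
  obtain ⟨M, ⟨hM, hMne⟩, hmin⟩ := (wellFounded_lt (α := Submodule F W)).has_min S
    ⟨⊤, fun _ _ _ => Submodule.mem_top, fun e => hw₀ ((Submodule.mem_bot F).1 (e ▸ Submodule.mem_top))⟩
  haveI : Nontrivial M := Submodule.nontrivial_iff_ne_bot.2 hMne
  have hirr : Irred (subRep ρW M hM) := ⟨inferInstance, fun Y hY => by
    by_cases hY0 : Y.map M.subtype = ⊥
    · exact Or.inl (Submodule.map_injective_of_injective M.subtype_injective (by rw [hY0, Submodule.map_bot]))
    · refine Or.inr (Submodule.map_injective_of_injective M.subtype_injective ?_)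
      rw [Submodule.map_subtype_top]
      refine ((M.map_subtype_le Y).lt_or_eq).resolve_left (hmin _ ⟨fun g v hv => ?_, hY0⟩)
      obtain ⟨v, hv, rfl⟩ := hv
      exact ⟨_, hY g v hv, rfl⟩⟩
  have hNM : Norm0 (subRep ρW M hM) := fun g ho hg w => Subtype.ext (by
    rw [Submodule.coe_sum]
    exact hNW g ho hg (w : W))
  obtain ⟨i, ψ, hψ⟩ := classify Q hirr hNM
  let ι : (Fin 4 → F) →+ R ⊗[ZMod 4] A :=
    (W.subtype.toAddMonoidHom).comp ((M.subtype.comp ψ.symm.toLinearMap).toAddMonoidHom)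
  have ι_inj : Function.Injective ι := fun a b h =>
    ψ.symm.injective (Subtype.ext (Subtype.ext h))
  have ι_act : ∀ g x, ρR g (ι x) = ι (nat Q i g x) := fun g x => by
    have h : ψ.symm (nat Q i g x) = subRep ρW M hM g (ψ.symm x) := by
      rw [LinearEquiv.symm_apply_eq, hψ, LinearEquiv.apply_symm_apply]
    show _ = ((ψ.symm (nat Q i g x) : W) : R ⊗[ZMod 4] A)
    rw [h]
    rfl
  have ι_smul : ∀ (c : F) x, τ c • ι x = ι (c • x) := fun c x => by
    show _ = ((ψ.symm (c • x) : W) : R ⊗[ZMod 4] A)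
    rw [map_smul]
    rfl
  -- projections to eigenspaces of the torus
  let P : (Fˣ →* Fˣ) → (R ⊗[ZMod 4] A →ₗ[R] R ⊗[ZMod 4] A) := fun χ =>
    ∑ k : Fˣ, τ ((χ k)⁻¹ : Fˣ) • ρR (hI Q k)
  have hPa : ∀ χ z, P χ z = ∑ k : Fˣ, τ ((χ k)⁻¹ : Fˣ) • ρR (hI Q k) z := fun χ z => by
    simp [P, LinearMap.sum_apply]
  have hIm : ∀ k l : Fˣ, hI Q k * hI Q l = hI Q (k * l) := fun k l => ((hHom Q).map_mul k l).symm
  have τinv : ∀ u : Fˣ, τ (u : F) * τ ((u⁻¹ : Fˣ) : F) = 1 := fun u => by
    rw [← map_mul, Units.mul_inv, map_one]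
  have hPeig : ∀ χ z l, ρR (hI Q l) (P χ z) = τ (χ l : F) • P χ z := fun χ z l => by
    simp only [hPa, map_sum, map_smul, Finset.smul_sum]
    conv_rhs => rw [← Equiv.sum_comp (Equiv.mulLeft l)]
    refine Finset.sum_congr rfl fun k _ => ?_
    rw [← Module.End.mul_apply, ← map_mul, hIm, Equiv.coe_mulLeft, smul_smul, ← map_mul, ← Units.val_mul]
    congr 3
    simp
  have hPcomm : ∀ χ z l, P χ (ρR (hI Q l) z) = ρR (hI Q l) (P χ z) := fun χ z l => by
    simp only [hPa, map_sum, map_smul]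
    refine Finset.sum_congr rfl fun k _ => ?_
    rw [← Module.End.mul_apply, ← Module.End.mul_apply (ρR (hI Q l)), ← map_mul, ← map_mul, hIm, hIm, mul_comm]
  have hPfix : ∀ χ z, (∀ k, ρR (hI Q k) z = τ (χ k : F) • z) → P χ z = -z := fun χ z h => by
    rw [hPa, Finset.sum_congr rfl fun k _ => show τ ((χ k)⁻¹ : Fˣ) • ρR (hI Q k) z = z by
        rw [h, smul_smul, mul_comm, τinv, one_smul], Finset.sum_const, Finset.card_univ,
      ← Nat.cast_smul_eq_nsmul R, card_units_cast Q h4, neg_smul, one_smul]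
  set ω : Fˣ →* Fˣ := powMonoidHom ((2 ^ m + 1) * 2 ^ (i : ℕ)) with hω
  have hω3 : ∀ k, ρR (hI Q k) (ι (e4 3)) = τ ((ω⁻¹ k : Fˣ) : F) • ι (e4 3) := fun k => by
    rw [ι_act, ι_smul]
    congr 1
    funext r
    rw [nat_e4]
    show tw (i : ℕ) ((H m k).1 r 3) = _
    fin_cases r <;> simp [H, hh, e4, tw_apply, ω, ← pow_mul, inv_pow]
  obtain ⟨y₀, hy₀⟩ : ∃ y₀, (2 : R) • y₀ = ι (e4 3) := ((ψ.symm (e4 3) : W)).2
  set y := -(P ω⁻¹ y₀) with hy
  have hy2 : (2 : R) • y = ι (e4 3) := by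
    rw [hy, smul_neg, ← map_smul, hy₀, hPfix _ _ hω3, neg_neg]
  have hyk : ∀ k, ρR (hI Q k) y = τ ((ω⁻¹ k : Fˣ) : F) • y := fun k => by
    rw [hy, map_neg, hPeig, smul_neg]
  let n : F → (R ⊗[ZMod 4] A →ₗ[R] R ⊗[ZMod 4] A) := fun b => ρR (uu Q 0 b) - 1
  have hn : ∀ b z, n b z = ρR (uu Q 0 b) z - z := fun b z => rfl
  have hz : (0 : F) ^ 2 ^ (m + 1) = 0 := zero_pow (pow_ne_zero _ two_ne_zero)
  have hnn : ∀ a b z, n a (n b z) = n (a + b) z - n a z - n b z := fun a b z => by
    simp only [hn, map_sub]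
    rw [← Module.End.mul_apply, ← map_mul, uu_mul, hz, zero_mul, add_zero, add_zero]
    abel
  let f : F → R ⊗[ZMod 4] A := fun b => P ω (n b y)
  have hhn : ∀ (k : Fˣ) b, ρR (hI Q k) (n b y) =
      τ ((ω⁻¹ k : Fˣ) : F) • n ((k : F) ^ (2 ^ (m + 1) + 1) * b) y := fun k b => by
    rw [hn, hn, map_sub, ← Module.End.mul_apply, ← map_mul, uu_hI, mul_zero, map_mul, Module.End.mul_apply, hyk,
      map_smul, smul_sub]
  let g : F → F := fun b => b ^ 2 ^ (m + (i : ℕ))
  have hgε : ∀ k : Fˣ, g ((k : F) ^ (2 ^ (m + 1) + 1)) = (ω k : F) := fun k => by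
    show ((k : F) ^ _) ^ _ = _
    rw [pow_theta_half Q, hω, powMonoidHom_apply, Units.val_pow_eq_pow_val]
  have hf : ∀ b, f b = τ (g b ^ 2) • f 1 := fun b => by
    by_cases hb : b = 0
    · have : n b y = 0 := by rw [hn, hb, uu_zero, map_one, Module.End.one_apply, sub_self]
      show P ω (n b y) = _
      rw [this, map_zero, hb]
      simp [g, hτ0, zero_pow (pow_ne_zero _ (two_ne_zero : (2 : ℕ) ≠ 0))]
    · obtain ⟨k, hk⟩ := theta_succ_surjective Q (Units.mk0 b hb)
      have hk' : (k : F) ^ (2 ^ (m + 1) + 1) = b := by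
        simpa using congrArg Units.val hk
      have h := hPeig ω (n 1 y) k
      rw [← hPcomm, hhn, mul_one, hk', map_smul, MonoidHom.inv_apply] at h
      have h' := congrArg (fun z => τ (ω k : F) • z) h
      simp only [smul_smul, τinv, one_smul, ← map_mul] at h'
      show P ω (n b y) = _
      rw [h', ← hk', hgε, sq]
  have hc2 : (2 : R) • f 1 = 0 := by
    have h0 := congrArg (fun z => P ω (n 1 z)) (torus_sum Q hNR (n 1 y))
    simp only [map_zero, map_sum] at h0
    rw [Finset.sum_congr rfl fun k _ => show P ω (n 1 (ρR (hI Q k) (n 1 y))) = (2 : R) • f 1 by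
      rw [hhn, map_smul, hnn, map_smul, map_sub, map_sub]
      show τ _ • (f _ - f _ - f _) = _
      rw [hf (1 + _), hf ((k : F) ^ (2 ^ (m + 1) + 1) * 1), mul_one, hgε,
        show g (1 + (k : F) ^ (2 ^ (m + 1) + 1)) = 1 + (ω k : F) by
          rw [← hgε]
          haveI : Fact (Nat.Prime 2) := ⟨Nat.prime_two⟩
          show (1 + _) ^ _ = _
          rw [add_pow_char_pow, one_pow],
        hsq, one_pow, map_one, one_mul, add_smul, add_smul, one_smul, (fun a b c => by abel : ∀ a b c : R ⊗[ZMod 4] A, a + b + c - a - b = c),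
        smul_smul, MonoidHom.inv_apply, mul_left_comm, mul_comm (τ _) (τ (ω k : F)), τinv, mul_one],
      Finset.sum_const, Finset.card_univ, ← Nat.cast_smul_eq_nsmul R, card_units_cast Q h4, neg_smul,
      one_smul, neg_eq_zero] at h0
    exact h0
  set d : Fin 4 → F := nat Q i (uu Q 0 1) (e4 3) - e4 3 with hd
  have hfin : (2 : R) • f 1 = ι (∑ k : Fˣ, ((ω k)⁻¹ : Fˣ).1 • nat Q i (hI Q k) d) := by
    rw [← map_smul, ← map_smul, hy2, hn, ι_act, ← map_sub, hPa, map_sum]
    exact Finset.sum_congr rfl fun k _ => by rw [ι_act, ι_smul]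
  rw [hc2, ← map_zero ι] at hfin
  have h00 := congrFun (ι_inj hfin).symm 0
  rw [Finset.sum_apply, Finset.sum_congr rfl fun k _ => show
    (((ω k)⁻¹ : Fˣ).1 • nat Q i (hI Q k) d) 0 = 1 by
      rw [Pi.smul_apply, nat_apply]
      show _ * ((H m k).1.map (tw (i : ℕ))).mulVec d 0 = _
      simp only [H, Matrix.diagonal_map (map_zero (tw (i : ℕ))), Matrix.mulVec_diagonal, Function.comp_apply]
      rw [show d 0 = 1 by
        rw [hd, Pi.sub_apply, nat_e4]
        show tw (i : ℕ) (Tmat m (0 : F) 1 0 3) - _ = _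
        simp [Tmat, fn, e4, hz], mul_one]
      show _ * tw (i : ℕ) (((k ^ (hh m + 1) : Fˣ) : F)) = 1
      rw [tw_apply, ← Units.val_pow_eq_pow_val, ← pow_mul, ← Units.val_mul, hω, powMonoidHom_apply, hh,
        inv_mul_cancel, Units.val_one],
    Finset.sum_const, Finset.card_univ, nsmul_one, Pi.zero_apply] at h00
  rw [Fintype.card_units, Nat.cast_sub Fintype.card_pos, FiniteField.cast_card_eq_zero, zero_sub, Nat.cast_one,
    neg_eq_zero] at h00
  exact one_ne_zero h00

end Cfsg.Lib.CNStructure
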