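import Cfsg.Agent.OddLocal.CNTheorem
import Cfsg.Agent.OddLocal.CNFpf
import Cfsg.Agent.OddLocal.CNThreeStep
import Cfsg.Agent.CITGroups.Basic
import Cfsg.Agent.Components.Cores
import Cfsg.Agent.S1473

/-!
Nonsolvable groups with nilpotent centralisers: the normal subgroups and the outer elements.
-/

set_option autoImplicit false
set_option linter.unusedSectionVars false
set_option linter.style.haveILetI false

namespace Cfsg.Lib.CNStructure

open Subgroup
open Cfsg.Lib.CITGroups (Two two_of_mem eq_one_of_two_odd)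
open Cfsg.Lib.CN (commute_of_mem nilpotent_of_le isCN_subgroup)

variable {G : Type*} [Group G] [Finite G]

theorem coprime_two_odd {a b : G} (ha : Two a) (hb : Odd (orderOf b)) : (orderOf a).Coprime (orderOf b) := by
  obtain ⟨k, hk⟩ := ha
  rw [hk]
  exact Nat.Coprime.pow_left _ (Nat.coprime_two_left.2 hb)

/-- The part of two-power order. -/
theorem exists_two_pow (g : G) : ∃ b : ℕ, Odd b ∧ Two (g ^ b) := by
  obtain ⟨a, b, hb, hs⟩ := Nat.exists_eq_two_pow_mul_odd (orderOf_pos g).ne'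
  have h1 : orderOf (g ^ b) ∣ 2 ^ a := orderOf_dvd_of_pow_eq_one (by
    rw [← pow_mul, mul_comm, ← hs, pow_orderOf_eq_one])
  obtain ⟨k, -, hk⟩ := (Nat.dvd_prime_pow Nat.prime_two).1 h1
  exact ⟨b, hb, k, hk⟩

/-- An inverting element of two-power order. -/
theorem exists_two_inverter {M : Subgroup G} {a s : G} (hs : s ∈ M) (hinv : s * a * s⁻¹ = a⁻¹) :
    ∃ t ∈ M, Two t ∧ t * a * t⁻¹ = a⁻¹ := by
  obtain ⟨b, ⟨j, rfl⟩, hb⟩ := exists_two_pow s
  refine ⟨_, pow_mem hs _, hb, ?_⟩
  have h2 : ∀ j : ℕ, s ^ (2 * j) * a * (s ^ (2 * j))⁻¹ = a := fun j => by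
    induction j with
    | zero => simp
    | succ j ih =>
      rw [show 2 * (j + 1) = 2 * j + 1 + 1 by ring, pow_succ, pow_succ]
      calc s ^ (2 * j) * s * s * a * (s ^ (2 * j) * s * s)⁻¹
          = s ^ (2 * j) * (s * (s * a * s⁻¹) * s⁻¹) * (s ^ (2 * j))⁻¹ := by group
        _ = _ := by rw [hinv, show s * a⁻¹ * s⁻¹ = (s * a * s⁻¹)⁻¹ by group, hinv, inv_inv, ih]
  calc s ^ (2 * j + 1) * a * (s ^ (2 * j + 1))⁻¹ = s * (s ^ (2 * j) * a * (s ^ (2 * j))⁻¹) * s⁻¹ := by
        rw [pow_succ']; group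
    _ = _ := by rw [h2, hinv]

theorem solvable_of_quotient (C : Subgroup G) [C.Normal] (hC : Group.IsSolvable C)
    (hq : Group.IsSolvable (G ⧸ C)) : Group.IsSolvable G := by
  haveI := hC
  haveI := hq
  exact Group.isSolvable_of_ker_le_range C.subtype (QuotientGroup.mk' C) (by rw [QuotientGroup.ker_mk', range_subtype])

theorem even_card (hCN : Cfsg.IsCNGroup G) (hns : ¬ Group.IsSolvable G) : 2 ∣ Nat.card G := by
  by_contra h
  exact hns (Cfsg.Lib.CN.solvable_of_odd _ rfl (Nat.odd_iff.2 (Nat.two_dvd_ne_zero.1 h)) hCN)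

/-- **No normal subgroup of odd prime power order.** -/
theorem odd_normal_trivial (hCN : Cfsg.IsCNGroup G) (hns : ¬ Group.IsSolvable G) {p : ℕ} (hp : p.Prime)
    (hp2 : p ≠ 2) (N : Subgroup G) [N.Normal] (hN : IsPGroup p N) : N = ⊥ := by
  haveI := Fact.mk hp
  haveI : Fact (Nat.Prime 2) := ⟨Nat.prime_two⟩
  by_contra hne
  haveI : Nontrivial N := (nontrivial_iff_ne_bot N).2 hne
  set V := (center N).map N.subtype with hV
  haveI : V.Normal := ConjAct.normal_of_characteristic_of_normal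
  have hVne : V ≠ ⊥ := fun e => by
    haveI := hN.center_nontrivial
    exact (nontrivial_iff_ne_bot _).1 ‹Nontrivial (center N)›
      ((map_eq_bot_iff_of_injective _ N.subtype_injective).1 e)
  have hVcomm : ∀ x ∈ V, ∀ y ∈ V, x * y = y * x := by
    rintro _ ⟨x, hx, rfl⟩ _ ⟨y, -, rfl⟩
    exact (congrArg N.subtype (mem_center_iff.1 hx y)).symm
  have hVodd : ∀ x ∈ V, Odd (orderOf x) := fun x hx => by
    obtain ⟨k, hk⟩ := IsPGroup.iff_orderOf.1 hN ⟨x, map_subtype_le _ hx⟩
    rw [orderOf_mk] at hk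
    exact hk ▸ (hp.odd_of_ne_two hp2).pow
  set C := centralizer (V : Set G)
  haveI : C.Normal := inferInstance
  obtain ⟨w, hw, hw1⟩ : ∃ w ∈ V, w ≠ 1 := (bot_or_exists_ne_one V).resolve_left hVne
  have hCs : Group.IsSolvable C := by
    haveI := nilpotent_of_le (centralizer_le (Set.singleton_subset_iff.2 hw)) (hCN w hw1)
    infer_instance
  have hqCN := Cfsg.Agent.S1473.result hCN C hCs
  have hqns : ¬ Group.IsSolvable (G ⧸ C) := fun h => hns (solvable_of_quotient C hCs h)
  have key : ∀ u : G ⧸ C, orderOf u = 2 → ∃ t : G, QuotientGroup.mk t = u ∧ ∀ v ∈ V, t * v * t⁻¹ = v⁻¹ := by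
    intro u hu
    obtain ⟨g, rfl⟩ := QuotientGroup.mk_surjective u
    obtain ⟨b, hb, hb2⟩ := exists_two_pow g
    have hgb : (QuotientGroup.mk (g ^ b) : G ⧸ C) = QuotientGroup.mk g := by
      rw [QuotientGroup.mk_pow]
      conv_rhs => rw [← pow_one (QuotientGroup.mk g : G ⧸ C)]
      exact pow_eq_pow_iff_modEq.2 (hu ▸ (Nat.odd_iff.1 hb : b % 2 = 1 % 2))
    refine ⟨g ^ b, hgb, fun v hv => ?_⟩
    set t := g ^ b
    have htC : t ∉ C := fun h => by
      rw [← hgb, (QuotientGroup.eq_one_iff t).2 h, orderOf_one] at hu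
      omega
    have htt : t * t ∈ C := by
      rw [← QuotientGroup.eq_one_iff, QuotientGroup.mk_mul, hgb, ← sq, ← hu, pow_orderOf_eq_one]
    have hfix : ∀ x ∈ V, t * x * t⁻¹ = x → x = 1 := fun x hx hf => by
      by_contra hx1
      refine htC (mem_centralizer_iff.2 fun y hy => ?_)
      exact (commute_of_mem (hCN x hx1) (mem_centralizer_singleton_iff.2 (mul_inv_eq_iff_eq_mul.1 hf))
        (mem_centralizer_singleton_iff.2 (hVcomm y hy x hx)) (coprime_two_odd hb2 (hVodd y hy))).eq.symm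
    have hv' : t * v * t⁻¹ ∈ V := Subgroup.Normal.conj_mem inferInstance v hv t
    refine eq_inv_of_mul_eq_one_right (hfix _ (mul_mem hv hv') ?_)
    calc t * (v * (t * v * t⁻¹)) * t⁻¹ = (t * v * t⁻¹) * ((t * t) * v * (t * t)⁻¹) := by group
      _ = _ := by rw [← mem_centralizer_iff.1 htt v hv, mul_inv_cancel_right, hVcomm _ hv' v hv]
  obtain ⟨u, hu⟩ := exists_prime_orderOf_dvd_card' (G := G ⧸ C) 2 (even_card hqCN hqns)
  have huniq : ∀ v : G ⧸ C, orderOf v = 2 → v = u := fun v hv => by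
    obtain ⟨t, rfl, ht⟩ := key v hv
    obtain ⟨s, rfl, hs⟩ := key u hu
    refine QuotientGroup.eq.2 (mem_centralizer_iff.2 fun x hx => ?_)
    have e : t * x * t⁻¹ = s * x * s⁻¹ := (ht x hx).trans (hs x hx).symm
    calc x * (t⁻¹ * s) = t⁻¹ * (t * x * t⁻¹) * s := by group
      _ = t⁻¹ * (s * x * s⁻¹) * s := by rw [e]
      _ = _ := by group
  have hc : centralizer ({u} : Set (G ⧸ C)) = ⊤ := eq_top_iff.2 fun g _ =>
    mem_centralizer_singleton_iff.2 (mul_inv_eq_iff_eq_mul.1
      (huniq (g * u * g⁻¹) (by rw [← MulAut.conj_apply, MulEquiv.orderOf_eq, hu])))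
  have hn := hqCN u (fun e => by rw [e, orderOf_one] at hu; omega)
  rw [hc] at hn
  haveI := Group.isNilpotent_top.1 hn
  exact hqns inferInstance

theorem pCore_facts (G : Type*) [Group G] [Finite G] :
    (Cfsg.pCore 2 G).Normal ∧ IsPGroup 2 ↥(Cfsg.pCore 2 G) :=
  Cfsg.Lib.Components.pCore_normal_and_isPGroup (G := G) 2

/-- Elements of odd order act without fixed points on the largest normal two-subgroup. -/
theorem fpf_pCore (hCN : Cfsg.IsCNGroup G) (hns : ¬ Group.IsSolvable G) {g : G} (hg : Odd (orderOf g)) (hg1 : g ≠ 1)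
    {x : G} (hx : x ∈ Cfsg.pCore 2 G) (hgx : g * x = x * g) : x = 1 := by
  haveI : Fact (Nat.Prime 2) := ⟨Nat.prime_two⟩
  obtain ⟨hQn, hQ⟩ := pCore_facts G
  set Q := Cfsg.pCore 2 G
  haveI := hQn
  by_contra hx1
  haveI : Nontrivial Q := ⟨⟨⟨x, hx⟩, 1, fun e => hx1 (congrArg Subtype.val e)⟩⟩
  set Z := (center Q).map Q.subtype
  haveI : Z.Normal := ConjAct.normal_of_characteristic_of_normal
  have hZQ : Z ≤ Q := map_subtype_le _
  have hZc : ∀ z ∈ Z, ∀ y ∈ Q, z * y = y * z := by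
    rintro _ ⟨z, hz, rfl⟩ y hy
    exact (congrArg Q.subtype (mem_center_iff.1 hz ⟨y, hy⟩)).symm
  set C := centralizer (Z : Set G)
  have hgC : g ∈ C := mem_centralizer_iff.2 fun z hz => (commute_of_mem (hCN x hx1)
    (mem_centralizer_singleton_iff.2 (hZc z hz x hx)) (mem_centralizer_singleton_iff.2 hgx)
    (coprime_two_odd (two_of_mem hQ (hZQ hz)) hg)).eq
  obtain ⟨z, hz, hz1⟩ : ∃ z ∈ Z, z ≠ 1 := by
    refine (bot_or_exists_ne_one Z).resolve_left fun e => ?_
    haveI := hQ.center_nontrivial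
    exact (nontrivial_iff_ne_bot _).1 ‹Nontrivial (center Q)›
      ((map_eq_bot_iff_of_injective _ Q.subtype_injective).1 e)
  have hCn : Group.IsNilpotent C := nilpotent_of_le (centralizer_le (Set.singleton_subset_iff.2 hz)) (hCN z hz1)
  haveI := hCn
  haveI : C.Normal := inferInstance
  have h2 : IsPGroup 2 C := by
    refine IsPGroup.of_card (n := (Nat.card C).primeFactorsList.length)
      (Nat.eq_prime_pow_of_unique_prime_dvd Nat.card_pos.ne' fun {p} hp hd => ?_)
    by_contra hp2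
    haveI := Fact.mk hp
    obtain ⟨P⟩ : Nonempty (Sylow p C) := inferInstance
    haveI : (P : Subgroup C).Normal := Cfsg.Lib.CN.sylow_normal_of_nilpotent P
    haveI : (P : Subgroup C).Characteristic := P.characteristic_of_normal inferInstance
    haveI : ((P : Subgroup C).map C.subtype).Normal := ConjAct.normal_of_characteristic_of_normal
    have h := odd_normal_trivial hCN hns hp hp2 ((P : Subgroup C).map C.subtype) (P.2.map _)
    exact P.ne_bot_of_dvd_card hd ((map_eq_bot_iff_of_injective _ C.subtype_injective).1 h)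
  exact hg1 (eq_one_of_two_odd (two_of_mem h2 hgC) hg)

/-- The quotient by the largest normal two-subgroup. -/
theorem quotient_pCore (hCN : Cfsg.IsCNGroup G) (hns : ¬ Group.IsSolvable G) [(Cfsg.pCore 2 G).Normal] :
    Cfsg.IsCNGroup (G ⧸ Cfsg.pCore 2 G) ∧ ¬ Group.IsSolvable (G ⧸ Cfsg.pCore 2 G) ∧
      ∀ N : Subgroup (G ⧸ Cfsg.pCore 2 G), N.Normal → Group.IsSolvable N → N = ⊥ := by
  haveI : Fact (Nat.Prime 2) := ⟨Nat.prime_two⟩
  obtain ⟨-, hQ⟩ := pCore_facts G
  have hQs : Group.IsSolvable (Cfsg.pCore 2 G) := by haveI := hQ.isNilpotent; infer_instance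
  have hq := Cfsg.Agent.S1473.result hCN _ hQs
  have hqns : ¬ Group.IsSolvable (G ⧸ Cfsg.pCore 2 G) := fun h => hns (solvable_of_quotient _ hQs h)
  refine ⟨hq, hqns, fun N hN hs => ?_⟩
  haveI := hN
  haveI := hs
  by_contra hne
  obtain ⟨L, hLN, hLn, hLne, hmin⟩ := Coprime.exists_minimal_normal (K := N) hN hne
  haveI := hLn
  haveI : Group.IsSolvable L := Group.isSolvable_of_isSolvable_injective (inclusion_injective hLN)
  obtain ⟨-, p, hp, hLp, -⟩ := Coprime.minimal_normal_solvable (N := L) inferInstance hLne hmin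
  by_cases hp2 : p = 2
  · subst hp2
    set π := QuotientGroup.mk' (Cfsg.pCore 2 G)
    have hpre : IsPGroup 2 ↥(L.comap π) := hLp.comap_of_ker_isPGroup π (by rwa [QuotientGroup.ker_mk'])
    haveI : (L.comap π).Normal := hLn.comap π
    refine hLne ((eq_bot_iff_forall L).2 fun y hy => ?_)
    obtain ⟨g, rfl⟩ := QuotientGroup.mk'_surjective (Cfsg.pCore 2 G) y
    exact (QuotientGroup.eq_one_iff g).2 (Cfsg.Lib.Components.le_pCore hpre hy)
  · exact hLne (odd_normal_trivial hq hqns hp hp2 L hLp)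

/-- The socle is simple. -/
theorem exists_socle (hCN : Cfsg.IsCNGroup G) (hns : ¬ Group.IsSolvable G)
    (hsol : ∀ N : Subgroup G, N.Normal → Group.IsSolvable N → N = ⊥) :
    ∃ M : Subgroup G, M.Normal ∧ IsSimpleGroup M ∧ ¬ IsMulCommutative M := by
  haveI : Nontrivial G := not_subsingleton_iff_nontrivial.1 fun hs => hns inferInstance
  obtain ⟨N, -, hNn, hNne, hNmin⟩ := Coprime.exists_minimal_normal (G := G) (K := ⊤) inferInstance
    (top_ne_bot (α := Subgroup G))
  haveI := hNn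
  have hNns : ¬ Group.IsSolvable N := fun hs => hNne (hsol N hNn hs)
  haveI : Nontrivial N := (nontrivial_iff_ne_bot N).2 hNne
  obtain ⟨M, -, hMn, hMne, hMmin⟩ := Coprime.exists_minimal_normal (G := N) (K := ⊤) inferInstance
    (top_ne_bot (α := Subgroup N))
  haveI := hMn
  -- conjugates of a minimal normal subgroup
  have hall : ∀ g : G, M.map (MulAut.conjNormal g : MulAut N).toMonoidHom = M ∨ Group.IsNilpotent M := by
    intro g
    set M' := M.map (MulAut.conjNormal g : MulAut N).toMonoidHom with hM'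
    haveI : M'.Normal := hMn.map _ (MulEquiv.surjective _)
    rcases hMmin (M ⊓ M') inferInstance inf_le_left with e | e
    · refine Or.inr ?_
      obtain ⟨y, hy, hy1⟩ : ∃ y ∈ M', y ≠ 1 := (bot_or_exists_ne_one M').resolve_left fun e' => hMne
        ((map_eq_bot_iff_of_injective _ (MulEquiv.injective _)).1 e')
      refine nilpotent_of_le (fun x hx => mem_centralizer_singleton_iff.2 ?_) (isCN_subgroup hCN N y hy1)
      exact (Subgroup.commute_of_normal_of_disjoint M M' inferInstance inferInstance (disjoint_iff.2 e) x y hx hy).eq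
    · exact Or.inl (eq_of_le_of_card_ge (inf_eq_left.1 e)
        (card_map_of_injective (K := M) (MulEquiv.injective _)).le).symm
  have hMs : ¬ Group.IsSolvable M := fun hs => by
    obtain ⟨hc, p, hp, hMp, -⟩ := Coprime.minimal_normal_solvable (N := M) hs hMne hMmin
    haveI := Fact.mk hp
    have h1 : M ≤ Cfsg.pCore p N := Cfsg.Lib.Components.le_pCore hMp
    haveI : (Cfsg.pCore p N).Characteristic := Cfsg.Lib.Components.pCore_characteristic
    haveI : ((Cfsg.pCore p N).map N.subtype).Normal := ConjAct.normal_of_characteristic_of_normal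
    haveI := ((Cfsg.Lib.Components.pCore_normal_and_isPGroup (G := N) p).2.map N.subtype).isNilpotent
    have h2 := hsol _ inferInstance (inferInstance : Group.IsSolvable ↥((Cfsg.pCore p N).map N.subtype))
    rw [map_eq_bot_iff_of_injective _ N.subtype_injective] at h2
    exact hMne (le_bot_iff.1 (h2 ▸ h1))
  have hconj : ∀ g : G, M.map (MulAut.conjNormal g : MulAut N).toMonoidHom = M := fun g =>
    (hall g).resolve_right fun h => hMs (by haveI := h; infer_instance)
  have hMtop : M = ⊤ := by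
    have hn : (M.map N.subtype).Normal := ⟨fun v hv g => by
      obtain ⟨x, hx, rfl⟩ := hv
      exact ⟨MulAut.conjNormal g x, (hconj g).le (mem_map_of_mem _ hx), MulAut.conjNormal_apply g x⟩⟩
    rcases hNmin _ hn (map_subtype_le M) with e | e
    · exact absurd ((map_eq_bot_iff_of_injective _ N.subtype_injective).1 e) hMne
    · exact map_injective N.subtype_injective (e.trans (by rw [← MonoidHom.range_eq_map, range_subtype]))
  refine ⟨N, hNn, ⟨fun K hK => ?_⟩, fun hc => hNns (by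
    haveI := hc; exact Group.isSolvable_of_comm fun a b => hc.is_comm.comm a b)⟩
  haveI := hK
  rcases hMmin (M ⊓ K) inferInstance inf_le_left with e | e
  · exact Or.inl (by rwa [hMtop, top_inf_eq] at e)
  · exact Or.inr (by rwa [hMtop, top_inf_eq] at e)

/-- **Key lemma.** The centraliser of an inverted element of odd order of a normal subgroup stays inside. -/
theorem centralizer_le_of_inverted (hCN : Cfsg.IsCNGroup G) (M : Subgroup G) [hM : M.Normal] {a : G}
    (ha : Odd (orderOf a)) (ha1 : a ≠ 1) {s₀ : G} (hs₀ : s₀ ∈ M) (hinv₀ : s₀ * a * s₀⁻¹ = a⁻¹) :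
    centralizer ({a} : Set G) ≤ M := by
  classical
  haveI : Fact (Nat.Prime 2) := ⟨Nat.prime_two⟩
  obtain ⟨s, hs, hs2, hinv⟩ := exists_two_inverter hs₀ hinv₀
  set C := centralizer ({a} : Set G) with hC
  have hCn : Group.IsNilpotent C := hCN a ha1
  have hsC : ∀ c ∈ C, s * c * s⁻¹ ∈ C := fun c hc => by
    have h : Commute c a := mem_centralizer_singleton_iff.1 hc
    have h' : s * c * s⁻¹ * a⁻¹ = a⁻¹ * (s * c * s⁻¹) := by
      rw [← hinv, show s * c * s⁻¹ * (s * a * s⁻¹) = s * (c * a) * s⁻¹ by group, h.eq]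
      group
    exact mem_centralizer_singleton_iff.2 (Commute.inv_right_iff.1 h').eq
  have hbad : ∀ x : G, x ≠ 1 → Commute x a → Commute x s → False := fun x hx hxa hxs => by
    have h := (commute_of_mem (hCN x hx) (mem_centralizer_singleton_iff.2 hxs.symm.eq)
      (mem_centralizer_singleton_iff.2 hxa.symm.eq) (coprime_two_odd hs2 ha)).eq
    rw [h, mul_inv_cancel_right] at hinv
    refine ha1 (eq_one_of_two_odd ?_ ha)
    have h2 : a ^ 2 ^ 1 = 1 := by rw [pow_one, sq]; nth_rewrite 1 [hinv]; exact inv_mul_cancel a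
    obtain ⟨k, -, hk⟩ := (Nat.dvd_prime_pow Nat.prime_two).1 (orderOf_dvd_of_pow_eq_one h2)
    exact ⟨k, hk⟩
  -- odd order
  have hodd : Odd (Nat.card C) := by
    rw [Nat.odd_iff, ← Nat.two_dvd_ne_zero]
    intro hd
    obtain ⟨P⟩ : Nonempty (Sylow 2 C) := inferInstance
    haveI : Group.IsNilpotent C := hCn
    haveI : (P : Subgroup C).Normal := Cfsg.Lib.CN.sylow_normal_of_nilpotent P
    set O := (P : Subgroup C).map C.subtype with hO
    have hOC : O ≤ C := map_subtype_le _
    have hO2 : IsPGroup 2 O := P.2.map _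
    have hsO : ∀ u : G, (∀ c ∈ C, u * c * u⁻¹ ∈ C) → ∀ y ∈ O, u * y * u⁻¹ ∈ O := by
      rintro u hu _ ⟨y, hy, rfl⟩
      let y' : C := ⟨u * y * u⁻¹, hu _ y.2⟩
      have h2 : IsPGroup 2 (zpowers y') := by
        obtain ⟨k, hk⟩ := IsPGroup.iff_orderOf.1 P.2 ⟨y, hy⟩
        rw [orderOf_mk] at hk
        refine IsPGroup.of_card (n := k) ?_
        rw [Nat.card_zpowers, ← hk, ← orderOf_coe, ← orderOf_coe y]
        exact MulEquiv.orderOf_eq (MulAut.conj u) (y : G)
      obtain ⟨R, hR⟩ := h2.exists_le_sylow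
      haveI := Sylow.unique_of_normal P inferInstance
      exact ⟨y', Subsingleton.elim R P ▸ hR (mem_zpowers y'), rfl⟩
    have hnorm : zpowers s ≤ normalizer (O : Set G) := by
      rw [zpowers_le, mem_normalizer_iff]
      refine fun y => ⟨hsO s hsC y, fun hy => ?_⟩
      let f : O → O := fun z => ⟨s * z * s⁻¹, hsO s hsC z z.2⟩
      have hf : Function.Injective f := fun z w h =>
        Subtype.ext (mul_left_cancel (mul_right_cancel (congrArg Subtype.val h)))
      obtain ⟨z, hz⟩ := (Finite.injective_iff_surjective.1 hf) ⟨_, hy⟩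
      have : (z : G) = y := mul_left_cancel (mul_right_cancel (congrArg Subtype.val hz))
      exact this ▸ z.2
    have hzp : IsPGroup 2 (zpowers s) := by
      obtain ⟨k, hk⟩ := hs2
      exact IsPGroup.of_card (n := k) (by rw [Nat.card_zpowers, hk])
    have hne : O ≠ ⊥ := fun e => P.ne_bot_of_dvd_card hd
      ((map_eq_bot_iff_of_injective _ C.subtype_injective).1 e)
    obtain ⟨z, hz, hz1, hzc⟩ := Cfsg.Lib.CN.exists_central_in (N := O) (R := zpowers s ⊔ O) le_sup_right hne
      (hzp.to_sup_of_normal_right' hO2 hnorm) (sup_le hnorm le_normalizer)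
    exact hbad z hz1 (mem_centralizer_singleton_iff.1 (hOC hz))
      (show Commute s z from hzc s (mem_sup_left (mem_zpowers s))).symm
  -- cosets
  intro c hc
  let X : Type _ := {x : G // x ∈ C ∧ c⁻¹ * x ∈ M}
  have hmap : ∀ k ∈ zpowers s, ∀ x : X, k * x.1 * k⁻¹ ∈ C ∧ c⁻¹ * (k * x.1 * k⁻¹) ∈ M := by
    intro k hk x
    refine ⟨?_, ?_⟩
    · obtain ⟨n, rfl⟩ := mem_powers_iff_mem_zpowers.2 hk
      induction n with
      | zero => simpa using x.2.1
      | succ n ih =>
        show s ^ (n + 1) * x.1 * (s ^ (n + 1))⁻¹ ∈ C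
        rw [pow_succ', show s * s ^ n * x.1 * (s * s ^ n)⁻¹ = s * (s ^ n * x.1 * (s ^ n)⁻¹) * s⁻¹ by group]
        exact hsC _ (ih (pow_mem (mem_zpowers s) n))
    · rw [show c⁻¹ * (k * x.1 * k⁻¹) = (c⁻¹ * x.1) * ((x.1⁻¹ * k * x.1) * k⁻¹) by group]
      have hkM : k ∈ M := zpowers_le.2 hs hk
      refine mul_mem x.2.2 (mul_mem ?_ (inv_mem hkM))
      simpa using hM.conj_mem k hkM x.1⁻¹
  letI : MulAction (zpowers s) X :=
    { smul := fun k x => ⟨k * x.1 * (k : G)⁻¹, hmap k k.2 x⟩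
      one_smul := fun x => Subtype.ext (by show ((1 : zpowers s) : G) * _ * _ = _; simp)
      mul_smul := fun k l x => Subtype.ext (by
        show ((k * l : zpowers s) : G) * _ * _ = (k : G) * ((l : G) * _ * _) * _
        rw [coe_mul]; group) }
  have hXodd : Odd (Nat.card X) := by
    have e : X ≃ ↥(C ⊓ M) :=
      { toFun := fun x => ⟨c⁻¹ * x.1, mem_inf.2 ⟨C.mul_mem (C.inv_mem hc) x.2.1, x.2.2⟩⟩
        invFun := fun y => ⟨c * y.1, C.mul_mem hc (mem_inf.1 y.2).1, by rw [inv_mul_cancel_left]; exact (mem_inf.1 y.2).2⟩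
        left_inv := fun x => Subtype.ext (mul_inv_cancel_left _ _)
        right_inv := fun y => Subtype.ext (inv_mul_cancel_left _ _) }
    rw [Nat.card_congr e]
    exact hodd.of_dvd_nat (card_dvd_of_le inf_le_left)
  have hzp : IsPGroup 2 (zpowers s) := by
    obtain ⟨k, hk⟩ := hs2
    exact IsPGroup.of_card (n := k) (by rw [Nat.card_zpowers, hk])
  have hfix := hzp.card_modEq_card_fixedPoints X
  obtain ⟨⟨x, hx⟩⟩ : Nonempty (MulAction.fixedPoints (zpowers s) X) := by
    refine (Nat.card_pos_iff.1 (Nat.pos_of_ne_zero fun e => ?_)).1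
    rw [e, Nat.ModEq, Nat.odd_iff.1 hXodd, Nat.zero_mod] at hfix
    exact one_ne_zero hfix
  have hxs : s * x.1 * s⁻¹ = x.1 := congrArg Subtype.val (hx ⟨s, mem_zpowers s⟩)
  by_cases hx1 : x.1 = 1
  · have h := x.2.2
    rw [hx1, mul_one] at h
    exact M.inv_mem_iff.1 h
  · exact (hbad x.1 hx1 (mem_centralizer_singleton_iff.1 x.2.1)
      (show Commute x.1 s from (mul_inv_eq_iff_eq_mul.1 hxs).symm)).elim

/-- One class of elements of a given odd order: no outer elements. -/
theorem eq_top_of_one_class (hCN : Cfsg.IsCNGroup G) (M : Subgroup G) [hM : M.Normal] {r : ℕ} (hr : Odd r)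
    (hr1 : r ≠ 1) {a : G} (haM : a ∈ M) (ha : orderOf a = r)
    (hone : ∀ x y : M, orderOf x = r → orderOf y = r → IsConj x y) : M = ⊤ := by
  have hconj : ∀ x y : G, x ∈ M → y ∈ M → orderOf x = r → orderOf y = r → ∃ m ∈ M, m * x * m⁻¹ = y := by
    intro x y hx hy ox oy
    obtain ⟨c, hc⟩ := isConj_iff.1 (hone ⟨x, hx⟩ ⟨y, hy⟩ (by rwa [orderOf_mk]) (by rwa [orderOf_mk]))
    exact ⟨c, c.2, congrArg Subtype.val hc⟩
  obtain ⟨s, hs, hinv⟩ := hconj a a⁻¹ haM (inv_mem haM) ha (by rw [orderOf_inv, ha])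
  have hle := centralizer_le_of_inverted hCN M (ha ▸ hr) (fun e => hr1 (by rw [← ha, e, orderOf_one])) hs hinv
  refine eq_top_iff.2 fun g _ => ?_
  obtain ⟨m, hm, e⟩ := hconj a (g * a * g⁻¹) haM (hM.conj_mem a haM g) ha
    (by rw [← MulAut.conj_apply, MulEquiv.orderOf_eq, ha])
  have hmg : m⁻¹ * g ∈ M := hle (mem_centralizer_singleton_iff.2 (by
    calc m⁻¹ * g * a = m⁻¹ * (g * a * g⁻¹) * g := by group
      _ = m⁻¹ * (m * a * m⁻¹) * g := by rw [e]
      _ = _ := by group))
  simpa using mul_mem hm hmg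

/-- Two classes of elements of a given odd order: index at most two. -/
theorem index_le_two_of_two_classes (hCN : Cfsg.IsCNGroup G) (M : Subgroup G) [hM : M.Normal] {r : ℕ} (hr : Odd r)
    (hr1 : r ≠ 1) {a : G} (haM : a ∈ M) (ha : orderOf a = r)
    (hreal : ∀ x : M, orderOf x = r → IsConj x x⁻¹)
    (htwo : ∀ x y z : M, orderOf x = r → orderOf y = r → orderOf z = r → IsConj x y ∨ IsConj x z ∨ IsConj y z) :
    M.index = 1 ∨ M.index = 2 := by
  obtain ⟨s, hs⟩ := isConj_iff.1 (hreal ⟨a, haM⟩ (by rwa [orderOf_mk]))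
  have hle := centralizer_le_of_inverted (a := a) hCN M (ha ▸ hr) (fun e => hr1 (by rw [← ha, e, orderOf_one]))
    s.2 (congrArg Subtype.val hs)
  have key : ∀ g h : G, g ∉ M → h ∉ M → g⁻¹ * h ∈ M := by
    intro g h hg hh
    have hmem : ∀ u : G, ∀ x : M, (x : G) = u * a * u⁻¹ → orderOf x = r := fun u x hx => by
      rw [← orderOf_coe, hx, ← MulAut.conj_apply, MulEquiv.orderOf_eq, ha]
    let x : M := ⟨a, haM⟩
    let y : M := ⟨g * a * g⁻¹, hM.conj_mem a haM g⟩
    let z : M := ⟨h * a * h⁻¹, hM.conj_mem a haM h⟩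
    have hsame : ∀ u v : G, ∀ c : M, (c : G) * (u * a * u⁻¹) * (c : G)⁻¹ = v * a * v⁻¹ → u⁻¹ * v ∈ M := by
      intro u v c e
      have h1 : v⁻¹ * (c : G) * u ∈ M := hle (mem_centralizer_singleton_iff.2 (by
        calc v⁻¹ * (c : G) * u * a = v⁻¹ * ((c : G) * (u * a * u⁻¹) * (c : G)⁻¹) * ((c : G) * u) := by group
          _ = _ := by rw [e]; group))
      have h2 : u⁻¹ * (c : G) * u ∈ M := by simpa using hM.conj_mem c c.2 u⁻¹
      have h3 := mul_mem h2 (inv_mem h1)
      rwa [show u⁻¹ * (c : G) * u * (v⁻¹ * (c : G) * u)⁻¹ = u⁻¹ * v by group] at h3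
    rcases htwo x y z (hmem 1 x (by simp [x])) (hmem g y rfl) (hmem h z rfl) with e | e | e
    · obtain ⟨c, hc⟩ := isConj_iff.1 e
      have h' := hsame 1 g c (by simpa [x, y] using congrArg Subtype.val hc)
      exact absurd (by simpa using h') hg
    · obtain ⟨c, hc⟩ := isConj_iff.1 e
      have h' := hsame 1 h c (by simpa [x, z] using congrArg Subtype.val hc)
      exact absurd (by simpa using h') hh
    · obtain ⟨c, hc⟩ := isConj_iff.1 e
      exact hsame g h c (congrArg Subtype.val hc)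
  by_cases htop : ∀ g : G, g ∈ M
  · exact Or.inl (index_eq_one.2 (eq_top_iff.2 fun g _ => htop g))
  push Not at htop
  obtain ⟨g, hg⟩ := htop
  right
  refine index_eq_two_iff.2 ⟨g⁻¹, fun b => ?_⟩
  by_cases hb : b ∈ M
  · refine Or.inr ⟨hb, fun h => hg ?_⟩
    simpa using inv_mem (mul_mem (inv_mem hb) h)
  · refine Or.inl ⟨?_, hb⟩
    simpa using hM.conj_mem _ (key g b hg hb) g

end Cfsg.Lib.CNStructure
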