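import Cfsg.Agent.CNStructure.PSLTwo

/-!
Linear groups without fixed-point-free modules in characteristic two.
-/

set_option autoImplicit false
set_option linter.unusedSectionVars false
set_option linter.unusedSimpArgs false
set_option linter.style.haveILetI false

namespace Cfsg.Lib.CNStructure.Linear

open Matrix
open scoped MatrixGroups
open Cfsg.Lib.CNStructure (Norm0)
open Cfsg.Lib.Classical.PSLFour (π π_eq_iff)

variable {F : Type*} [Field F]

local notation "P₂" => Matrix.ProjectiveSpecialLinearGroup (Fin 2) F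

/-- The translation. -/
def ut (j : F) : SL(2, F) := ⟨!![1, j; 0, 1], by simp [Matrix.det_fin_two]⟩

/-- The diagonal element. -/
def dg (c : Fˣ) : SL(2, F) := ⟨!![(c : F), 0; 0, ((c⁻¹ : Fˣ) : F)], by simp [Matrix.det_fin_two]⟩

theorem ut_add (i j : F) : ut i * ut j = ut (i + j) := Subtype.ext (by
  show !![1, i; 0, 1] * !![1, j; 0, 1] = !![(1 : F), i + j; 0, 1]
  simp [Matrix.mul_fin_two, add_comm])

theorem ut_zero : ut (0 : F) = 1 := Subtype.ext (by
  show !![(1 : F), 0; 0, 1] = 1
  rw [Matrix.one_fin_two])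

theorem ut_pow (j : F) (n : ℕ) : ut j ^ n = ut ((n : F) * j) := by
  induction n with
  | zero => rw [pow_zero, Nat.cast_zero, zero_mul, ut_zero]
  | succ n ih => rw [pow_succ, ih, ut_add, Nat.cast_succ, add_mul, one_mul]

theorem dg_mul (c d : Fˣ) : dg c * dg d = dg (c * d) := Subtype.ext (by
  show !![(c : F), 0; 0, ((c⁻¹ : Fˣ) : F)] * !![(d : F), 0; 0, ((d⁻¹ : Fˣ) : F)] =
    !![((c * d : Fˣ) : F), 0; 0, (((c * d)⁻¹ : Fˣ) : F)]
  simp [Matrix.mul_fin_two, mul_comm])

theorem dg_one : dg (1 : Fˣ) = 1 := Subtype.ext (by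
  show !![((1 : Fˣ) : F), 0; 0, (((1 : Fˣ)⁻¹ : Fˣ) : F)] = 1
  simp [Matrix.one_fin_two])

theorem dg_pow (c : Fˣ) (n : ℕ) : dg c ^ n = dg (c ^ n) := by
  induction n with
  | zero => rw [pow_zero, pow_zero, dg_one]
  | succ n ih => rw [pow_succ, ih, dg_mul, pow_succ]

theorem dg_ut (c : Fˣ) (j : F) : dg c * ut j = ut ((c : F) ^ 2 * j) * dg c := Subtype.ext (by
  show !![(c : F), 0; 0, ((c⁻¹ : Fˣ) : F)] * !![1, j; 0, 1] =
    !![1, (c : F) ^ 2 * j; 0, 1] * !![(c : F), 0; 0, ((c⁻¹ : Fˣ) : F)]
  simp [Matrix.mul_fin_two, Units.val_inv_eq_inv_val]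
  field_simp)

theorem π_ut_eq {i j : F} (h : π (ut i) = π (ut j)) : i = j := by
  rcases π_eq_iff.1 h with e | e
  · have := congrFun (congrFun (congrArg Subtype.val e) 0) 1
    simpa [ut] using this.symm
  · have hm : (ut j).1 = -(ut i).1 := by rw [e]; exact Matrix.SpecialLinearGroup.coe_neg _
    have h00 := congrFun (congrFun hm 0) 0
    have h01 := congrFun (congrFun hm 0) 1
    simp [ut] at h00 h01
    linear_combination -h01 + i * h00

theorem ut_ne_one {j : F} (hj : j ≠ 0) : π (ut j) ≠ 1 := fun h =>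
  hj (π_ut_eq (h.trans (by rw [ut_zero, map_one])))

variable [Fintype F] {W : Type*} [AddCommGroup W] (ρ : Representation ℤ (Matrix.ProjectiveSpecialLinearGroup (Fin 2) F) W)

/-- The linear group over nine elements. -/
theorem no_module_nine (hF : Fintype.card F = 9) (hN : Norm0 ρ) (h2 : ∀ w : W, w + w = 0) (w : W) : w = 0 := by
  classical
  haveI : Fact (Nat.Prime 3) := ⟨Nat.prime_three⟩
  haveI : CharP F 3 := charP_of_card_eq_prime_pow (f := 2) (by rw [hF]; norm_num)
  have h3 : ((3 : ℕ) : F) = 0 := CharP.cast_eq_zero F 3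
  obtain ⟨ε, hε⟩ : ∃ ε : F, ε ∉ ({0, 1, 2} : Finset F) := by
    by_contra hcon
    push Not at hcon
    have := Finset.card_le_card (fun x (_ : x ∈ Finset.univ) => hcon x)
    rw [Finset.card_univ, hF] at this
    exact absurd (this.trans Finset.card_le_three) (by norm_num)
  simp only [Finset.mem_insert, Finset.mem_singleton, not_or] at hε
  obtain ⟨e0, e1, e2⟩ := hε
  have hcube : ∀ j : F, π (ut j) ^ 3 = 1 := fun j => by
    rw [← map_pow, ut_pow, h3, zero_mul, ut_zero, map_one]
  refine no_nine ρ hN h2 (hcube 1) (hcube ε) ?_ (ut_ne_one one_ne_zero) (ut_ne_one e0) ?_ ?_ w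
  · show π (ut 1) * π (ut ε) = π (ut ε) * π (ut 1)
    rw [← map_mul, ← map_mul, ut_add, ut_add, add_comm]
  · rw [← map_mul, ut_add]
    refine ut_ne_one fun h => e2 ?_
    have h3' : (3 : F) = 0 := by simpa using h3
    linear_combination h - h3'
  · rw [← map_mul, ← map_mul, ut_add, ut_add]
    refine ut_ne_one fun h => e1 ?_
    have h3' : (3 : F) = 0 := by simpa using h3
    linear_combination -h + ε * h3'

theorem prime_char (hp : (Fintype.card F).Prime) : CharP F (Fintype.card F) := by
  haveI := Fact.mk hp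
  exact charP_of_card_eq_prime_pow (f := 1) (by rw [pow_one])

theorem cast_bijective (hp : (Fintype.card F).Prime) :
    Function.Bijective (fun n : Fin (Fintype.card F) => ((n : ℕ) : F)) := by
  haveI := prime_char hp
  refine (Fintype.bijective_iff_injective_and_card _).2 ⟨fun a b h => Fin.ext ?_, Fintype.card_fin _⟩
  have := (CharP.natCast_eq_natCast F (Fintype.card F)).1 h
  rwa [Nat.ModEq, Nat.mod_eq_of_lt a.2, Nat.mod_eq_of_lt b.2] at this

theorem orderOf_ut (hp : (Fintype.card F).Prime) {j : F} (hj : j ≠ 0) : orderOf (π (ut j)) = Fintype.card F := by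
  haveI := Fact.mk hp
  haveI := prime_char hp
  refine orderOf_eq_prime ?_ (ut_ne_one hj)
  rw [← map_pow, ut_pow, CharP.cast_eq_zero F (Fintype.card F), zero_mul, ut_zero, map_one]

theorem sum_ut (hp : (Fintype.card F).Prime) (hodd : Odd (Fintype.card F)) (hN : Norm0 ρ) (w : W) :
    ∑ j : F, ρ (π (ut j)) w = 0 := by
  have h := hN (π (ut 1)) (by rw [orderOf_ut hp one_ne_zero]; exact hodd) (ut_ne_one one_ne_zero) w
  rw [orderOf_ut hp one_ne_zero, ← Fin.sum_univ_eq_sum_range] at h
  refine Eq.trans ?_ h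
  refine (Fintype.sum_equiv (Equiv.ofBijective _ (cast_bijective hp)) _ _ fun n => ?_).symm
  show ρ (π (ut 1) ^ (n : ℕ)) w = ρ (π (ut ((n : ℕ) : F))) w
  rw [← map_pow, ut_pow, mul_one]

/-- The linear groups over Mersenne primes. -/
theorem no_module_mersenne {k : ℕ} (hp : (Fintype.card F).Prime) (h5 : 5 ≤ Fintype.card F)
    (hk : Fintype.card F + 1 = 2 ^ k) (hN : Norm0 ρ) (h2 : ∀ w : W, w + w = 0) (w : W) : w = 0 := by
  classical
  obtain ⟨l, rfl⟩ : ∃ l, k = l + 3 := ⟨k - 3, by
    have : ¬ k ≤ 2 := fun h => by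
      have h1 := Nat.pow_le_pow_right two_pos h
      have h4 : (2 : ℕ) ^ 2 = 4 := rfl
      omega
    omega⟩
  have hl : (2 : ℕ) ^ (l + 3) = 2 ^ l * 8 := pow_add 2 l 3
  have hpos : 1 ≤ 2 ^ l := Nat.one_le_two_pow
  have hodd : Odd (Fintype.card F) := Nat.odd_iff.2 (by omega)
  obtain ⟨g, hg⟩ := IsCyclic.exists_generator (α := Fˣ)
  have hgo : orderOf g = Fintype.card F - 1 := by
    rw [orderOf_eq_card_of_forall_mem_zpowers hg, Nat.card_eq_fintype_card, Fintype.card_units]
  set c := g ^ 2 with hc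
  have hm : orderOf c = 4 * 2 ^ l - 1 := by
    rw [hc, orderOf_pow, hgo, Nat.gcd_eq_right (by omega)]
    omega
  set m := 4 * 2 ^ l - 1 with hm'
  have hmodd : Odd m := Nat.odd_iff.2 (by omega)
  set D : P₂ := π (dg c)
  have hDn : ∀ n, D ^ n = 1 → m ∣ n := fun n h => by
    rw [← map_pow, dg_pow] at h
    have hc2 : c ^ (2 * n) = 1 := by
      rcases π_eq_iff.1 ((map_one (π (F := F))).trans h.symm) with e | e
      · have e00 := congrFun (congrFun (congrArg Subtype.val e) 0) 0
        simp [dg] at e00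
        refine Units.ext ?_
        rw [mul_comm, pow_mul, Units.val_pow_eq_pow_val, Units.val_pow_eq_pow_val, e00]
        simp
      · have e00 := congrFun (congrFun (congrArg Subtype.val e) 0) 0
        simp [dg] at e00
        refine Units.ext ?_
        rw [mul_comm, pow_mul, Units.val_pow_eq_pow_val, Units.val_pow_eq_pow_val, e00]
        simp
    exact (Nat.Coprime.dvd_mul_left (Nat.coprime_two_right.2 hmodd)).1 (hm ▸ orderOf_dvd_of_pow_eq_one hc2)
  have hDm : D ^ m = 1 := by rw [← map_pow, dg_pow, ← hm, pow_orderOf_eq_one, dg_one, map_one]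
  let e : F → P₂ := fun j => π (ut j) * D * (π (ut j))⁻¹
  have hepow : ∀ j n, e j ^ n = π (ut ((1 - ((c : F) ^ n) ^ 2) * j)) * D ^ n := fun j n => by
    rw [conj_pow, ← map_pow, dg_pow, ← map_inv,
      show (ut j)⁻¹ = ut (-j) from inv_eq_of_mul_eq_one_right (by rw [ut_add, add_neg_cancel, ut_zero]),
      ← map_mul, ← map_mul, mul_assoc, dg_ut, ← mul_assoc, ut_add, map_mul]
    congr 3
    rw [Units.val_pow_eq_pow_val]
    ring
  have heo : ∀ j, orderOf (e j) = orderOf D := fun j => MulEquiv.orderOf_eq (MulAut.conj (π (ut j))) D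
  have hDo : orderOf D = m := Nat.dvd_antisymm (orderOf_dvd_of_pow_eq_one hDm) (hDn _ (pow_orderOf_eq_one D))
  have hsum : ∑ j : F, ∑ n ∈ Finset.range m, ρ (e j ^ n) w = 0 := Finset.sum_eq_zero fun j _ => by
    rw [← hDo, ← heo j]
    exact hN (e j) (by rw [heo, hDo]; exact hmodd)
      (fun h => by
        have := heo j
        rw [h, orderOf_one, hDo] at this
        omega) w
  rw [Finset.sum_comm, Finset.sum_eq_single 0] at hsum
  · simp only [pow_zero, map_one, Module.End.one_apply, Finset.sum_const, Finset.card_univ] at hsum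
    exact eq_zero_of_odd_smul h2 hodd hsum
  · intro n hn hn0
    have hne : (1 - ((c : F) ^ n) ^ 2) ≠ 0 := by
      rw [sub_ne_zero]
      intro h
      have hc2 : c ^ (2 * n) = 1 := Units.ext (by rw [Units.val_pow_eq_pow_val, mul_comm, pow_mul, ← h, Units.val_one])
      have := Nat.le_of_dvd (Nat.pos_of_ne_zero hn0)
        ((Nat.Coprime.dvd_mul_left (Nat.coprime_two_right.2 hmodd)).1 (hm ▸ orderOf_dvd_of_pow_eq_one hc2))
      rw [Finset.mem_range] at hn
      omega
    rw [Finset.sum_congr rfl fun j _ => by rw [hepow, app_mul]]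
    rw [← sum_ut ρ hp hodd hN (ρ (D ^ n) w)]
    exact Fintype.sum_equiv (Equiv.mulLeft₀ _ hne) _ _ fun j => rfl
  · intro h
    exact absurd (Finset.mem_range.2 (by omega)) h

/-- The linear groups over Fermat primes from seventeen on. -/
theorem no_module_fermat {k : ℕ} (hp : (Fintype.card F).Prime) (hk : Fintype.card F = 2 ^ k + 1) (hk3 : 3 ≤ k)
    (hN : Norm0 ρ) (h2 : ∀ w : W, w + w = 0) (w : W) : w = 0 := by
  classical
  obtain ⟨l, rfl⟩ : ∃ l, k = l + 3 := ⟨k - 3, by omega⟩
  have hl : (2 : ℕ) ^ (l + 3) = 2 ^ l * 8 := pow_add 2 l 3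
  have hpos : 1 ≤ 2 ^ l := Nat.one_le_two_pow
  haveI := prime_char hp
  have hodd : Odd (Fintype.card F) := Nat.odd_iff.2 (by omega)
  have hcast : ∀ n : ℕ, 0 < n → n < Fintype.card F → (n : F) ≠ 0 := fun n h1 h2 h => by
    have := Nat.le_of_dvd h1 ((CharP.cast_eq_zero_iff F (Fintype.card F) n).1 h)
    omega
  have t2 : (2 : F) ≠ 0 := by simpa using hcast 2 two_pos (by omega)
  have t4 : (4 : F) ≠ 0 := by
    rw [show (4 : F) = 2 * 2 by norm_num]
    exact mul_ne_zero t2 t2
  obtain ⟨g, hg⟩ := IsCyclic.exists_generator (α := Fˣ)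
  have hgo : orderOf g = 2 ^ l * 8 := by
    rw [orderOf_eq_card_of_forall_mem_zpowers hg, Nat.card_eq_fintype_card, Fintype.card_units]
    omega
  set r := g ^ 2 ^ l with hr
  have hr8 : orderOf r = 8 := by
    rw [hr, orderOf_pow, hgo, Nat.gcd_eq_right (dvd_mul_right _ _), Nat.mul_div_cancel_left _ (by omega)]
  set I : F := (r : F) ^ 2 with hI
  have hII : I * I = -1 := by
    have h8 : (((r : F) ^ 4 - 1) * ((r : F) ^ 4 + 1)) = 0 := by
      have : (r : F) ^ 8 = 1 := by
        rw [← Units.val_pow_eq_pow_val, ← hr8, pow_orderOf_eq_one, Units.val_one]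
      linear_combination this
    rcases mul_eq_zero.1 h8 with h | h
    · exfalso
      have : r ^ 4 = 1 := Units.ext (by rw [Units.val_pow_eq_pow_val, Units.val_one]; linear_combination h)
      have := Nat.le_of_dvd (by norm_num) (orderOf_dvd_of_pow_eq_one this)
      omega
    · rw [hI]
      linear_combination h
  clear_value I
  have hI0 : I ≠ 0 := fun h => by rw [h, zero_mul] at hII; simp at hII
  let zS : SL(2, F) := dg (Units.mk0 I hI0)
  have hzI : ((Units.mk0 I hI0)⁻¹ : Fˣ).1 = -I := by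
    rw [Units.val_inv_eq_inv_val, Units.val_mk0]
    exact inv_eq_of_mul_eq_one_right (by linear_combination -hII)
  let tS : Fˣ → SL(2, F) := fun μ =>
    ⟨!![0, (μ : F); -((μ⁻¹ : Fˣ) : F), 0], by simp [Matrix.det_fin_two]⟩
  let aS : Fˣ → SL(2, F) := fun μ =>
    ⟨!![(1 + I) / 2, (1 + I) * μ / 2; (I - 1) * ((μ⁻¹ : Fˣ) : F) / 2, (1 - I) / 2], by
      have h : (μ : F) * ((μ⁻¹ : Fˣ) : F) = 1 := μ.mul_inv
      rw [Matrix.det_fin_two]
      simp
      field_simp
      linear_combination -2 * hII + (0 : F) * h⟩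
  set Z : P₂ := π zS
  have hZ2 : Z * Z = 1 := by
    rw [← map_mul, ← map_one (π (F := F)), π_eq_iff]
    refine Or.inr (Subtype.ext ?_)
    show (1 : Matrix (Fin 2) (Fin 2) F) = -((dg (Units.mk0 I hI0) * dg (Units.mk0 I hI0) : SL(2, F)).1)
    rw [dg_mul, show Units.mk0 I hI0 * Units.mk0 I hI0 = -1 from Units.ext (by simpa using hII)]
    ext i j
    fin_cases i <;> fin_cases j <;> simp [dg]
  have hrel : ∀ μ : Fˣ, (π (aS μ)) ^ 3 = 1 ∧ π (aS μ) ≠ 1 ∧ π (aS μ) * Z = π (tS μ) * π (aS μ) ∧
      π (aS μ) * π (tS μ) = Z * π (tS μ) * π (aS μ) ∧ π (tS μ) * Z = Z * π (tS μ) ∧ π (tS μ) * π (tS μ) = 1 := by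
    intro μ
    have h : (μ : F) * ((μ⁻¹ : Fˣ) : F) = 1 := μ.mul_inv
    refine ⟨?_, ?_, ?_, ?_, ?_, ?_⟩
    · rw [← map_pow, ← map_one (π (F := F)), π_eq_iff]
      refine Or.inr (Subtype.ext ?_)
      have hch := ch (aS μ).1 (aS μ).2
      have htr : (aS μ).1.trace = 1 := by
        rw [Matrix.trace_fin_two]
        simp [aS]
        field_simp
        ring
      rw [htr, one_smul] at hch
      show (1 : Matrix (Fin 2) (Fin 2) F) = -((aS μ ^ 3 : SL(2, F)).1)
      rw [Matrix.SpecialLinearGroup.coe_pow, pow_succ, pow_two, hch, sub_mul, one_mul, hch]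
      abel
    · intro e
      have e01 : ((aS μ).1) 0 1 = 0 := by
        rcases π_eq_one e with e | e <;> rw [e] <;> simp
      have h1 : (1 + I) = 0 := by
        simpa [aS, t2, μ.ne_zero] using e01
      exact t2 (by linear_combination hII - (I - 1) * h1)
    · rw [← map_mul, ← map_mul, π_eq_iff]
      refine Or.inl (Subtype.ext ?_)
      show (tS μ).1 * (aS μ).1 = (aS μ).1 * zS.1
      simp only [tS, aS, zS, dg, hzI, Units.val_mk0]
      ext i j
      fin_cases i <;> fin_cases j <;> simp [Matrix.mul_apply, Fin.sum_univ_two] <;> field_simp <;>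
        first
          | ring1
          | linear_combination hII
          | linear_combination -hII
          | linear_combination (I - 1) * h - hII
          | linear_combination (1 + I) * h + hII
    · rw [← map_mul, ← map_mul, ← map_mul, π_eq_iff]
      first
        | refine Or.inl (Subtype.ext ?_)
          show zS.1 * (tS μ).1 * (aS μ).1 = (aS μ).1 * (tS μ).1
          simp only [tS, aS, zS, dg, hzI, Units.val_mk0]
          ext i j
          fin_cases i <;> fin_cases j <;> simp [Matrix.mul_apply, Fin.sum_univ_two] <;> field_simp <;>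
            first
              | ring1
              | linear_combination hII
              | linear_combination -hII
              | linear_combination (μ : F) * hII
              | linear_combination -(μ : F) * hII
    · rw [← map_mul, ← map_mul, π_eq_iff]
      refine Or.inr (Subtype.ext ?_)
      show zS.1 * (tS μ).1 = -((tS μ).1 * zS.1)
      simp only [tS, zS, dg, hzI, Units.val_mk0]
      ext i j
      fin_cases i <;> fin_cases j <;> simp [Matrix.mul_apply, Fin.sum_univ_two] <;> ring
    · rw [← map_mul, ← map_one (π (F := F)), π_eq_iff]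
      refine Or.inr (Subtype.ext ?_)
      show (1 : Matrix (Fin 2) (Fin 2) F) = -((tS μ).1 * (tS μ).1)
      simp only [tS]
      ext i j
      fin_cases i <;> fin_cases j <;> simp [Matrix.mul_apply, Fin.sum_univ_two]
  -- the involutions of the four-groups fix what the first one sums
  have htw : ∀ (μ : Fˣ) (x : W), ρ (π (tS μ)) (x + ρ Z x) = x + ρ Z x := by
    intro μ x
    obtain ⟨ha3, ha1, haz, hat, htz, htt⟩ := hrel μ
    set a := π (aS μ)
    set t := π (tS μ)
    have hv : ∀ v v' : P₂, a * v = v' * a → v' * v' = 1 → ∀ u, a * v' = u * a → v * v' * u = 1 →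
        v * a * (v * a) = v * v' * (a * a) ∧ (v * a) ^ 3 = 1 := by
      intro v v' h1 _ u h2 h3
      have e : v * a * (v * a) = v * v' * (a * a) := by
        rw [show v * a * (v * a) = v * (a * v) * a by group, h1]; group
      refine ⟨e, ?_⟩
      calc (v * a) ^ 3 = v * (a * v) * (a * v) * a := by simp only [pow_succ, pow_zero, one_mul, mul_assoc]
        _ = v * v' * (a * v') * (a * a) := by rw [h1]; simp only [mul_assoc]
        _ = v * v' * u * a ^ 3 := by rw [h2]; simp only [pow_succ, pow_zero, one_mul, mul_assoc]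
        _ = 1 := by rw [h3, ha3, one_mul]
    have ha_zt : a * (Z * t) = Z * a := by
      rw [← mul_assoc, haz, mul_assoc, hat, ← mul_assoc, ← mul_assoc, htz, mul_assoc Z, htt, mul_one]
    have h1 := hv Z t haz htt (Z * t) hat (by
      rw [← mul_assoc, mul_assoc Z t Z, htz, ← mul_assoc, hZ2, one_mul, htt])
    have h2' := hv t (Z * t) hat (by rw [mul_assoc, ← mul_assoc t Z t, htz, mul_assoc Z t t, htt, mul_one, hZ2]) Z ha_zt
      (by rw [← mul_assoc, htz, mul_assoc Z t t, htt, mul_one, hZ2])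
    have h3 := hv (Z * t) Z ha_zt hZ2 t haz (by rw [mul_assoc Z t Z, htz, ← mul_assoc, hZ2, one_mul, htt])
    have hne : ∀ v : P₂, v * v = 1 → v * a ≠ 1 := fun v hv2 e => ha1 (by
      have e' : a = v := by
        calc a = v * v * a := by rw [hv2, one_mul]
          _ = v := by rw [mul_assoc, e, mul_one]
      have : a ^ 3 = a := by rw [pow_succ, sq, show a * a = 1 by rw [e']; exact hv2, one_mul]
      exact this.symm.trans ha3)
    have hzt2 : Z * t * (Z * t) = 1 := by rw [mul_assoc, ← mul_assoc t Z t, htz, mul_assoc Z t t, htt, mul_one, hZ2]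
    have E0 := three_sum ρ hN ha3 ha1 x
    have E1 := three_sum ρ hN h1.2 (hne Z hZ2) x
    have E2 := three_sum ρ hN h2'.2 (hne t htt) x
    have E3 := three_sum ρ hN h3.2 (hne (Z * t) hzt2) x
    rw [h1.1, app_mul ρ (Z * t), app_mul ρ Z a] at E1
    rw [h2'.1, show t * (Z * t) = Z by rw [← mul_assoc, htz, mul_assoc, htt, mul_one], app_mul ρ Z (a * a),
      app_mul ρ t a] at E2
    rw [h3.1, show Z * t * Z = t by rw [mul_assoc, htz, ← mul_assoc, hZ2, one_mul], app_mul ρ t (a * a),
      app_mul ρ (Z * t) a] at E3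
    set y := ρ a x
    set y' := ρ (a * a) x
    have hS : ∀ u : W, ρ Z u + ρ t u + ρ (Z * t) u + u = ρ t (u + ρ Z u) + (u + ρ Z u) := fun u => by
      rw [map_add, ← app_mul ρ t Z, htz]
      abel
    have hxy : x = -(y + y') := eq_neg_of_add_eq_zero_left (by rw [← E0]; abel)
    have h4 : (ρ Z x + ρ t x + ρ (Z * t) x + x) = 0 := by
      have hneg : ∀ u : W, -u = u := fun u => neg_eq_of_add_eq_zero_left (h2 u)
      conv_lhs => rw [hxy, hneg]
      simp only [map_add]
      have : (x + y + y') + (x + ρ Z y + ρ (Z * t) y') + (x + ρ t y + ρ Z y') + (x + ρ (Z * t) y + ρ t y') =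
          (ρ Z y + ρ Z y' + (ρ t y + ρ t y') + (ρ (Z * t) y + ρ (Z * t) y') + (y + y')) + ((x + x) + (x + x)) := by
        abel
      rw [E0, E1, E2, E3, h2 x] at this
      simpa using this.symm
    rw [hS] at h4
    have h5 := congrArg (fun v => v + (x + ρ Z x)) h4
    simpa [add_assoc, h2] using h5
  set U : Fˣ → P₂ := fun c => π (dg c)
  have hk_fix : ∀ x : W, ρ (U r) (x + ρ Z x) = x + ρ Z x := fun x => by
    have e : U r = π (tS 1) * π (tS r⁻¹) := by
      rw [← map_mul, π_eq_iff]
      refine Or.inr (Subtype.ext ?_)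
      show (tS 1).1 * (tS r⁻¹).1 = -(dg r).1
      simp only [tS, dg]
      ext i j
      fin_cases i <;> fin_cases j <;> simp [Matrix.mul_apply, Fin.sum_univ_two]
    rw [e, app_mul, htw, htw]
  have hZu : ∀ j, Z * π (ut j) = π (ut (-j)) * Z := fun j => by
    rw [← map_mul, ← map_mul, dg_ut, Units.val_mk0, sq, hII, neg_one_mul]
  let u : F → W → W := fun j v => ρ (π (ut j)) v
  have uu : ∀ i j v, u i (u j v) = u (i + j) v := fun i j v => by
    show ρ _ (ρ _ v) = ρ _ v
    rw [← app_mul, ← map_mul, ut_add]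
  have u0 : ∀ v, u 0 v = v := fun v => by
    show ρ (π (ut 0)) v = v
    rw [ut_zero, map_one, map_one, Module.End.one_apply]
  have ufix : ∀ {j : F}, j ≠ 0 → ∀ v, u j v = v → v = 0 := fun {j} hj v hv => by
    have hN' : Odd (orderOf (π (ut j))) := by rw [orderOf_ut hp hj]; exact hodd
    exact hN.eq_zero h2 hN' (ut_ne_one hj) hv
  have hU : ∀ x : W, x + ρ Z x = 0 := by
    intro x
    set v := x + ρ Z x with hv
    have hzv : ρ Z v = v := by rw [hv, map_add, ← app_mul, hZ2, map_one, Module.End.one_apply, add_comm]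
    have hs : ∀ j, u (I * j) v + u (-(I * j)) v = u j v + u (-j) v := fun j => by
      have h1 := hk_fix (u j v)
      rw [show ρ Z (u j v) = u (-j) v by
        show ρ Z (ρ _ v) = ρ _ v
        rw [← app_mul, hZu, app_mul, hzv]] at h1
      have h2' : ∀ i, ρ (U r) (u i v) = u (I * i) v := fun i => by
        show ρ _ (ρ _ v) = ρ _ v
        rw [← app_mul, ← map_mul, dg_ut, map_mul, app_mul, show ρ (π (dg r)) v = v from hv ▸ hk_fix x, hI]
      rw [map_add, h2', h2', mul_neg] at h1
      exact h1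
    have h1 := hs 1
    rw [mul_one] at h1
    have h3 : u 2 v + u (-2) v = 0 := by
      have e1 : u 1 (u I v + u (-I) v) + u (-1) (u I v + u (-I) v) =
          (u (1 + I) v + u (-(1 + I)) v) + (u (I - 1) v + u (-(I - 1)) v) := by
        simp only [show ∀ i a b, u i (a + b) = u i a + u i b from fun i a b => map_add (ρ _) a b, uu]
        rw [show -1 + I = I - 1 by ring, show (1 : F) + -I = -(I - 1) by ring, show -1 + -I = -(1 + I) by ring]
        abel
      rw [h1, ← hs (1 + I), show I * (1 + I) = I - 1 by linear_combination hII, h2] at e1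
      simp only [show ∀ i a b, u i (a + b) = u i a + u i b from fun i a b => map_add (ρ _) a b, uu] at e1
      rw [show (1 : F) + 1 = 2 by ring, show (-1 : F) + -1 = -2 by ring, add_neg_cancel, neg_add_cancel, u0] at e1
      rw [← e1]
      have := h2 v
      calc u 2 v + u (-2) v = u 2 v + (v + v) + u (-2) v := by rw [this, add_zero]
        _ = _ := by abel
    refine ufix t4 v ?_
    have h4 : u 2 v = u (-2) v := by
      have := congrArg (fun q => q + u (-2) v) h3
      simpa [add_assoc, h2] using this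
    have h5 := congrArg (u 2) h4
    rwa [uu, uu, show (2 : F) + 2 = 4 by norm_num, add_neg_cancel, u0] at h5
  have hZ : ∀ x, ρ Z x = x := fun x => by
    have := congrArg (fun q => q + x) (hU x)
    simpa [add_comm x, add_assoc, h2] using this
  refine ufix t2 w ?_
  have h1 : u 1 w = u (-1) w := by
    show ρ _ w = ρ _ w
    rw [← hZ (ρ (π (ut 1)) w), ← app_mul, hZu, app_mul, hZ]
  have h5 := congrArg (u 1) h1
  rwa [uu, uu, show (1 : F) + 1 = 2 by norm_num, add_neg_cancel, u0] at h5

end Cfsg.Lib.CNStructure.Linear
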