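import Cfsg.Agent.CNStructure.PSLTwo

/-!
The group `PSL₃` over four elements has no fixed-point-free module in characteristic two.
-/

set_option autoImplicit false
set_option linter.unusedSectionVars false
set_option linter.unusedSimpArgs false
set_option linter.style.haveILetI false

namespace Cfsg.Lib.CNStructure.Linear

open Matrix
open Cfsg.Lib.CNStructure (Norm0)

theorem no_module_three_four {F : Type*} [Field F] [Fintype F] (hF : Fintype.card F = 4) {W : Type*} [AddCommGroup W]
    (ρ : Representation ℤ (Matrix.ProjectiveSpecialLinearGroup (Fin 3) F) W) (hN : Norm0 ρ)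
    (h2 : ∀ w : W, w + w = 0) (w : W) : w = 0 := by
  classical
  obtain ⟨ω, hω⟩ : ∃ ω : F, ω ∉ ({0, 1} : Finset F) := by
    by_contra hcon
    push Not at hcon
    have := Finset.card_le_card (fun x (_ : x ∈ Finset.univ) => hcon x)
    rw [Finset.card_univ, hF] at this
    exact absurd (this.trans Finset.card_le_two) (by norm_num)
  simp only [Finset.mem_insert, Finset.mem_singleton, not_or] at hω
  obtain ⟨ω0, ω1⟩ := hω
  have h3 : ω ^ 3 = 1 := by
    have := FiniteField.pow_card_sub_one_eq_one ω ω0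
    rwa [hF] at this
  let b : SpecialLinearGroup (Fin 3) F :=
    ⟨!![1, 0, 0; 0, ω, 0; 0, 0, ω ^ 2], by simp [Matrix.det_fin_three]; linear_combination h3⟩
  let c : SpecialLinearGroup (Fin 3) F :=
    ⟨!![0, 0, 1; 1, 0, 0; 0, 1, 0], by simp [Matrix.det_fin_three]⟩
  let z : SpecialLinearGroup (Fin 3) F :=
    ⟨!![ω ^ 2, 0, 0; 0, ω ^ 2, 0; 0, 0, ω ^ 2], by
      simp [Matrix.det_fin_three]; linear_combination (ω ^ 3 + 1) * h3⟩
  have hz : z ∈ Subgroup.center (SpecialLinearGroup (Fin 3) F) := by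
    refine Matrix.SpecialLinearGroup.mem_center_iff.2 ⟨ω ^ 2, ?_, ?_⟩
    · rw [Fintype.card_fin]; linear_combination (ω ^ 3 + 1) * h3
    · ext i j
      fin_cases i <;> fin_cases j <;> simp [z, Matrix.scalar_apply]
  let π := QuotientGroup.mk' (Subgroup.center (SpecialLinearGroup (Fin 3) F))
  have ne_one : ∀ g : SpecialLinearGroup (Fin 3) F, (g.1 0 0 ≠ g.1 1 1 ∨ g.1 1 0 ≠ 0 ∨ g.1 0 1 ≠ 0) → π g ≠ 1 := by
    intro g hg e
    obtain ⟨r, -, hr⟩ := Matrix.SpecialLinearGroup.mem_center_iff.1 ((QuotientGroup.eq_one_iff g).1 e)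
    rw [← hr] at hg
    simp [Matrix.scalar_apply] at hg
  have cube : ∀ g : SpecialLinearGroup (Fin 3) F, g.1 * g.1 * g.1 = 1 → π g ^ 3 = 1 := fun g hg => by
    rw [← map_pow, show g ^ 3 = 1 from Subtype.ext (by
      rw [Matrix.SpecialLinearGroup.coe_pow, pow_succ, pow_two, Matrix.SpecialLinearGroup.coe_one, hg]), map_one]
  refine no_nine ρ hN h2 (b := π b) (c := π c) (cube b ?_) (cube c ?_) ?_ (ne_one b ?_) (ne_one c ?_) ?_ ?_ w
  · ext i j
    fin_cases i <;> fin_cases j <;> simp [b, Matrix.mul_apply, Fin.sum_univ_three]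
    · linear_combination h3
    · linear_combination (ω ^ 3 + 1) * h3
  · ext i j
    fin_cases i <;> fin_cases j <;> simp [c, Matrix.mul_apply, Fin.sum_univ_three]
  · show π b * π c = π c * π b
    have e : c * b = b * c * z := by
      refine Subtype.ext ?_
      show c.1 * b.1 = b.1 * c.1 * z.1
      ext i j
      fin_cases i <;> fin_cases j <;> simp [b, c, z, Matrix.mul_apply, Fin.sum_univ_three]
      · linear_combination -h3
      · linear_combination -ω * h3
    rw [← map_mul, ← map_mul, e, map_mul π (b * c) z, show π z = 1 from (QuotientGroup.eq_one_iff z).2 hz, mul_one]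
  · exact Or.inl (by simpa [b] using Ne.symm ω1)
  · exact Or.inr (Or.inl (by simp [c]))
  · rw [← map_mul]
    refine ne_one _ (Or.inr (Or.inl ?_))
    rw [Matrix.SpecialLinearGroup.coe_mul]
    simp [b, c, Matrix.mul_apply, Fin.sum_univ_three, ω0]
  · rw [← map_mul, ← map_mul]
    refine ne_one _ (Or.inr (Or.inr ?_))
    rw [Matrix.SpecialLinearGroup.coe_mul, Matrix.SpecialLinearGroup.coe_mul]
    simp [b, c, Matrix.mul_apply, Fin.sum_univ_three]

end Cfsg.Lib.CNStructure.Linear
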