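import Cfsg.Agent.CNStructure.SuzExtension
import Cfsg.Agent.CNStructure.AlmostSimple
import Cfsg.Agent.CNStructure.PSLNoModule
import Cfsg.Agent.CNStructure.PSLThree
import Cfsg.Agent.S3050
import Cfsg.Agent.Classical.Misc.SmallPSL
import Mathlib.FieldTheory.Finite.GaloisField

/-!
The structure of the nonsolvable groups with nilpotent centralisers.
-/

set_option autoImplicit false
set_option linter.unusedSectionVars false
set_option linter.style.haveILetI false

namespace Cfsg.Lib.CNStructure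

open Subgroup

universe u

theorem Norm0.comp {R T X W : Type*} [CommRing R] [Group T] [Group X] [AddCommGroup W] [Module R W]
    {ρ : Representation R T W} (h : Norm0 ρ) (f : X →* T) (hf : Function.Injective f) : Norm0 (ρ.comp f) :=
  fun g ho hg v => by
    have h' := h (f g) (by rwa [orderOf_injective f hf]) (fun e => hg (hf (by rw [e, map_one]))) v
    rw [orderOf_injective f hf] at h'
    simpa only [MonoidHom.comp_apply, map_pow] using h'

/-- No module, no normal two-subgroup. -/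
theorem eq_bot_of_no_module {G : Type u} [Group G] [Finite G] (Q : Subgroup G) [hn : Q.Normal] (hQ : IsPGroup 2 Q)
    (hfpf : Fpf Q)
    (h : ∀ (W : Type u) [AddCommGroup W] (ρ : Representation ℤ (G ⧸ Q) W), Norm0 ρ → (∀ w : W, w + w = 0) →
      ∀ w : W, w = 0) : Q = ⊥ := by
  classical
  haveI : Fact (Nat.Prime 2) := ⟨Nat.prime_two⟩
  by_contra hne
  let W : Subgroup G :=
    { carrier := {x | x ∈ Q ∧ x * x = 1 ∧ ∀ y ∈ Q, x * y = y * x}
      one_mem' := ⟨Q.one_mem, one_mul 1, fun y _ => by simp⟩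
      mul_mem' := fun {a b} ha hb => ⟨mul_mem ha.1 hb.1, by
        rw [mul_assoc, ← mul_assoc b, ← ha.2.2 b hb.1, mul_assoc, hb.2.1, mul_one, ha.2.1], fun y hy => by
        rw [mul_assoc, hb.2.2 y hy, ← mul_assoc, ha.2.2 y hy, mul_assoc]⟩
      inv_mem' := fun {a} ha => by rwa [inv_eq_of_mul_eq_one_right ha.2.1] }
  haveI hWn : W.Normal := ⟨fun x hx g => ⟨hn.conj_mem x hx.1 g, by
    rw [conj_mul, hx.2.1, mul_one, mul_inv_cancel], fun y hy => by
    have h := hx.2.2 (g⁻¹ * y * g) (by simpa using hn.conj_mem y hy g⁻¹)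
    calc g * x * g⁻¹ * y = g * (x * (g⁻¹ * y * g)) * g⁻¹ := by group
      _ = g * ((g⁻¹ * y * g) * x) * g⁻¹ := by rw [h]
      _ = _ := by group⟩⟩
  letI : CommGroup W := { (inferInstance : Group W) with
    mul_comm := fun a b => Subtype.ext (a.2.2.2 b b.2.1) }
  obtain ⟨ρ, -, hN⟩ := exists_conjRep Q (MulEquiv.refl (G ⧸ Q)) (V := Additive W) (fun a => ((a.toMul : W) : G))
    (fun a b h => Additive.toMul.injective (Subtype.ext h)) (fun _ _ => rfl)
    (fun g v => ⟨Additive.ofMul ⟨_, hWn.conj_mem _ (v.toMul).2 g⟩, rfl⟩)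
    (fun k hk v => ((v.toMul).2.2.2 k hk).symm)
    (fun g ho hg v h => Additive.toMul.injective (Subtype.ext (hfpf g ho hg _ (v.toMul).2.1 h)))
  have hz := h (Additive W) ρ hN (fun w => Additive.toMul.injective (Subtype.ext (w.toMul).2.2.1))
  haveI : Nontrivial Q := (Subgroup.nontrivial_iff_ne_bot Q).2 hne
  haveI := hQ.center_nontrivial
  obtain ⟨k, hk⟩ := (hQ.to_subgroup (Subgroup.center Q)).exists_card_eq
  have h2 : 2 ∣ Nat.card (Subgroup.center Q) := by
    rw [hk]
    refine dvd_pow_self 2 fun e => ?_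
    rw [e, pow_zero] at hk
    exact absurd hk (Finite.one_lt_card (α := Subgroup.center Q)).ne'
  obtain ⟨z, hzo⟩ := exists_prime_orderOf_dvd_card' 2 h2
  have hzW : ((z : Q) : G) ∈ W := ⟨(z : Q).2, by
    have := pow_orderOf_eq_one z
    rw [hzo, sq] at this
    exact congrArg (fun a : Subgroup.center Q => ((a : Q) : G)) this,
    fun y hy => (congrArg Subtype.val (Subgroup.mem_center_iff.1 z.2 ⟨y, hy⟩)).symm⟩
  have h1 : ((z : Q) : G) = 1 :=
    congrArg (fun a : Additive W => ((a.toMul : W) : G)) (hz (Additive.ofMul ⟨_, hzW⟩))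
  have hz1 : z = 1 := Subtype.ext (Subtype.ext h1)
  rw [hz1, orderOf_one] at hzo
  exact absurd hzo (by norm_num)

theorem center_bot {F : Type*} [Field F] [CharP F 2] :
    Subgroup.center (Matrix.SpecialLinearGroup (Fin 2) F) = ⊥ := by
  rw [Subgroup.eq_bot_iff_forall]
  intro M hM
  obtain ⟨r, hr, hM'⟩ := Matrix.SpecialLinearGroup.mem_center_iff.1 hM
  rw [Fintype.card_fin] at hr
  have hr1 : r = 1 := by
    have h4 : (r - 1) * (r - 1) = 0 := by
      have h5 : (2 : F) = 0 := CharTwo.two_eq_zero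
      linear_combination hr - (r - 1) * h5
    exact sub_eq_zero.1 (mul_self_eq_zero.1 h4)
  ext i k
  rw [← hM', hr1]
  simp [Matrix.scalar_apply]

/-- The extension of a two-group by a linear group in characteristic two. -/
theorem elementary_even {G : Type u} [Group G] [Finite G] (Q : Subgroup G) [Q.Normal] (hQ : IsPGroup 2 Q)
    (hfpf : Fpf Q) {F : Type} [Field F] [Fintype F] {n : ℕ} (hn : 2 ≤ n) (hF : Fintype.card F = 2 ^ n)
    (e : G ⧸ Q ≃* Matrix.ProjectiveSpecialLinearGroup (Fin 2) F) : IsMulCommutative Q ∧ ∀ x ∈ Q, x * x = 1 := by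
  haveI : Fact (Nat.Prime 2) := ⟨Nat.prime_two⟩
  haveI : Fact (Nat.Prime 3) := ⟨Nat.prime_three⟩
  haveI : CharP F 2 := charP_of_card_eq_prime_pow hF
  let e' : G ⧸ Q ≃* Matrix.SpecialLinearGroup (Fin 2) F :=
    e.trans ((QuotientGroup.quotientMulEquivOfEq (center_bot (F := F))).trans
      (QuotientGroup.quotientBot (G := Matrix.SpecialLinearGroup (Fin 2) F)))
  obtain ⟨x, hx⟩ := exists_prime_orderOf_dvd_card' (G := G) 3 (by
    rw [Q.card_eq_card_quotient_mul_card_subgroup, Nat.card_congr e.toEquiv]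
    exact Dvd.dvd.mul_right Cfsg.Lib.CITGroups.three_dvd_card_psl _)
  have hx1 : x ≠ 1 := fun h => by rw [h, orderOf_one] at hx; norm_num at hx
  obtain ⟨h1, -⟩ := Cfsg.Agent.S3050.result Q hQ n hn F hF e' x hx fun q hq h =>
    hfpf x (by rw [hx]; decide) hx1 q hq (mul_inv_eq_iff_eq_mul.1 h)
  exact ⟨h1.1, fun y hy => by have := h1.2 y hy; rwa [sq] at this⟩

/-- **The structure of nonsolvable CN-groups.** -/
theorem structure_cn {G : Type u} [Group G] [Finite G] (hG : ¬ Group.IsSolvable G) (hCN : Cfsg.IsCNGroup G) :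
    (IsSimpleGroup G ∧ ¬ IsMulCommutative G) ∨
    (∃ (N : Subgroup G), N.Normal ∧ N.index = 2 ∧ ∃ (F : Type) (_ : Field F) (_ : Fintype F), Fintype.card F = 9 ∧
        Nonempty (N ≃* Matrix.ProjectiveSpecialLinearGroup (Fin 2) F)) ∨
    (∃ (N : Subgroup G) (_ : N.Normal), N ≠ ⊥ ∧ IsPGroup 2 N ∧ IsMulCommutative N ∧ (∀ x ∈ N, x * x = 1) ∧
        ((∃ (F : Type) (_ : Field F) (_ : Fintype F), CharP F 2 ∧ 4 ≤ Fintype.card F ∧
            Nonempty (G ⧸ N ≃* Matrix.ProjectiveSpecialLinearGroup (Fin 2) F)) ∨ Cfsg.IsSuzuki (G ⧸ N))) := by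
  classical
  haveI : Fact (Nat.Prime 2) := ⟨Nat.prime_two⟩
  by_cases hsol : ∀ N : Subgroup G, N.Normal → Group.IsSolvable N → N = ⊥
  · rcases almost_simple hCN hG hsol with ⟨h1, h2, -⟩ | h
    · exact Or.inl ⟨h1, h2⟩
    · exact Or.inr (Or.inl h)
  obtain ⟨hQn, hQ⟩ := pCore_facts G
  set Q := Cfsg.pCore 2 G with hQdef
  haveI : (Cfsg.pCore 2 G).Normal := hQn
  obtain ⟨hqCN, hqns, hqsol⟩ := quotient_pCore hCN hG
  have hne : Q ≠ ⊥ := fun hb => hsol fun N hN hs => by
    haveI := hN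
    by_contra hne
    obtain ⟨L, hLN, hLn, hLne, hmin⟩ := Coprime.exists_minimal_normal (K := N) hN hne
    haveI := hLn
    haveI := hs
    haveI : Group.IsSolvable L := Group.isSolvable_of_isSolvable_injective (inclusion_injective hLN)
    obtain ⟨-, p, hp, hLp, -⟩ := Coprime.minimal_normal_solvable (N := L) inferInstance hLne hmin
    by_cases hp2 : p = 2
    · subst hp2
      exact hLne (le_bot_iff.1 (hb ▸ Cfsg.Lib.Components.le_pCore hLp))
    · exact hLne (odd_normal_trivial hCN hG hp hp2 L hLp)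
  have hfpf : Fpf Q := fun g hg hg1 x hx hc => fpf_pCore hCN hG hg hg1 hx hc
  refine Or.inr (Or.inr ⟨Q, inferInstance, hne, hQ, ?_⟩)
  have even : ∀ (F : Type) [Field F] [Fintype F] (n : ℕ), 2 ≤ n → Fintype.card F = 2 ^ n →
      Nonempty (G ⧸ Q ≃* Matrix.ProjectiveSpecialLinearGroup (Fin 2) F) →
      IsMulCommutative Q ∧ (∀ x ∈ Q, x * x = 1) ∧
        ((∃ (F : Type) (_ : Field F) (_ : Fintype F), CharP F 2 ∧ 4 ≤ Fintype.card F ∧
            Nonempty (G ⧸ Q ≃* Matrix.ProjectiveSpecialLinearGroup (Fin 2) F)) ∨ Cfsg.IsSuzuki (G ⧸ Q)) := by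
    intro F _ _ n hn hF he
    obtain ⟨h1, h2⟩ := elementary_even Q hQ hfpf hn hF he.some
    exact ⟨h1, h2, Or.inl ⟨F, _, _, charP_of_card_eq_prime_pow hF, by
      rw [hF]; calc 4 = 2 ^ 2 := rfl
        _ ≤ 2 ^ n := Nat.pow_le_pow_right two_pos hn, he⟩⟩
  have kill : ∀ {X : Type} [Group X] (f : X →* G ⧸ Q), Function.Injective f →
      (∀ (W : Type u) [AddCommGroup W] (ρ : Representation ℤ X W), Norm0 ρ → (∀ w : W, w + w = 0) →
        ∀ w : W, w = 0) → False := fun f hf h =>
    hne (eq_bot_of_no_module Q hQ hfpf fun W _ ρ hN h2 => h W (ρ.comp f) (hN.comp f hf) h2)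
  rcases almost_simple hqCN hqns hqsol with ⟨hs, -, hL⟩ | ⟨M, -, -, F, _, _, hF, ⟨e⟩⟩
  · cases hL with
    | even F n hn hF he => exact even F n hn hF he
    | nine F hF he =>
      exact (kill he.some.symm.toMonoidHom he.some.symm.injective fun W _ ρ hN h2 w =>
        Linear.no_module_nine ρ hF hN h2 w).elim
    | prime F k hp h5 hk he =>
      by_cases h5' : Fintype.card F = 5
      · obtain ⟨e⟩ := he
        obtain ⟨e5⟩ := Cfsg.Lib.Classical.SmallPSL.psl_five h5'
        let K := GaloisField 2 2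
        letI : Fintype K := Fintype.ofFinite K
        have hK : Fintype.card K = 2 ^ 2 := by
          rw [← Nat.card_eq_fintype_card]
          exact GaloisField.card 2 2 two_ne_zero
        obtain ⟨e4⟩ := Cfsg.Lib.Classical.SmallPSL.psl_four (F := K) (by rw [hK]; norm_num)
        exact even K 2 le_rfl hK ⟨(e.trans e5).trans e4.symm⟩
      refine (kill he.some.symm.toMonoidHom he.some.symm.injective fun W _ ρ hN h2 w => ?_).elim
      rcases hk with hk | hk
      · refine Linear.no_module_fermat ρ hp hk ?_ hN h2 w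
        rcases k with _ | _ | _ | k
        · omega
        · omega
        · exact absurd hk h5'
        · omega
      · exact Linear.no_module_mersenne ρ hp h5 hk hN h2 w
    | plane F hF he =>
      exact (kill he.some.symm.toMonoidHom he.some.symm.injective fun W _ ρ hN h2 w =>
        Linear.no_module_three_four hF ρ hN h2 w).elim
    | suzuki h =>
      obtain ⟨F, _, _, m, hm, hF, ⟨e₀⟩⟩ := h
      have P : Cfsg.Lib.Suz.Par F m := ⟨hm, hF⟩
      haveI : CharP F 2 := charP_of_card_eq_prime_pow hF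
      let e : G ⧸ Q ≃* Cfsg.Sz F m := e₀.trans (Cfsg.Lib.Suz.lieEquiv P).symm
      have hel := elementary_of_sz P Q hQ e hfpf
      refine ⟨⟨⟨fun a b => Subtype.ext (hel a a.2 b b.2).1⟩⟩, fun x hx => (hel x hx x hx).2,
        Or.inr ⟨hs, m, hm, ?_⟩⟩
      rw [Nat.card_congr e.toEquiv, Cfsg.Lib.Suz.card_Sz P]
  · exact (kill (M.subtype.comp e.symm.toMonoidHom) (M.subtype_injective.comp e.symm.injective)
      fun W _ ρ hN h2 w => Linear.no_module_nine ρ hF hN h2 w).elim

end Cfsg.Lib.CNStructure
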