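import Cfsg.Agent.CNStructure.Classify

/-!
Equivariant pairings between fixed-point-free modules of a Suzuki group vanish.
-/

set_option autoImplicit false
set_option linter.unusedSectionVars false
set_option linter.unusedSimpArgs false
set_option linter.style.haveILetI false

open Matrix

namespace Cfsg.Lib.CNStructure

open Cfsg.Lib.Suz
open Cfsg.Lib.Modular (Irred subRep quotRep quotRep_mk)

variable {F : Type*} [Field F] [Fintype F] [CharP F 2] {m : ℕ} (Q : Par F m)

include Q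

omit [CharP F 2] in
theorem pow_two_pow_mod (x : F) (p : ℕ) : x ^ 2 ^ p = x ^ 2 ^ (p % (2 * m + 1)) := by
  have h : ∀ j, x ^ 2 ^ ((2 * m + 1) * j) = x := fun j => by
    induction j with
    | zero => simp
    | succ j ih => rw [Nat.mul_succ, pow_add, pow_mul, ih, pow_q Q]
  conv_lhs => rw [← Nat.div_add_mod p (2 * m + 1), pow_add, pow_mul, h]

/-- Separation of three additive monomials. -/
theorem sep_three {p r s : ℕ} {A B C : F} (h : ∀ x : F, A * x ^ 2 ^ p + B * x ^ 2 ^ r + C * x ^ 2 ^ s = 0)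
    (hr : r % (2 * m + 1) ≠ p % (2 * m + 1)) (hs : s % (2 * m + 1) ≠ p % (2 * m + 1)) : A = 0 := by
  classical
  have hn : 0 < 2 * m + 1 := by omega
  let P : Fin (2 * m + 1) := ⟨p % (2 * m + 1), Nat.mod_lt _ hn⟩
  let R : Fin (2 * m + 1) := ⟨r % (2 * m + 1), Nat.mod_lt _ hn⟩
  let S : Fin (2 * m + 1) := ⟨s % (2 * m + 1), Nat.mod_lt _ hn⟩
  let c : Fin (2 * m + 1) → F := fun i =>
    (if i = P then A else 0) + (if i = R then B else 0) + (if i = S then C else 0)
  have hc := coeff_zero_of_eval c (fun i => 2 ^ (i : ℕ))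
    (fun i j e => Fin.ext (Nat.pow_right_injective le_rfl e))
    (fun i => by rw [Q.hF]; exact Nat.pow_lt_pow_right (by norm_num) i.isLt) (fun x => by
      simp only [c, add_mul, ite_mul, zero_mul, Finset.sum_add_distrib, Finset.sum_ite_eq', Finset.mem_univ,
        if_true, P, R, S]
      rw [← pow_two_pow_mod Q, ← pow_two_pow_mod Q, ← pow_two_pow_mod Q]
      exact h x) P
  have hPR : P ≠ R := fun e => hr (congrArg Fin.val e).symm
  have hPS : P ≠ S := fun e => hs (congrArg Fin.val e).symm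
  simpa [c, hPR, hPS] using hc

theorem exists_not_two_point : ∃ a : F, a ^ 2 ^ (m + 1) + a ^ 2 ≠ 0 := by
  by_contra hcon
  push Not at hcon
  have h : ∀ a : F, (1 : F) * a ^ 2 ^ (m + 1) + 1 * a ^ 2 ^ 1 + 0 * a ^ 2 ^ 1 = 0 := fun a => by
    simpa using hcon a
  have hm := Q.hm
  exact one_ne_zero (sep_three Q h
    (by rw [Nat.mod_eq_of_lt (by omega), Nat.mod_eq_of_lt (by omega)]; omega)
    (by rw [Nat.mod_eq_of_lt (by omega), Nat.mod_eq_of_lt (by omega)]; omega))

/-- An additive function is no multiple of the cubic coordinate. -/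
theorem fn_coef {j : ℕ} {A : F} {f : F → F} (hf : ∀ a b, f (a + b) = f a + f b)
    (h : ∀ a, A * (fn m a (0 : F)) ^ 2 ^ j = f a) : A = 0 := by
  obtain ⟨a, ha⟩ := exists_not_two_point Q
  haveI : Fact (Nat.Prime 2) := ⟨Nat.prime_two⟩
  have hz : (0 : F) ^ 2 ^ (m + 1) = 0 := zero_pow (pow_ne_zero _ two_ne_zero)
  have hfn : ∀ x : F, fn m x (0 : F) = x ^ (2 ^ (m + 1) + 2) := fun x => by simp [fn, hz]
  have e : (a + 1) ^ (2 ^ (m + 1) + 2) = a ^ (2 ^ (m + 1) + 2) + 1 + (a ^ 2 ^ (m + 1) + a ^ 2) := by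
    rw [pow_add, add_pow_char_pow, add_pow_char, one_pow, one_pow]
    ring
  have h1 := hf a 1
  simp only [← h, hfn, e, add_pow_char_pow, one_pow, mul_add] at h1
  rw [add_eq_left, ← mul_add, ← add_pow_char_pow] at h1
  exact (mul_eq_zero.1 h1).resolve_right (pow_ne_zero _ ha)

theorem col3 (i : ℕ) (a b : F) :
    nat Q i (uu Q a b) (e4 3) = ![tw i (fn m a b), tw i b, tw i a, 1] := by
  funext r
  rw [nat_e4]
  show tw i (Tmat m a b r 3) = _
  fin_cases r <;> simp [Tmat]

theorem nat_uu_mulVec (i : ℕ) (a b : F) (y : Fin 4 → F) :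
    nat Q i (uu Q a b) y = ![y 0 + tw i a * y 1 + tw i (b + a ^ (2 ^ (m + 1) + 1)) * y 2 + tw i (fn m a b) * y 3,
      y 1 + tw i (a ^ 2 ^ (m + 1)) * y 2 + tw i b * y 3, y 2 + tw i a * y 3, y 3] := by
  funext r
  rw [nat_apply]
  show ((Tmat m a b).map (tw i)).mulVec y r = _
  fin_cases r <;> simp [Tmat, Matrix.mulVec, dotProduct, Fin.sum_univ_four, Matrix.vecHead, Matrix.vecTail]

/-- The image of the lowest vector under a unipotent-equivariant map of the given weight. -/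
theorem low_zero {i j k : ℕ} (φ : (Fin 4 → F) →ₗ[F] (Fin 4 → F))
    (hφ : ∀ a b x, φ (nat Q j (uu Q a b) x) = nat Q k (uu Q a b) (φ x))
    (hwt : ∀ l : Fˣ, nat Q k (hI Q l) (φ (e4 3)) =
      (((l ^ ((2 ^ m + 1) * 2 ^ i)) * (l ^ ((2 ^ m + 1) * 2 ^ j))⁻¹ : Fˣ) : F) • φ (e4 3)) :
    φ (e4 3) 3 = 0 ∧ φ (e4 3) 2 = 0 := by
  set y := φ (e4 3) with hy
  have hexp : ∀ a b : F, nat Q k (uu Q a b) y =
      tw j (fn m a b) • φ (e4 0) + tw j b • φ (e4 1) + tw j a • φ (e4 2) + y := fun a b => by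
    rw [hy, ← hφ, col3,
      show (![tw j (fn m a b), tw j b, tw j a, 1] : Fin 4 → F) =
        tw j (fn m a b) • e4 0 + tw j b • e4 1 + tw j a • e4 2 + e4 3 by
        funext r
        fin_cases r <;> simp [e4]]
    simp only [map_add, map_smul]
  have hz : (0 : F) ^ 2 ^ (m + 1) = 0 := zero_pow (pow_ne_zero _ two_ne_zero)
  have hn : 0 < 2 * m + 1 := by omega
  have hm := Q.hm
  have h2 : ∀ a : F, φ (e4 0) 2 * (fn m a 0) ^ 2 ^ j = y 3 * a ^ 2 ^ k + φ (e4 2) 2 * a ^ 2 ^ j := fun a => by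
    have h := congrFun (hexp a 0) 2
    rw [nat_uu_mulVec] at h
    simp [tw_apply] at h
    linear_combination -h - (φ (e4 2) 2 * a ^ 2 ^ j) * (CharTwo.two_eq_zero (R := F))
  haveI : Fact (Nat.Prime 2) := ⟨Nat.prime_two⟩
  have hA2 : φ (e4 0) 2 = 0 := fn_coef Q
    (f := fun a => y 3 * a ^ 2 ^ k + φ (e4 2) 2 * a ^ 2 ^ j)
    (fun a b => by simp only [add_pow_char_pow]; ring) h2
  have y3 : y 3 = 0 := by
    by_cases hkj : j % (2 * m + 1) = k % (2 * m + 1)
    · by_contra hne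
      have hall : ∀ l : Fˣ, l ^ ((2 ^ m + 1) * 2 ^ i) = 1 := fun l => by
        have h := congrFun (hwt l) 3
        have he : nat Q k (hI Q l) y 3 = (((l ^ ((2 ^ m + 1) * 2 ^ j))⁻¹ : Fˣ) : F) * y 3 := by
          rw [nat_apply]
          show ((H m l).1.map (tw k)).mulVec y 3 = _
          simp only [H, Matrix.diagonal_map (map_zero (tw k)), Matrix.mulVec_diagonal, Function.comp_apply]
          show tw k (((l ^ (hh m + 1))⁻¹ : Fˣ) : F) * y 3 = _
          rw [tw_apply, pow_two_pow_mod Q _ k, ← hkj, ← pow_two_pow_mod Q _ j, ← Units.val_pow_eq_pow_val,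
            inv_pow, ← pow_mul]
          rfl
        rw [he, Pi.smul_apply, smul_eq_mul] at h
        have h' := Units.ext (mul_right_cancel₀ hne h)
        exact (mul_eq_right.1 h'.symm)
      obtain ⟨c, hc⟩ := exists_s_ne Q
      have hc0 : c ≠ 0 := fun e => hc (by rw [e, hz])
      have hc1 : c ≠ 1 := fun e => hc (by rw [e, one_pow])
      have h := hall (Units.mk0 c hc0)
      rw [pow_mul] at h
      have h' : Units.mk0 c hc0 ^ (2 ^ m + 1) = 1 := by
        refine Units.ext (iterateFrobenius_inj F 2 i ?_)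
        have := congrArg Units.val h
        simpa [iterateFrobenius_def] using this
      exact hc1 (congrArg Units.val (alpha_injective Q h'))
    · refine sep_three Q (p := k) (r := j) (s := j) (A := y 3) (B := φ (e4 2) 2) (C := 0) (fun a => ?_) hkj hkj
      have h := h2 a
      rw [hA2, zero_mul] at h
      rw [zero_mul, add_zero]
      exact h.symm
  refine ⟨y3, ?_⟩
  have h1 : ∀ a : F, φ (e4 0) 1 * (fn m a 0) ^ 2 ^ j =
      y 2 * a ^ 2 ^ (m + 1 + k) + φ (e4 2) 1 * a ^ 2 ^ j := fun a => by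
    have h := congrFun (hexp a 0) 1
    rw [nat_uu_mulVec] at h
    simp [tw_apply, y3, ← pow_mul, ← pow_add] at h
    linear_combination -h - (φ (e4 2) 1 * a ^ 2 ^ j) * (CharTwo.two_eq_zero (R := F))
  have hA1 : φ (e4 0) 1 = 0 := fn_coef Q
    (f := fun a => y 2 * a ^ 2 ^ (m + 1 + k) + φ (e4 2) 1 * a ^ 2 ^ j)
    (fun a b => by simp only [add_pow_char_pow]; ring) h1
  by_contra hne
  have c1 : j % (2 * m + 1) = (m + 1 + k) % (2 * m + 1) := by
    by_contra hcon
    refine hne (sep_three Q (p := m + 1 + k) (r := j) (s := j) (A := y 2) (B := φ (e4 2) 1) (C := 0)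
      (fun a => ?_) hcon hcon)
    have h := h1 a
    rw [hA1, zero_mul] at h
    rw [zero_mul, add_zero]
    exact h.symm
  have c2 : (m + 1 + j) % (2 * m + 1) = k % (2 * m + 1) ∨ j % (2 * m + 1) = k % (2 * m + 1) := by
    by_contra hcon
    push Not at hcon
    refine hne (sep_three Q (p := k) (r := m + 1 + j) (s := j) (A := y 2) (B := φ (e4 0) 0) (C := φ (e4 1) 0)
      (fun b => ?_) hcon.1 hcon.2)
    have h := congrFun (hexp 0 b) 0
    rw [nat_uu_mulVec] at h
    simp [tw_apply, y3, fn, hz, ← pow_mul, ← pow_add,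
      zero_pow (Nat.succ_ne_zero (2 ^ (m + 1)))] at h
    linear_combination h + (φ (e4 0) 0 * b ^ 2 ^ (m + 1 + j) + φ (e4 1) 0 * b ^ 2 ^ j) * (CharTwo.two_eq_zero (R := F))
  rcases c2 with c2 | c2
  · have : (m + 1 + (m + 1 + k)) % (2 * m + 1) = k % (2 * m + 1) := by rw [← c2, Nat.add_mod, ← c1, ← Nat.add_mod]
    rw [show m + 1 + (m + 1 + k) = (k + 1) + (2 * m + 1) by ring, Nat.add_mod_right] at this
    have h' : k + 1 ≡ k + 0 [MOD 2 * m + 1] := this
    have h'' := Nat.ModEq.add_left_cancel' k h'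
    rw [Nat.ModEq, Nat.mod_eq_of_lt (by omega), Nat.zero_mod] at h''
    exact one_ne_zero h''
  · have h' : k + (m + 1) ≡ k + 0 [MOD 2 * m + 1] := by
      show (k + (m + 1)) % _ = k % _
      rw [add_comm, ← c1, c2]
    have h'' := Nat.ModEq.add_left_cancel' k h'
    rw [Nat.ModEq, Nat.mod_eq_of_lt (by omega), Nat.zero_mod] at h''
    omega

theorem nat_ww (i : ℕ) (y : Fin 4 → F) : nat Q i (ww Q) y = ![y 3, y 2, y 1, y 0] := by
  funext r
  rw [nat_apply]
  show ((W F).1.map (tw i)).mulVec y r = _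
  fin_cases r <;> simp [W, Matrix.mulVec, dotProduct, Fin.sum_univ_four, Matrix.vecHead, Matrix.vecTail]

/-- Pairings of twists vanish. -/
theorem nat_pairing {i j k : ℕ} (β : (Fin 4 → F) →ₗ[F] (Fin 4 → F) →ₗ[F] (Fin 4 → F))
    (hβ : ∀ g x y, β (nat Q i g x) (nat Q j g y) = nat Q k g (β x y)) : β = 0 := by
  have hw : ∀ i' : ℕ, ∀ l : Fin 4, nat Q i' (ww Q) (e4 l) = e4 (3 - l) := fun i' l => by
    rw [nat_ww]
    funext r
    fin_cases l <;> fin_cases r <;> simp [e4, Fin.ext_iff]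
  have hwh : ∀ (i' : ℕ) (l : Fˣ), nat Q i' (hI Q l) (e4 3) =
      (((l ^ ((2 ^ m + 1) * 2 ^ i'))⁻¹ : Fˣ) : F) • e4 3 := fun i' l => by
    funext r
    rw [nat_e4]
    show tw i' ((H m l).1 r 3) = _
    fin_cases r <;> simp [H, hh, e4, tw_apply, ← pow_mul, inv_pow]
  obtain ⟨z3, z2⟩ := low_zero Q (i := i) (j := j) (k := k) (β (e4 0))
    (fun a b x => by rw [← hβ, nat_fix_e0])
    (fun l => by
      rw [← hβ, nat_weight, hwh, map_smul, LinearMap.map_smul₂, smul_smul, ← Units.val_mul,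
        mul_comm])
  obtain ⟨z0', z1'⟩ := low_zero Q (i := j) (j := i) (k := k) (β.flip (e4 0))
    (fun a b x => by
      rw [LinearMap.flip_apply, LinearMap.flip_apply, ← hβ, nat_fix_e0])
    (fun l => by
      rw [LinearMap.flip_apply, ← hβ, nat_weight, hwh, map_smul, LinearMap.map_smul₂, smul_smul, ← Units.val_mul])
  have hy : β (e4 0) (e4 3) = 0 := by
    have e : β (e4 3) (e4 0) = nat Q k (ww Q) (β (e4 0) (e4 3)) := by rw [← hβ, hw, hw]; rfl
    rw [LinearMap.flip_apply, e, nat_ww] at z0' z1'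
    funext r
    fin_cases r
    · simpa using z0'
    · simpa using z1'
    · exact z2
    · exact z3
  have h0 : ∀ g x, β (nat Q i g (e4 0)) x = 0 := by
    have hall : β (e4 0) = 0 := LinearMap.ext fun x => by
      obtain ⟨c, rfl⟩ := nat_last Q j x
      rw [map_sum, LinearMap.zero_apply]
      refine Finset.sum_eq_zero fun p _ => ?_
      rw [map_smul, ← nat_fix_e0 Q i p.1 p.2, hβ, hy, map_zero, smul_zero]
    intro g x
    rw [← Module.End.one_apply (R := F) x, ← map_one (nat Q j), ← mul_inv_cancel g, map_mul,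
      Module.End.mul_apply, hβ, hall, LinearMap.zero_apply, map_zero]
  refine LinearMap.ext fun x => LinearMap.ext fun y => ?_
  obtain ⟨c, rfl⟩ := nat_last Q i x
  rw [map_sum, LinearMap.sum_apply, LinearMap.zero_apply, LinearMap.zero_apply]
  refine Finset.sum_eq_zero fun p _ => ?_
  rw [map_smul, LinearMap.smul_apply, show e4 3 = nat Q i (ww Q) (e4 0) from (hw i 0).symm,
    ← Module.End.mul_apply, ← map_mul, h0, smul_zero]

omit Q

variable {G : Type*} [Group G]

/-- Passing to a submodule keeps the norm condition. -/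
theorem Norm0.sub {V : Type*} [AddCommGroup V] [Module F V] {ρ : Representation F G V} (h : Norm0 ρ)
    (U : Submodule F V) (hU : ∀ g, ∀ v ∈ U, ρ g v ∈ U) : Norm0 (subRep ρ U hU) := fun g ho hg v =>
  Subtype.ext (by rw [Submodule.coe_sum]; exact h g ho hg v)

/-- Passing to a quotient module keeps the norm condition. -/
theorem Norm0.quot {V : Type*} [AddCommGroup V] [Module F V] {ρ : Representation F G V} (h : Norm0 ρ)
    (U : Submodule F V) (hU : ∀ g, ∀ v ∈ U, ρ g v ∈ U) : Norm0 (quotRep ρ U hU) := fun g ho hg v => by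
  obtain ⟨v, rfl⟩ := Submodule.mkQ_surjective U v
  simp only [Submodule.mkQ_apply, quotRep_mk]
  exact (map_sum U.mkQ _ _).symm.trans (by rw [h g ho hg v, map_zero])

universe v₁

/-- A nonzero pairing gives one on an irreducible left argument. -/
theorem reduce_left {V : Type v₁} {W U : Type*} [AddCommGroup V] [Module F V] [FiniteDimensional F V]
    [AddCommGroup W] [Module F W] [AddCommGroup U] [Module F U]
    {ρ : Representation F G V} {σ : Representation F G W} {τ : Representation F G U} (hρ : Norm0 ρ)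
    (β : V →ₗ[F] W →ₗ[F] U) (hβ : ∀ g x y, β (ρ g x) (σ g y) = τ g (β x y)) (hne : β ≠ 0) :
    ∃ (V' : Type v₁) (_ : AddCommGroup V') (_ : Module F V') (_ : FiniteDimensional F V')
      (ρ' : Representation F G V') (β' : V' →ₗ[F] W →ₗ[F] U),
      Irred ρ' ∧ Norm0 ρ' ∧ (∀ g x y, β' (ρ' g x) (σ g y) = τ g (β' x y)) ∧ β' ≠ 0 := by
  let S : Set (Submodule F V) := {M | (∀ g, ∀ v ∈ M, ρ g v ∈ M) ∧ ¬ M ≤ LinearMap.ker β}
  have hS : S.Nonempty := ⟨⊤, fun _ _ _ => Submodule.mem_top, fun h => hne (LinearMap.ker_eq_top.1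
    (top_le_iff.1 h))⟩
  obtain ⟨M, ⟨hM, hMk⟩, hmin⟩ := (wellFounded_lt (α := Submodule F V)).has_min S hS
  have hker : ∀ g, ∀ v ∈ LinearMap.ker β, ρ g v ∈ LinearMap.ker β := fun g v hv => by
    rw [LinearMap.mem_ker] at hv ⊢
    refine LinearMap.ext fun y => ?_
    rw [← Module.End.one_apply (R := F) y, ← map_one σ, ← mul_inv_cancel g, map_mul, Module.End.mul_apply, hβ,
      hv, LinearMap.zero_apply, map_zero, LinearMap.zero_apply]
  let ρM := subRep ρ M hM
  let K : Submodule F M := (LinearMap.ker β).comap M.subtype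
  have hK : ∀ g, ∀ v ∈ K, ρM g v ∈ K := fun g v hv => hker g _ hv
  let β' : (M ⧸ K) →ₗ[F] W →ₗ[F] U := K.liftQ (β.comp M.subtype) fun v hv => hv
  refine ⟨M ⧸ K, inferInstance, inferInstance, inferInstance, quotRep ρM K hK, β', ?_, (hρ.sub M hM).quot K hK,
    ?_, ?_⟩
  · obtain ⟨v, hvM, hvk⟩ := SetLike.not_le_iff_exists.1 hMk
    refine ⟨⟨⟨Submodule.Quotient.mk ⟨v, hvM⟩, 0, fun e => hvk ((Submodule.Quotient.mk_eq_zero K).1 e)⟩⟩,
      fun Y hY => ?_⟩
    let Y' : Submodule F V := (Y.comap K.mkQ).map M.subtype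
    by_cases hY' : Y' ≤ LinearMap.ker β
    · refine Or.inl ((Submodule.eq_bot_iff _).2 fun x hx => ?_)
      obtain ⟨x, rfl⟩ := Submodule.mkQ_surjective K x
      exact (Submodule.Quotient.mk_eq_zero K).2 (hY' ⟨x, hx, rfl⟩)
    · have hY'S : Y' ∈ S := ⟨fun g w hw => by
        obtain ⟨x, hx, rfl⟩ := hw
        exact ⟨ρM g x, hY g _ hx, rfl⟩, hY'⟩
      have hle : Y' ≤ M := M.map_subtype_le _
      have : Y' = M := (hle.lt_or_eq).resolve_left (hmin Y' hY'S)
      refine Or.inr (Submodule.eq_top_iff'.2 fun x => ?_)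
      obtain ⟨x, rfl⟩ := Submodule.mkQ_surjective K x
      have hxY : (x : V) ∈ Y' := by rw [this]; exact x.2
      obtain ⟨x', hx', e⟩ := hxY
      rwa [Subtype.ext e] at hx'
  · intro g x y
    obtain ⟨x, rfl⟩ := Submodule.mkQ_surjective K x
    exact hβ g x y
  · intro h
    refine hMk fun x hx => LinearMap.mem_ker.2 ?_
    have := LinearMap.congr_fun h (Submodule.Quotient.mk ⟨x, hx⟩)
    exact this

/-- A nonzero pairing gives one with an irreducible target. -/
theorem reduce_target {V W : Type*} {U : Type v₁} [AddCommGroup V] [Module F V] [AddCommGroup W] [Module F W]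
    [AddCommGroup U] [Module F U] [FiniteDimensional F U]
    {ρ : Representation F G V} {σ : Representation F G W} {τ : Representation F G U} (hτ : Norm0 τ)
    (β : V →ₗ[F] W →ₗ[F] U) (hβ : ∀ g x y, β (ρ g x) (σ g y) = τ g (β x y)) (hne : β ≠ 0) :
    ∃ (U' : Type v₁) (_ : AddCommGroup U') (_ : Module F U') (_ : FiniteDimensional F U')
      (τ' : Representation F G U') (β' : V →ₗ[F] W →ₗ[F] U'),
      Irred τ' ∧ Norm0 τ' ∧ (∀ g x y, β' (ρ g x) (σ g y) = τ' g (β' x y)) ∧ β' ≠ 0 := by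
  let U0 : Submodule F U := Submodule.span F (Set.range fun p : V × W => β p.1 p.2)
  have hU0 : ∀ g, ∀ u ∈ U0, τ g u ∈ U0 := fun g u hu => by
    induction hu using Submodule.span_induction with
    | mem y hy =>
      obtain ⟨p, rfl⟩ := hy
      exact Submodule.subset_span ⟨(ρ g p.1, σ g p.2), hβ g p.1 p.2⟩
    | zero => rw [map_zero]; exact zero_mem _
    | add a b _ _ ha hb => rw [map_add]; exact add_mem ha hb
    | smul c a _ ha => rw [map_smul]; exact Submodule.smul_mem _ _ ha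
  let τ0 := subRep τ U0 hU0
  let β0 : V →ₗ[F] W →ₗ[F] U0 := LinearMap.mk₂ F
    (fun x y => ⟨β x y, Submodule.subset_span ⟨(x, y), rfl⟩⟩)
    (fun a b c => Subtype.ext (by simp)) (fun c a b => Subtype.ext (by simp))
    (fun a b c => Subtype.ext (by simp)) (fun c a b => Subtype.ext (by simp))
  let S : Set (Submodule F U0) := {M | (∀ g, ∀ v ∈ M, τ0 g v ∈ M) ∧ M ≠ ⊤}
  have hS : S.Nonempty := ⟨⊥, fun g v hv => by
      rw [Submodule.mem_bot] at hv ⊢; rw [hv, map_zero], fun h => hne (LinearMap.ext fun x => LinearMap.ext fun y => by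
        have : (⟨β x y, Submodule.subset_span ⟨(x, y), rfl⟩⟩ : U0) ∈ (⊥ : Submodule F U0) := h ▸ Submodule.mem_top
        exact congrArg Subtype.val ((Submodule.mem_bot F).1 this))⟩
  obtain ⟨M, ⟨hM, hMt⟩, hmax⟩ := (wellFounded_gt (α := Submodule F U0)).has_min S hS
  refine ⟨U0 ⧸ M, inferInstance, inferInstance, inferInstance, quotRep τ0 M hM,
    β0.compr₂ M.mkQ, ?_, (hτ.sub U0 hU0).quot M hM, ?_, ?_⟩
  · haveI : Nontrivial (U0 ⧸ M) := Submodule.Quotient.nontrivial_iff.2 hMt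
    refine ⟨inferInstance, fun Y hY => ?_⟩
    have hle : M ≤ Y.comap M.mkQ := fun x hx => by
      show M.mkQ x ∈ Y
      rw [Submodule.mkQ_apply, (Submodule.Quotient.mk_eq_zero M).2 hx]
      exact Y.zero_mem
    by_cases ht : Y.comap M.mkQ = ⊤
    · refine Or.inr (Submodule.eq_top_iff'.2 fun x => ?_)
      obtain ⟨x, rfl⟩ := Submodule.mkQ_surjective M x
      exact (ht ▸ Submodule.mem_top : x ∈ Y.comap M.mkQ)
    · refine Or.inl ((Submodule.eq_bot_iff _).2 fun x hx => ?_)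
      have := (hle.lt_or_eq).resolve_left (hmax _ ⟨fun g w hw => hY g _ hw, ht⟩)
      obtain ⟨x, rfl⟩ := Submodule.mkQ_surjective M x
      exact (Submodule.Quotient.mk_eq_zero M).2 (this ▸ hx)
  · intro g x y
    show M.mkQ (β0 (ρ g x) (σ g y)) = _
    rw [show β0 (ρ g x) (σ g y) = τ0 g (β0 x y) from Subtype.ext (hβ g x y)]
    rfl
  · intro h
    refine hMt (Submodule.eq_top_iff'.2 fun u => ?_)
    obtain ⟨u, hu⟩ := u
    induction hu using Submodule.span_induction with
    | mem y hy =>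
      obtain ⟨p, rfl⟩ := hy
      exact (Submodule.Quotient.mk_eq_zero M).1 (LinearMap.congr_fun₂ h p.1 p.2)
    | zero => exact M.zero_mem
    | add a b ha hb h1 h2 => exact M.add_mem h1 h2
    | smul c a ha h1 => exact M.smul_mem c h1

include Q in
/-- **Pairings vanish.** -/
theorem pairing_zero {V W U : Type*} [AddCommGroup V] [Module F V] [FiniteDimensional F V]
    [AddCommGroup W] [Module F W] [FiniteDimensional F W] [AddCommGroup U] [Module F U] [FiniteDimensional F U]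
    {ρ : Representation F (Cfsg.Sz F m) V} {σ : Representation F (Cfsg.Sz F m) W}
    {τ : Representation F (Cfsg.Sz F m) U} (hρ : Norm0 ρ) (hσ : Norm0 σ) (hτ : Norm0 τ)
    (β : V →ₗ[F] W →ₗ[F] U) (hβ : ∀ g x y, β (ρ g x) (σ g y) = τ g (β x y)) : β = 0 := by
  by_contra hne
  obtain ⟨V', _, _, _, ρ', β₁, hi₁, hn₁, hβ₁, hne₁⟩ := reduce_left hρ β hβ hne
  obtain ⟨W', _, _, _, σ', β₂, hi₂, hn₂, hβ₂, hne₂⟩ := reduce_left hσ β₁.flip (τ := τ) (σ := ρ')
    (fun g x y => hβ₁ g y x) (fun e => hne₁ (LinearMap.ext fun a => LinearMap.ext fun b =>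
      LinearMap.congr_fun₂ e b a))
  obtain ⟨U', _, _, _, τ', β₃, hi₃, hn₃, hβ₃, hne₃⟩ := reduce_target hτ β₂ hβ₂ hne₂
  obtain ⟨i, e₁, he₁⟩ := classify Q hi₁ hn₁
  obtain ⟨j, e₂, he₂⟩ := classify Q hi₂ hn₂
  obtain ⟨k, e₃, he₃⟩ := classify Q hi₃ hn₃
  have h0 := nat_pairing Q (i := j) (j := i) (k := k)
    ((β₃.compl₁₂ e₂.symm.toLinearMap e₁.symm.toLinearMap).compr₂ e₃.toLinearMap) (fun g x y => by
      show e₃ (β₃ (e₂.symm (nat Q j g x)) (e₁.symm (nat Q i g y))) = nat Q k g (e₃ (β₃ (e₂.symm x) (e₁.symm y)))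
      rw [← he₃, ← hβ₃]
      rw [show e₂.symm (nat Q j g x) = σ' g (e₂.symm x) by
          rw [LinearEquiv.symm_apply_eq, he₂, LinearEquiv.apply_symm_apply],
        show e₁.symm (nat Q i g y) = ρ' g (e₁.symm y) by
          rw [LinearEquiv.symm_apply_eq, he₁, LinearEquiv.apply_symm_apply]])
  refine hne₃ (LinearMap.ext fun x => LinearMap.ext fun y => e₃.injective ?_)
  have := LinearMap.congr_fun₂ h0 (e₂ x) (e₁ y)
  simpa using this

end Cfsg.Lib.CNStructure
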