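import Cfsg.Agent.CNStructure.Pairing
import Cfsg.Agent.CNStructure.Exponent
import Mathlib.LinearAlgebra.BilinearForm.TensorProduct

/-!
A normal two-subgroup with Suzuki quotient on which the elements of odd order act without fixed points
is elementary abelian.
-/

set_option autoImplicit false
set_option linter.unusedSectionVars false
set_option linter.unusedSimpArgs false
set_option linter.style.haveILetI false

open scoped TensorProduct

namespace Cfsg.Lib.CNStructure

open Cfsg.Lib.Suz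

universe u

/-- Elements of odd order act without fixed points on a subgroup. -/
def Fpf {G : Type*} [Group G] (N : Subgroup G) : Prop :=
  ∀ g : G, Odd (orderOf g) → g ≠ 1 → ∀ x ∈ N, g * x = x * g → x = 1

/-- An element of odd order over a given one. -/
theorem odd_lift {G H : Type*} [Group G] [Finite G] [Group H] (f : G →* H) (g₀ : G) (ho : Odd (orderOf (f g₀))) :
    ∃ g, f g = f g₀ ∧ Odd (orderOf g) := by
  obtain ⟨a, b, hb, hs⟩ := Nat.exists_eq_two_pow_mul_odd (orderOf_pos g₀).ne'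
  have hco : (2 ^ a).Coprime (orderOf (f g₀)) := Nat.Coprime.pow_left _ (Nat.coprime_two_left.2 ho)
  obtain ⟨e, he0, he1⟩ := Nat.chineseRemainder hco 0 1
  refine ⟨g₀ ^ e, ?_, ?_⟩
  · rw [map_pow]
    conv_rhs => rw [← pow_one (f g₀)]
    exact pow_eq_pow_iff_modEq.2 he1
  · refine hb.of_dvd_nat (orderOf_dvd_of_pow_eq_one ?_)
    obtain ⟨j, hj⟩ := (Nat.modEq_zero_iff_dvd.1 he0)
    rw [← pow_mul, ← orderOf_dvd_iff_pow_eq_one, hs, hj, mul_assoc]
    exact Nat.mul_dvd_mul_left _ (dvd_mul_left _ _)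

theorem two_values : ∀ c : ZMod 2, c ≠ 0 → c = 1 := by decide

variable {F : Type*} [Field F] [Fintype F] [CharP F 2] {m : ℕ} (Q : Par F m)

/-- The representation by conjugation. -/
theorem exists_conjRep {G : Type u} [Group G] [Finite G] {H : Type*} [Group H] (N : Subgroup G) [N.Normal]
    (e : G ⧸ N ≃* H) {V : Type*} [AddCommGroup V] (ι : V → G) (hι : Function.Injective ι)
    (hadd : ∀ a b, ι (a + b) = ι a * ι b) (hnorm : ∀ g v, ∃ w, ι w = g * ι v * g⁻¹)
    (hcomm : ∀ n ∈ N, ∀ v, n * ι v = ι v * n) (hfpf : ∀ g, Odd (orderOf g) → g ≠ 1 → ∀ v, g * ι v = ι v * g → v = 0) :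
    ∃ ρ : Representation ℤ H V,
      (∀ g v, ι (ρ (e (QuotientGroup.mk g)) v) = g * ι v * g⁻¹) ∧ Norm0 ρ := by
  classical
  choose w hw using hnorm
  let act : G → (V →ₗ[ℤ] V) := fun g => (AddMonoidHom.mk' (w g) fun a b => hι (by
    rw [hw, hadd, hadd, hw, hw]; group)).toIntLinearMap
  have hact : ∀ g v, ι (act g v) = g * ι v * g⁻¹ := fun g v => hw g v
  let l : H → G := fun s => (e.symm s).out
  have hsame : ∀ g v, ι (act (l (e (QuotientGroup.mk g))) v) = g * ι v * g⁻¹ := fun g v => by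
    obtain ⟨n, hn⟩ := QuotientGroup.mk_out_eq_mul N g
    rw [hact, show l (e (QuotientGroup.mk g)) = g * (n : G) by
      show (e.symm (e _)).out = _
      rw [e.symm_apply_apply]; exact hn]
    calc g * n * ι v * (g * (n : G))⁻¹ = g * ((n : G) * ι v) * (n : G)⁻¹ * g⁻¹ := by group
      _ = _ := by rw [hcomm n n.2 v]; group
  have hsurj : ∀ s, ∃ g : G, e (QuotientGroup.mk g) = s := fun s =>
    ⟨(e.symm s).out, by rw [QuotientGroup.out_eq', e.apply_symm_apply]⟩
  let ρ : Representation ℤ H V :=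
    { toFun := fun s => act (l s)
      map_one' := LinearMap.ext fun v => hι (by
        have := hsame 1 v
        rw [QuotientGroup.mk_one, map_one] at this
        rw [this]
        simp)
      map_mul' := fun s t => LinearMap.ext fun v => hι (by
        obtain ⟨g, rfl⟩ := hsurj s
        obtain ⟨h, rfl⟩ := hsurj t
        rw [Module.End.mul_apply, hsame g, hsame h, ← map_mul, ← QuotientGroup.mk_mul, hsame]
        group) }
  refine ⟨ρ, hsame, fun s ho hs v => ?_⟩
  obtain ⟨g₀, rfl⟩ := hsurj s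
  obtain ⟨g, hg, hgo⟩ := odd_lift (e.toMonoidHom.comp (QuotientGroup.mk' N)) g₀ ho
  have hg' : e (QuotientGroup.mk g) = e (QuotientGroup.mk g₀) := hg
  rw [← hg'] at hs ho ⊢
  set s := e (QuotientGroup.mk g) with hsdef
  set y := ∑ n ∈ Finset.range (orderOf s), ρ (s ^ n) v
  have hy : ρ s y = y := by
    have h1 := Finset.sum_range_succ' (fun n => ρ (s ^ n) v) (orderOf s)
    have h2 := Finset.sum_range_succ (fun n => ρ (s ^ n) v) (orderOf s)
    rw [h2, pow_orderOf_eq_one, pow_zero] at h1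
    rw [map_sum, Finset.sum_congr rfl fun n _ => show ρ s (ρ (s ^ n) v) = ρ (s ^ (n + 1)) v by
      rw [pow_succ', map_mul, Module.End.mul_apply]]
    exact (add_right_cancel h1).symm
  refine hfpf g hgo (fun e' => hs (by rw [hsdef, e', QuotientGroup.mk_one, map_one])) y ?_
  rw [← mul_inv_eq_iff_eq_mul]
  exact (hsame g y).symm.trans (congrArg ι hy)

theorem Norm0.baseChange {V : Type*} [AddCommGroup V] [Module (ZMod 2) V] [Algebra (ZMod 2) F]
    {G : Type*} [Group G] (ρ : Representation ℤ G V) (hN : Norm0 ρ) :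
    ∃ σ : Representation F G (F ⊗[ZMod 2] V), (∀ g a v, σ g (a ⊗ₜ v) = a ⊗ₜ ρ g v) ∧ Norm0 σ := by
  let ρ' : Representation (ZMod 2) G V :=
    { toFun := fun g => (ρ g).toAddMonoidHom.toZModLinearMap 2
      map_one' := LinearMap.ext fun x => by simp
      map_mul' := fun g h => LinearMap.ext fun x => by simp }
  let σ : Representation F G (F ⊗[ZMod 2] V) :=
    { toFun := fun g => (ρ' g).baseChange F
      map_one' := by rw [map_one]; ext x; simp
      map_mul' := fun g h => by rw [map_mul]; ext x; simp }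
  refine ⟨σ, fun g a v => rfl, fun g ho hg z => ?_⟩
  induction z using TensorProduct.induction_on with
  | zero => simp
  | tmul r a =>
    show ∑ n ∈ Finset.range (orderOf g), r ⊗ₜ[ZMod 2] ρ (g ^ n) a = 0
    rw [← TensorProduct.tmul_sum, hN g ho hg a, TensorProduct.tmul_zero]
  | add a b ha hb => simp only [map_add, Finset.sum_add_distrib, ha, hb, add_zero]

include Q in
/-- **Elementary abelian.** -/
theorem elementary_of_sz {G : Type u} [Group G] [Finite G] (N : Subgroup G) [hnorm : N.Normal] (hN : IsPGroup 2 N)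
    (e : G ⧸ N ≃* Cfsg.Sz F m) (hfpf : Fpf N) : ∀ x ∈ N, ∀ y ∈ N, x * y = y * x ∧ x * x = 1 := by
  classical
  induction hcard : Nat.card G using Nat.strong_induction_on generalizing G with
  | h n ih =>
  by_cases hN1 : N = ⊥
  · intro x hx y hy
    rw [hN1, Subgroup.mem_bot] at hx hy
    simp [hx, hy]
  let W : Subgroup G :=
    { carrier := {x | x ∈ N ∧ x * x = 1 ∧ ∀ y ∈ N, x * y = y * x}
      one_mem' := ⟨N.one_mem, one_mul 1, fun y _ => by simp⟩
      mul_mem' := fun {a b} ha hb => ⟨mul_mem ha.1 hb.1, by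
        rw [mul_assoc, ← mul_assoc b, ← ha.2.2 b hb.1, mul_assoc, hb.2.1, mul_one, ha.2.1], fun y hy => by
        rw [mul_assoc, hb.2.2 y hy, ← mul_assoc, ha.2.2 y hy, mul_assoc]⟩
      inv_mem' := fun {a} ha => by rwa [inv_eq_of_mul_eq_one_right ha.2.1] }
  have hW : ∀ x, x ∈ W ↔ x ∈ N ∧ x * x = 1 ∧ ∀ y ∈ N, x * y = y * x := fun x => Iff.rfl
  have hWN : W ≤ N := fun x hx => hx.1
  haveI hWn : W.Normal := ⟨fun x hx g => ⟨hnorm.conj_mem x hx.1 g, by
    rw [conj_mul, hx.2.1, mul_one, mul_inv_cancel], fun y hy => by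
    have h := hx.2.2 (g⁻¹ * y * g) (by simpa using hnorm.conj_mem y hy g⁻¹)
    calc g * x * g⁻¹ * y = g * (x * (g⁻¹ * y * g)) * g⁻¹ := by group
      _ = g * ((g⁻¹ * y * g) * x) * g⁻¹ := by rw [h]
      _ = _ := by group⟩⟩
  have hW1 : W ≠ ⊥ := by
    haveI : Fact (Nat.Prime 2) := ⟨Nat.prime_two⟩
    haveI : Nontrivial N := (Subgroup.nontrivial_iff_ne_bot N).2 hN1
    haveI := hN.center_nontrivial
    obtain ⟨k, hk⟩ := (hN.to_subgroup (Subgroup.center N)).exists_card_eq
    have h2 : 2 ∣ Nat.card (Subgroup.center N) := by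
      rw [hk]
      refine dvd_pow_self 2 fun e => ?_
      rw [e, pow_zero] at hk
      exact absurd hk (Finite.one_lt_card (α := Subgroup.center N)).ne'
    obtain ⟨z, hz⟩ := exists_prime_orderOf_dvd_card' 2 h2
    intro hbot
    have hzW : ((z : N) : G) ∈ W := ⟨(z : N).2, by
      have := pow_orderOf_eq_one z
      rw [hz, sq] at this
      exact congrArg (fun a : Subgroup.center N => ((a : N) : G)) this,
      fun y hy => (congrArg Subtype.val (Subgroup.mem_center_iff.1 z.2 ⟨y, hy⟩)).symm⟩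
    rw [hbot, Subgroup.mem_bot] at hzW
    have hz1 : z = 1 := Subtype.ext (Subtype.ext hzW)
    rw [hz1, orderOf_one] at hz
    exact absurd hz (by norm_num)
  -- the quotient by the central elementary part
  let π := QuotientGroup.mk' W
  let N' : Subgroup (G ⧸ W) := N.map π
  haveI : N'.Normal := Subgroup.Normal.map hnorm π (QuotientGroup.mk'_surjective W)
  have hcard' : Nat.card (G ⧸ W) < n := by
    rw [← hcard, W.card_eq_card_quotient_mul_card_subgroup]
    exact lt_mul_of_one_lt_right Nat.card_pos ((Subgroup.one_lt_card_iff_ne_bot W).2 hW1)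
  let e' : (G ⧸ W) ⧸ N' ≃* Cfsg.Sz F m := (QuotientGroup.quotientQuotientEquivQuotient W N hWN).trans e
  have hcen : ∀ w ∈ W, ∀ y ∈ N, w * y = y * w := fun w hw => hw.2.2
  have hfpf' : Fpf N' := by
    intro g' ho hg' x' hx' hfix
    obtain ⟨g₀, rfl⟩ := QuotientGroup.mk'_surjective W g'
    obtain ⟨g, hg, hgo⟩ := odd_lift π g₀ ho
    rw [← hg] at hg' hfix
    obtain ⟨x, hx, rfl⟩ := hx'
    have hd : g * x * g⁻¹ * x⁻¹ ∈ W := by
      rw [← QuotientGroup.eq_one_iff]
      show π (g * x * g⁻¹ * x⁻¹) = 1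
      rw [map_mul, map_mul, map_mul, map_inv, map_inv, hfix]
      group
    have hg1 : g ≠ 1 := fun h => hg' (by rw [h, map_one])
    let d : W → W := fun w => ⟨g * w * g⁻¹ * (w : G)⁻¹, mul_mem (hWn.conj_mem _ w.2 g) (inv_mem w.2)⟩
    have hd_inj : Function.Injective d := by
      intro a b hab
      have h : g * (a : G) * g⁻¹ * (a : G)⁻¹ = g * (b : G) * g⁻¹ * (b : G)⁻¹ := congrArg Subtype.val hab
      refine Subtype.ext (inv_mul_eq_one.1 (hfpf g hgo hg1 _ (hWN (mul_mem (inv_mem a.2) b.2)) ?_))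
      rw [← mul_inv_eq_iff_eq_mul]
      have hb : g * (b : G) * g⁻¹ = (g * (a : G) * g⁻¹ * (a : G)⁻¹) * b := by rw [h]; group
      calc g * ((a : G)⁻¹ * b) * g⁻¹ = (g * (a : G) * g⁻¹)⁻¹ * (g * b * g⁻¹) := by group
        _ = _ := by rw [hb]; group
    obtain ⟨w, hw⟩ := (Finite.injective_iff_surjective.1 hd_inj) ⟨_, hd⟩
    have hw' : g * (w : G) * g⁻¹ * (w : G)⁻¹ = g * x * g⁻¹ * x⁻¹ := congrArg Subtype.val hw
    have hwx : (w : G)⁻¹ * x = 1 := by
      refine hfpf g hgo hg1 _ (mul_mem (inv_mem (hWN w.2)) hx) ?_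
      rw [← mul_inv_eq_iff_eq_mul]
      have hx2 : g * x * g⁻¹ = (g * (w : G) * g⁻¹ * (w : G)⁻¹) * x := by rw [hw']; group
      calc g * ((w : G)⁻¹ * x) * g⁻¹ = (g * (w : G) * g⁻¹)⁻¹ * (g * x * g⁻¹) := by group
        _ = _ := by rw [hx2]; group
    show π x = 1
    rw [← inv_mul_eq_one.1 hwx]
    exact (QuotientGroup.eq_one_iff _).2 w.2
  have hN' : IsPGroup 2 N' := hN.map π
  have hel := ih _ hcard' N' hN' e' hfpf' rfl
  have hsqW : ∀ x ∈ N, x * x ∈ W := fun x hx => by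
    rw [← QuotientGroup.eq_one_iff]
    exact (hel _ ⟨x, hx, rfl⟩ _ ⟨x, hx, rfl⟩).2
  have hcW : ∀ x ∈ N, ∀ y ∈ N, x * y * x⁻¹ * y⁻¹ ∈ W := fun x hx y hy => by
    rw [← QuotientGroup.eq_one_iff]
    show π _ = 1
    rw [map_mul, map_mul, map_mul, map_inv, map_inv, (hel _ ⟨x, hx, rfl⟩ _ ⟨y, hy, rfl⟩).1]
    group
  -- additive models
  letI : CommGroup W := { (inferInstance : Group W) with
    mul_comm := fun a b => Subtype.ext (hcen a a.2 b (hWN b.2)) }
  letI : CommGroup N' := { (inferInstance : Group N') with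
    mul_comm := fun a b => Subtype.ext (hel a a.2 b b.2).1 }
  letI : Module (ZMod 2) (Additive W) := AddCommGroup.zmodModule fun a => by
    rw [two_nsmul]; exact Subtype.ext ((a.toMul).2.2.1)
  letI : Module (ZMod 2) (Additive N') := AddCommGroup.zmodModule fun a => by
    rw [two_nsmul]; exact Subtype.ext ((hel _ (a.toMul).2 _ (a.toMul).2).2)
  obtain ⟨ρW, hρW, hNW⟩ := exists_conjRep N e (V := Additive W) (fun a => ((a.toMul : W) : G))
    (fun a b h => Additive.toMul.injective (Subtype.ext h)) (fun _ _ => rfl)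
    (fun g v => ⟨Additive.ofMul ⟨_, hWn.conj_mem _ (v.toMul).2 g⟩, rfl⟩)
    (fun k hk v => (hcen _ (v.toMul).2 k hk).symm)
    (fun g ho hg v h => Additive.toMul.injective (Subtype.ext (hfpf g ho hg _ (hWN (v.toMul).2) h)))
  obtain ⟨ρV, hρV, hNV⟩ := exists_conjRep N' e' (V := Additive N') (fun a => ((a.toMul : N') : G ⧸ W))
    (fun a b h => Additive.toMul.injective (Subtype.ext h)) (fun _ _ => rfl)
    (fun g v => ⟨Additive.ofMul ⟨_, ‹N'.Normal›.conj_mem _ (v.toMul).2 g⟩, rfl⟩)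
    (fun k hk v => (hel k hk _ (v.toMul).2).1)
    (fun g ho hg v h => Additive.toMul.injective (Subtype.ext (hfpf' g ho hg _ (v.toMul).2 h)))
  -- the commutator pairing
  have hbr : ∀ a ∈ W, ∀ x ∈ N, ∀ y ∈ N, (x * a) * y * (x * a)⁻¹ * y⁻¹ = x * y * x⁻¹ * y⁻¹ := fun a ha x hx y hy => by
    calc x * a * y * (x * a)⁻¹ * y⁻¹ = x * (a * y) * a⁻¹ * x⁻¹ * y⁻¹ := by group
      _ = _ := by rw [hcen a ha y hy]; group
  have hbr2 : ∀ a ∈ W, ∀ x ∈ N, ∀ y ∈ N, x * (y * a) * x⁻¹ * (y * a)⁻¹ = x * y * x⁻¹ * y⁻¹ := fun a ha x hx y hy => by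
    calc x * (y * a) * x⁻¹ * (y * a)⁻¹ = x * y * (a * x⁻¹) * a⁻¹ * y⁻¹ := by group
      _ = _ := by rw [hcen a ha _ (inv_mem hx)]; group
  have hlift : ∀ v : Additive N', ∃ x ∈ N, π x = ((v.toMul : N') : G ⧸ W) := fun v => (v.toMul).2
  choose lx hlxN hlx using hlift
  let br : Additive N' → Additive N' → Additive W := fun u v =>
    Additive.ofMul ⟨_, hcW _ (hlxN u) _ (hlxN v)⟩
  have hbr_eq : ∀ (u v : Additive N') x y, x ∈ N → y ∈ N → π x = ((u.toMul : N') : G ⧸ W) →
      π y = ((v.toMul : N') : G ⧸ W) → (((br u v).toMul : W) : G) = x * y * x⁻¹ * y⁻¹ := by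
    intro u v x y hx hy hxu hyv
    have ha : x⁻¹ * lx u ∈ W := QuotientGroup.eq.1 (hxu.trans (hlx u).symm)
    have hb : y⁻¹ * lx v ∈ W := QuotientGroup.eq.1 (hyv.trans (hlx v).symm)
    show lx u * lx v * (lx u)⁻¹ * (lx v)⁻¹ = _
    have h1 := hbr _ ha x hx (lx v) (hlxN v)
    rw [mul_inv_cancel_left] at h1
    have h2 := hbr2 _ hb x hx y hy
    rw [mul_inv_cancel_left] at h2
    rw [h1, h2]
  have hadd1 : ∀ u u' v, br (u + u') v = br u v + br u' v := fun u u' v => by
    refine Additive.toMul.injective (Subtype.ext ?_)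
    rw [hbr_eq (u + u') v (lx u * lx u') (lx v) (mul_mem (hlxN u) (hlxN u')) (hlxN v)
      (by rw [map_mul, hlx, hlx]; rfl) (hlx v)]
    show _ = (lx u * lx v * (lx u)⁻¹ * (lx v)⁻¹) * (lx u' * lx v * (lx u')⁻¹ * (lx v)⁻¹)
    have hc := hcW _ (hlxN u') _ (hlxN v)
    calc lx u * lx u' * lx v * (lx u * lx u')⁻¹ * (lx v)⁻¹
        = lx u * ((lx u' * lx v * (lx u')⁻¹ * (lx v)⁻¹) * (lx v * (lx u)⁻¹ * (lx v)⁻¹)) := by group
      _ = lx u * ((lx v * (lx u)⁻¹ * (lx v)⁻¹) * (lx u' * lx v * (lx u')⁻¹ * (lx v)⁻¹)) := by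
          rw [hcen _ hc _ (mul_mem (mul_mem (hlxN v) (inv_mem (hlxN u))) (inv_mem (hlxN v)))]
      _ = _ := by group
  have hadd2 : ∀ u v v', br u (v + v') = br u v + br u v' := fun u v v' => by
    refine Additive.toMul.injective (Subtype.ext ?_)
    rw [hbr_eq u (v + v') (lx u) (lx v * lx v') (hlxN u) (mul_mem (hlxN v) (hlxN v')) (hlx u)
      (by rw [map_mul, hlx, hlx]; rfl)]
    show _ = (lx u * lx v * (lx u)⁻¹ * (lx v)⁻¹) * (lx u * lx v' * (lx u)⁻¹ * (lx v')⁻¹)
    have hc := hcW _ (hlxN u) _ (hlxN v')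
    calc lx u * (lx v * lx v') * (lx u)⁻¹ * (lx v * lx v')⁻¹
        = (lx u * lx v * (lx u)⁻¹) * (lx u * lx v' * (lx u)⁻¹ * (lx v')⁻¹) * (lx v)⁻¹ := by group
      _ = (lx u * lx v * (lx u)⁻¹) * ((lx v)⁻¹ * (lx u * lx v' * (lx u)⁻¹ * (lx v')⁻¹)) := by
          rw [mul_assoc, hcen _ hc _ (inv_mem (hlxN v))]
      _ = _ := by group
  let β : LinearMap.BilinMap (ZMod 2) (Additive N') (Additive W) :=
    (AddMonoidHom.mk' (fun u => (AddMonoidHom.mk' (br u) (hadd2 u)).toZModLinearMap 2)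
      (fun u u' => LinearMap.ext fun v => hadd1 u u' v)).toZModLinearMap 2
  have hequiv : ∀ s u v, β (ρV s u) (ρV s v) = ρW s (β u v) := fun s u v => by
    obtain ⟨g, hg⟩ : ∃ g : G, e (QuotientGroup.mk g) = s :=
      ⟨(e.symm s).out, by rw [QuotientGroup.out_eq', e.apply_symm_apply]⟩
    have hg' : e' (QuotientGroup.mk (π g)) = s := hg
    refine Additive.toMul.injective (Subtype.ext ?_)
    show (((br (ρV s u) (ρV s v)).toMul : W) : G) = _
    rw [hbr_eq _ _ (g * lx u * g⁻¹) (g * lx v * g⁻¹) (hnorm.conj_mem _ (hlxN u) g) (hnorm.conj_mem _ (hlxN v) g)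
      (by rw [map_mul, map_mul, map_inv, hlx, ← hg']; exact (hρV (π g) u).symm)
      (by rw [map_mul, map_mul, map_inv, hlx, ← hg']; exact (hρV (π g) v).symm), ← hg]
    refine Eq.trans ?_ (hρW g (β u v)).symm
    show _ = g * (lx u * lx v * (lx u)⁻¹ * (lx v)⁻¹) * g⁻¹
    group
  letI : Algebra (ZMod 2) F := ZMod.algebra F 2
  haveI : Fact (Nat.Prime 2) := ⟨Nat.prime_two⟩
  obtain ⟨σV, hσV, hNσV⟩ := Norm0.baseChange (F := F) ρV hNV
  obtain ⟨σW, hσW, hNσW⟩ := Norm0.baseChange (F := F) ρW hNW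
  have hz : β.baseChange F = 0 := pairing_zero Q hNσV hNσV hNσW (β.baseChange F) fun s x y => by
    induction x using TensorProduct.induction_on with
    | zero => simp
    | add a b ha hb => simp only [map_add, LinearMap.add_apply, ha, hb]
    | tmul a u =>
      induction y using TensorProduct.induction_on with
      | zero => simp
      | add c d hc hd => simp only [map_add, hc, hd]
      | tmul b v =>
        rw [hσV, hσV, LinearMap.BilinMap.baseChange_tmul, LinearMap.BilinMap.baseChange_tmul, hσW, hequiv]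
  obtain ⟨φ, hφ⟩ := Module.Projective.exists_dual_ne_zero (ZMod 2) (x := (1 : F)) one_ne_zero
  have hφ1 : φ 1 = 1 := two_values _ hφ
  have hab : ∀ x ∈ N, ∀ y ∈ N, x * y = y * x := by
    intro x hx y hy
    let u : Additive N' := Additive.ofMul ⟨π x, x, hx, rfl⟩
    let v : Additive N' := Additive.ofMul ⟨π y, y, hy, rfl⟩
    have h := LinearMap.congr_fun₂ hz ((1 : F) ⊗ₜ[ZMod 2] u) ((1 : F) ⊗ₜ[ZMod 2] v)
    rw [LinearMap.BilinMap.baseChange_tmul, mul_one, LinearMap.zero_apply, LinearMap.zero_apply] at h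
    have h' := congrArg (fun z => TensorProduct.lid (ZMod 2) (Additive W) (LinearMap.rTensor (Additive W) φ z)) h
    simp only [LinearMap.rTensor_tmul, TensorProduct.lid_tmul, map_zero, hφ1, one_smul] at h'
    have h1 := hbr_eq u v x y hx hy rfl rfl
    have h2 : br u v = 0 := h'
    rw [h2] at h1
    exact mul_inv_eq_iff_eq_mul.1 (mul_inv_eq_one.1 h1.symm)
  intro x hx y hy
  refine ⟨hab x hx y hy, ?_⟩
  letI : CommGroup N := { (inferInstance : Group N) with
    mul_comm := fun a b => Subtype.ext (hab a a.2 b b.2) }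
  obtain ⟨ρN, hρN, hNN⟩ := exists_conjRep N e (V := Additive N) (fun a => ((a.toMul : N) : G))
    (fun a b h => Additive.toMul.injective (Subtype.ext h)) (fun _ _ => rfl)
    (fun g v => ⟨Additive.ofMul ⟨_, hnorm.conj_mem _ (v.toMul).2 g⟩, rfl⟩)
    (fun k hk v => hab k hk _ (v.toMul).2)
    (fun g ho hg v h => Additive.toMul.injective (Subtype.ext (hfpf g ho hg _ (v.toMul).2 h)))
  have h := two_smul_zero Q (A := Additive N) (fun a => by
    rw [show (4 : ℕ) = 2 * 2 from rfl, mul_smul, two_nsmul a, two_nsmul]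
    exact Subtype.ext (hsqW _ (a.toMul).2).2.1) ρN hNN (Additive.ofMul ⟨x, hx⟩)
  rw [two_nsmul] at h
  exact congrArg (fun a : Additive N => ((a.toMul : N) : G)) h

end Cfsg.Lib.CNStructure
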