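import Cfsg.Agent.CNStructure.Elems
import Mathlib.Algebra.CharP.Lemmas

/-!
Tensor products of Galois twists of the natural module of a Suzuki group: the vectors fixed by the unipotent
group form a line, and a product of two or more twists is not fixed-point-free.
-/

set_option autoImplicit false
set_option linter.unusedSectionVars false
set_option linter.unusedSimpArgs false
set_option linter.style.haveILetI false

open Matrix

namespace Cfsg.Lib.CNStructure

open Cfsg.Lib.Suz

variable {F : Type*} [Field F] [Fintype F] [CharP F 2] {m : ℕ}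

/-- The Galois twist. -/
noncomputable def tw (i : ℕ) : F →+* F :=
  haveI : ExpChar F 2 := ExpChar.prime Nat.prime_two
  iterateFrobenius F 2 i

theorem tw_apply (i : ℕ) (x : F) : tw i x = x ^ 2 ^ i := by
  haveI : ExpChar F 2 := ExpChar.prime Nat.prime_two
  exact iterateFrobenius_def 2 i x

/-- The index set of a product of twists. -/
abbrev Idx (S : Finset (Fin (2 * m + 1))) : Type := ↥S → Fin 4

/-- The Kronecker product of the twisted matrices. -/
noncomputable def kron (S : Finset (Fin (2 * m + 1))) (A : Matrix (Fin 4) (Fin 4) F) :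
    Matrix (Idx S) (Idx S) F :=
  Matrix.of fun y x => ∏ i : ↥S, tw (i : ℕ) (A (y i) (x i))

theorem kron_mul (S : Finset (Fin (2 * m + 1))) (A B : Matrix (Fin 4) (Fin 4) F) :
    kron S (A * B) = kron S A * kron S B := by
  classical
  ext y x
  simp only [kron, Matrix.of_apply, Matrix.mul_apply]
  rw [Finset.prod_congr rfl fun (i : ↥S) _ =>
    (map_sum (tw (F := F) (i : ℕ)) (fun j => A (y i) j * B j (x i)) Finset.univ)]
  rw [Fintype.prod_sum]
  refine Finset.sum_congr rfl fun z _ => ?_
  simp only [map_mul]
  exact Finset.prod_mul_distrib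

theorem kron_one (S : Finset (Fin (2 * m + 1))) : kron S (1 : Matrix (Fin 4) (Fin 4) F) = 1 := by
  classical
  ext y x
  simp only [kron, Matrix.of_apply, Matrix.one_apply]
  by_cases h : y = x
  · subst h
    simp
  · rw [if_neg h]
    obtain ⟨i, hi⟩ := Function.ne_iff.1 h
    exact Finset.prod_eq_zero (Finset.mem_univ i) (by rw [if_neg hi, map_zero])

variable (Q : Par F m)

/-- A product of twists of the natural module. -/
noncomputable def tensor (_ : Par F m) (S : Finset (Fin (2 * m + 1))) :
    Representation F (Cfsg.Sz F m) (Idx S → F) where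
  toFun g := (kron S g.1.1).mulVecLin
  map_one' := by
    rw [show (1 : Cfsg.Sz F m).1.1 = (1 : Matrix (Fin 4) (Fin 4) F) from rfl, kron_one, Matrix.mulVecLin_one]
    rfl
  map_mul' g h := by
    rw [show (g * h).1.1 = g.1.1 * h.1.1 from rfl, kron_mul, Matrix.mulVecLin_mul]
    rfl

theorem tensor_apply (S : Finset (Fin (2 * m + 1))) (g : Cfsg.Sz F m) (w : Idx S → F) (y : Idx S) :
    tensor Q S g w y = ∑ x, (∏ i : ↥S, tw (i : ℕ) (g.1.1 (y i) (x i))) * w x := rfl

/-- The highest vector. -/
noncomputable def top (S : Finset (Fin (2 * m + 1))) : Idx S → F :=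
  fun x => if x = (fun _ => 0) then 1 else 0

theorem tensor_top (S : Finset (Fin (2 * m + 1))) (g : Cfsg.Sz F m) (y : Idx S) :
    tensor Q S g (top S) y = ∏ i : ↥S, tw (i : ℕ) (g.1.1 (y i) 0) := by
  classical
  rw [tensor_apply, Finset.sum_eq_single (fun _ => 0)]
  · simp [top]
  · intro x _ hx
    simp [top, hx]
  · simp

theorem top_ne (S : Finset (Fin (2 * m + 1))) : top (F := F) S ≠ 0 := fun h => by
  simpa [top] using congrFun h (fun _ => 0)

theorem top_fixed (S : Finset (Fin (2 * m + 1))) (a b : F) :
    tensor Q S (uu Q a b) (top S) = top S := by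
  classical
  funext y
  rw [tensor_top]
  show ∏ i : ↥S, tw (i : ℕ) (Tmat m a b (y i) 0) = _
  have hcol : ∀ r : Fin 4, Tmat m a b r 0 = if r = 0 then 1 else 0 := fun r => by
    fin_cases r <;> simp [Tmat]
  by_cases hy : y = fun _ => 0
  · subst hy
    simp [top, hcol]
  · obtain ⟨i, hi⟩ := Function.ne_iff.1 hy
    rw [Finset.prod_eq_zero (Finset.mem_univ i) (by rw [hcol, if_neg hi, map_zero])]
    simp [top, hy]

/-- The exponent of the weight of the highest vector. -/
def topExp (S : Finset (Fin (2 * m + 1))) : ℕ := (2 ^ m + 1) * ∑ i ∈ S, 2 ^ (i : ℕ)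

theorem top_weight (S : Finset (Fin (2 * m + 1))) (k : Fˣ) :
    tensor Q S (hI Q k) (top S) = ((k ^ topExp S : Fˣ) : F) • top S := by
  classical
  funext y
  rw [tensor_top, Pi.smul_apply]
  have hcol : ∀ r : Fin 4, (hI Q k).1.1 r 0 = if r = 0 then ((k ^ (hh m + 1) : Fˣ) : F) else 0 := fun r => by
    fin_cases r <;> simp [hI, H]
  by_cases hy : y = fun _ => 0
  · subst hy
    simp only [hcol, if_pos, tw_apply]
    rw [show (∏ i : ↥S, (((k ^ (hh m + 1) : Fˣ) : F)) ^ 2 ^ ((i : Fin (2 * m + 1)) : ℕ)) =
      ((k ^ topExp S : Fˣ) : F) by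
        rw [Finset.prod_pow_eq_pow_sum, Units.val_pow_eq_pow_val, Units.val_pow_eq_pow_val, ← pow_mul,
          Finset.sum_coe_sort S (fun i => 2 ^ (i : ℕ))]
        rfl]
    simp [top]
  · obtain ⟨i, hi⟩ := Function.ne_iff.1 hy
    rw [Finset.prod_eq_zero (Finset.mem_univ i) (by rw [hcol, if_neg hi, map_zero])]
    simp [top, hy]

/-- The grade of an index. -/
def grade {S : Finset (Fin (2 * m + 1))} (x : Idx S) : ℕ := ∑ i : ↥S, (x i : ℕ)

/-- Raise a coordinate. -/
def up (d : ℕ) (r : Fin 4) : Fin 4 := ⟨min ((r : ℕ) + d) 3, by omega⟩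

/-- The expansion of an upper unitriangular Kronecker product near the top grade. -/
theorem expand {S : Finset (Fin (2 * m + 1))} {A : Matrix (Fin 4) (Fin 4) F} {d : ℕ} (hd : 0 < d)
    (hdiag : ∀ r, A r r = 1) (hlow : ∀ r c : Fin 4, r ≠ c → (c : ℕ) < (r : ℕ) + d → A r c = 0)
    {w : Idx S → F} (hw : (kron S A).mulVec w = w) (y : Idx S)
    (htop : ∀ x, grade y + d < grade x → w x = 0) :
    ∑ i : ↥S, (if (y i : ℕ) + d ≤ 3 then tw (i : ℕ) (A (y i) (up d (y i))) else 0) *
      w (Function.update y i (up d (y i))) = 0 := by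
  classical
  have h := congrFun hw y
  simp only [Matrix.mulVec, dotProduct, kron, Matrix.of_apply] at h
  set f : Idx S → F := fun x => (∏ i : ↥S, tw (i : ℕ) (A (y i) (x i))) * w x with hf
  set I := Finset.univ.filter fun i : ↥S => (y i : ℕ) + d ≤ 3
  have hupv : ∀ i ∈ I, ((up d (y i) : Fin 4) : ℕ) = (y i : ℕ) + d := fun i hi => by
    have := (Finset.mem_filter.1 hi).2
    simp only [up]
    omega
  have hne : ∀ i ∈ I, up d (y i) ≠ y i := fun i hi e => by
    have := hupv i hi
    rw [e] at this
    omega
  have hzero : ∀ x, x ≠ y → x ∉ I.image (fun i => Function.update y i (up d (y i))) → f x = 0 := by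
    intro x hxy hx
    by_contra hne0
    obtain ⟨hp, hwx⟩ := mul_ne_zero_iff.1 hne0
    rw [Finset.prod_ne_zero_iff] at hp
    have hstep : ∀ i, x i = y i ∨ (y i : ℕ) + d ≤ (x i : ℕ) := fun i => by
      by_contra hc
      push Not at hc
      exact hp i (Finset.mem_univ i) (by rw [hlow _ _ (Ne.symm hc.1) hc.2, map_zero])
    have hg : grade x ≤ grade y + d := by
      by_contra hc
      exact hwx (htop x (by omega))
    obtain ⟨i, hi⟩ := Function.ne_iff.1 hxy
    have hrest : ∀ j, j ≠ i → x j = y j := by
      intro j hji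
      by_contra hj
      have h1 := (hstep i).resolve_left hi
      have h2 := (hstep j).resolve_left hj
      have hs : ∀ k ∈ (Finset.univ : Finset ↥S), (y k : ℕ) + (if k = i then d else 0) + (if k = j then d else 0) ≤ (x k : ℕ) := by
        intro k _
        by_cases hk1 : k = i
        · subst hk1
          simp [Ne.symm hji]
          omega
        by_cases hk2 : k = j
        · subst hk2
          simp [hk1]
          omega
        simp only [if_neg hk1, if_neg hk2, add_zero]
        rcases hstep k with e | e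
        · rw [e]
        · omega
      have := Finset.sum_le_sum hs
      rw [Finset.sum_add_distrib, Finset.sum_add_distrib, Finset.sum_ite_eq' Finset.univ i,
        Finset.sum_ite_eq' Finset.univ j] at this
      simp only [Finset.mem_univ, if_true] at this
      simp only [grade] at hg
      omega
    have hx' : x = Function.update y i (x i) := by
      funext j
      by_cases hj : j = i
      · subst hj; simp
      · simp [hj, hrest j hj]
    have h1 := (hstep i).resolve_left hi
    have hgr : grade x + (y i : ℕ) = grade y + (x i : ℕ) := by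
      simp only [grade]
      rw [← Finset.add_sum_erase _ _ (Finset.mem_univ i),
        ← Finset.add_sum_erase _ (fun k => (y k : ℕ)) (Finset.mem_univ i),
        Finset.sum_congr rfl fun j hj => congrArg Fin.val (hrest j (Finset.ne_of_mem_erase hj))]
      omega
    have hxi : (x i : ℕ) = (y i : ℕ) + d := by omega
    have hiI : i ∈ I := Finset.mem_filter.2 ⟨Finset.mem_univ i, by have := (x i).isLt; omega⟩
    refine hx (Finset.mem_image.2 ⟨i, hiI, ?_⟩)
    rw [hx', show up d (y i) = x i from Fin.ext (by rw [hupv i hiI, hxi])]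
    try simp
  have hinj : Set.InjOn (fun i => Function.update y i (up d (y i))) (I : Set ↥S) := by
    intro i hi j hj e
    by_contra hij
    have := congrFun e i
    simp only [Function.update_self, Function.update_of_ne hij] at this
    exact hne i hi this
  have hynot : y ∉ I.image (fun i => Function.update y i (up d (y i))) := by
    intro hy
    obtain ⟨i, hi, e⟩ := Finset.mem_image.1 hy
    have := congrFun e i
    rw [Function.update_self] at this
    exact hne i hi this
  rw [← Finset.sum_subset (Finset.subset_univ (insert y (I.image fun i => Function.update y i (up d (y i)))))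
      (fun x _ hx => hzero x (fun e => hx (e ▸ Finset.mem_insert_self _ _))
        (fun e => hx (Finset.mem_insert_of_mem e))),
    Finset.sum_insert hynot, Finset.sum_image hinj] at h
  have hy1 : (∏ i : ↥S, tw (i : ℕ) (A (y i) (y i))) = 1 := by simp [hdiag]
  simp only [hf] at h
  rw [hy1, one_mul, add_eq_left] at h
  refine Eq.trans ?_ h
  rw [Finset.sum_filter]
  refine Finset.sum_congr rfl fun i _ => ?_
  by_cases hi : (y i : ℕ) + d ≤ 3
  · rw [if_pos hi, if_pos hi]
    congr 1
    rw [Finset.prod_eq_single i]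
    · simp
    · intro j _ hj
      simp [Function.update_of_ne hj, hdiag]
    · simp
  · simp [hi]

theorem sep (S : Finset (Fin (2 * m + 1))) (c : ↥S → F) (hQ : Par F m)
    (h : ∀ x : F, ∑ i : ↥S, c i * x ^ 2 ^ ((i : Fin (2 * m + 1)) : ℕ) = 0) : ∀ i, c i = 0 := by
  classical
  let c' : Fin (2 * m + 1) → F := fun i => if hi : i ∈ S then c ⟨i, hi⟩ else 0
  have h' := coeff_zero_of_eval c' (fun i => 2 ^ (i : ℕ))
    (fun i j e => Fin.ext (Nat.pow_right_injective le_rfl e))
    (fun i => by rw [hQ.hF]; exact Nat.pow_lt_pow_right (by norm_num) i.isLt) (fun x => by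
      rw [← Finset.sum_subset (Finset.subset_univ S) (fun i _ hi => by simp [c', hi]),
        ← Finset.sum_coe_sort S]
      refine Eq.trans ?_ (h x)
      exact Finset.sum_congr rfl fun i _ => by simp [c', i.2])
  intro i
  have := h' i
  simpa [c', i.2] using this

/-- The fixed vectors of the unipotent group. -/
theorem fixed_line (S : Finset (Fin (2 * m + 1))) {w : Idx S → F}
    (hw : ∀ a b, tensor Q S (uu Q a b) w = w) : w = w (fun _ => 0) • top S := by
  classical
  suffices key : ∀ x : Idx S, x ≠ (fun _ => 0) → w x = 0 by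
    funext x
    by_cases hx : x = fun _ => 0
    · simp [top, hx]
    · simp [top, hx, key x hx]
  by_contra hcon
  push Not at hcon
  obtain ⟨x₁, hx₁, hwx₁⟩ := hcon
  obtain ⟨x₀, hx₀, hmax⟩ := Finset.exists_max_image
    (Finset.univ.filter fun x : Idx S => x ≠ (fun _ => 0) ∧ w x ≠ 0) grade
    ⟨x₁, Finset.mem_filter.2 ⟨Finset.mem_univ _, hx₁, hwx₁⟩⟩
  obtain ⟨-, hx₀0, hwx₀⟩ := Finset.mem_filter.1 hx₀
  have hbig : ∀ x, grade x₀ < grade x → w x = 0 := fun x hx => by
    by_contra h
    have hx0 : x ≠ fun _ => 0 := fun e => by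
      rw [e] at hx
      simp [grade] at hx
    exact absurd (hmax x (Finset.mem_filter.2 ⟨Finset.mem_univ _, hx0, h⟩)) (by omega)
  have hTd : ∀ (a b : F) r, Tmat m a b r r = 1 := fun a b r => by fin_cases r <;> simp [Tmat]
  have hgu : ∀ (y : Idx S) (i : ↥S) (r : Fin 4), grade (Function.update y i r) + (y i : ℕ) = grade y + (r : ℕ) := by
    intro y i r
    simp only [grade]
    rw [← Finset.add_sum_erase _ _ (Finset.mem_univ i),
      ← Finset.add_sum_erase _ (fun k => (y k : ℕ)) (Finset.mem_univ i), Function.update_self,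
      Finset.sum_congr rfl fun j hj => congrArg Fin.val (Function.update_of_ne (β := fun _ => Fin 4) (Finset.ne_of_mem_erase hj) r y)]
    omega
  -- the centre kills coordinates of at least two
  have hsmall : ∀ x, grade x = grade x₀ → ∀ j, 2 ≤ (x j : ℕ) → w x = 0 := by
    intro x hx j hj
    set y := Function.update x j (⟨(x j : ℕ) - 2, by omega⟩ : Fin 4) with hy
    have hyj : (y j : ℕ) = (x j : ℕ) - 2 := by rw [hy, Function.update_self]
    have hgy : grade y + 2 = grade x₀ := by
      have := hgu x j ⟨(x j : ℕ) - 2, by omega⟩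
      rw [← hy] at this
      simp only at this
      omega
    have heq : ∀ b : F, ∑ i : ↥S, (if (y i : ℕ) + 2 ≤ 3 then w (Function.update y i (up 2 (y i))) else 0) *
        b ^ 2 ^ ((i : Fin (2 * m + 1)) : ℕ) = 0 := by
      intro b
      have h := expand (d := 2) two_pos (hTd 0 b) (fun r c hrc hlt => by
        fin_cases r <;> fin_cases c <;> simp [Tmat] at hrc hlt ⊢) (hw 0 b) y (fun x hx => hbig x (by omega))
      refine Eq.trans ?_ h
      refine Finset.sum_congr rfl fun i _ => ?_
      by_cases hi : (y i : ℕ) + 2 ≤ 3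
      · rw [if_pos hi, if_pos hi, mul_comm, tw_apply]
        congr 2
        have : (y i : ℕ) = 0 ∨ (y i : ℕ) = 1 := by omega
        rcases this with e | e
        · rw [show y i = 0 from Fin.ext e]
          simp [Tmat, up, zero_pow (Nat.succ_ne_zero _)]
        · rw [show y i = 1 from Fin.ext e]
          simp [Tmat, up]
      · simp [hi]
    have := sep S _ Q heq j
    have hxj : (x j : ℕ) ≤ 3 := Nat.le_of_lt_succ (x j).isLt
    rw [if_pos (by omega)] at this
    rwa [show Function.update y j (up 2 (y j)) = x by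
      rw [hy, Function.update_idem]
      refine Function.update_eq_self_iff.2 (Fin.ext ?_)
      simp [up]
      omega] at this
  -- the first layer kills the rest
  obtain ⟨j, hj⟩ := Function.ne_iff.1 hx₀0
  have hj1 : (x₀ j : ℕ) = 1 := by
    have h0 : (x₀ j : ℕ) ≠ 0 := fun e => hj (Fin.ext e)
    by_contra hne
    exact hwx₀ (hsmall x₀ rfl j (by omega))
  set y := Function.update x₀ j (0 : Fin 4) with hy
  have hgy : grade y + 1 = grade x₀ := by
    have := hgu x₀ j 0
    rw [← hy] at this
    simp only [Fin.val_zero] at this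
    omega
  have heq : ∀ a : F, ∑ i : ↥S, (if (y i : ℕ) = 0 then w (Function.update y i 1) else 0) *
      a ^ 2 ^ ((i : Fin (2 * m + 1)) : ℕ) = 0 := by
    intro a
    have h := expand (d := 1) one_pos (hTd a 0) (fun r c hrc hlt => by
      fin_cases r <;> fin_cases c <;> simp [Tmat] at hrc hlt ⊢) (hw a 0) y (fun x hx => hbig x (by omega))
    refine Eq.trans ?_ h
    refine Finset.sum_congr rfl fun i _ => ?_
    by_cases h0 : (y i : ℕ) = 0
    · rw [if_pos h0, if_pos (by omega), mul_comm, tw_apply, show y i = 0 from Fin.ext h0]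
      simp [Tmat, up]
    · rw [if_neg h0, zero_mul]
      by_cases hi : (y i : ℕ) + 1 ≤ 3
      · rw [hsmall (Function.update y i (up 1 (y i))) ?_ i ?_, mul_zero]
        · have := hgu y i (up 1 (y i))
          simp only [up] at this ⊢
          omega
        · rw [Function.update_self]
          simp only [up]
          omega
      · rw [if_neg hi, zero_mul]
  have := sep S _ Q heq j
  rw [if_pos (by rw [hy, Function.update_self]; rfl)] at this
  rw [hy, Function.update_idem, Function.update_eq_self_iff.2 (show (1 : Fin 4) = x₀ j from (Fin.ext hj1).symm)] at this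
  exact hwx₀ this

/-- A product of two or more twists has a vector fixed by the element of order five. -/
theorem norm_five_ne (S : Finset (Fin (2 * m + 1))) (hS : 2 ≤ S.card) :
    ∑ n ∈ Finset.range 5, tensor Q S (five Q ^ n) (top S) ≠ 0 := by
  classical
  intro h
  obtain ⟨j, hj⟩ := Finset.card_pos.1 (by omega : 0 < S.card)
  obtain ⟨j', hj', hne⟩ := Finset.exists_mem_ne (by omega : 1 < S.card) j
  let y : Idx S := fun i => if i = ⟨j, hj⟩ then 1 else 2
  have h' := congrFun h y
  simp only [Finset.sum_apply, tensor_top, Pi.zero_apply] at h'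
  let φ := ZMod.castHom (dvd_refl 2) F
  have hval : ∀ n, (∏ i : ↥S, tw (i : ℕ) ((five Q ^ n).1.1 (y i) 0)) =
      φ ((fiveMat ^ n) 1 0 * (fiveMat ^ n) 2 0) := by
    intro n
    have htw : ∀ (i : ℕ) (z : ZMod 2), tw i (φ z) = φ z := fun i z => by
      obtain rfl | rfl : z = 0 ∨ z = 1 := by revert z; decide
      · rw [map_zero, map_zero]
      · rw [map_one, map_one]
    simp only [five_pow_val Q, Matrix.map_apply]
    rw [Finset.prod_congr rfl fun (i : ↥S) _ => htw (i : ℕ) ((fiveMat ^ n) (y i) 0), ← map_prod φ]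
    congr 1
    rw [← Finset.mul_prod_erase _ _ (Finset.mem_univ (⟨j, hj⟩ : ↥S))]
    have hy1 : y ⟨j, hj⟩ = 1 := if_pos rfl
    rw [hy1]
    congr 1
    have hc : ∀ i ∈ Finset.univ.erase (⟨j, hj⟩ : ↥S), (fiveMat ^ n) (y i) 0 = (fiveMat ^ n) 2 0 := fun i hi => by
      rw [show y i = 2 from if_neg (Finset.ne_of_mem_erase hi)]
    rw [Finset.prod_congr rfl hc, Finset.prod_const]
    have hpow : ∀ (z : ZMod 2) (k : ℕ), k ≠ 0 → z ^ k = z := fun z k hk => by
      obtain rfl | rfl : z = 0 ∨ z = 1 := by revert z; decide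
      · exact zero_pow hk
      · exact one_pow k
    refine hpow _ _ ?_
    rw [Finset.card_erase_of_mem (Finset.mem_univ _), Finset.card_univ, Fintype.card_coe]
    omega
  simp only [hval, ← map_sum] at h'
  rw [show (∑ n ∈ Finset.range 5, (fiveMat ^ n) 1 0 * (fiveMat ^ n) 2 0) = 1 by decide, map_one] at h'
  exact one_ne_zero h'

end Cfsg.Lib.CNStructure
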